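import Cfsg.Agent.H596.OneL2
import Cfsg.Agent.ClassicalGeometry.PSL2Basic

/-!
# Minimal normal abelian subgroups of groups with one character of degree divisible by `p` (helper596)

`Ctx p r N` : `N` is an abelian minimal normal subgroup, an `r`-group, and the irreducible characters
not trivial on `N` have degree prime to `p`. The cases `G ⧸ N` isomorphic to `PSL(2,F)`, `SL(2,F)`.
-/

set_option autoImplicit false

open Cfsg

namespace Cfsg.Agent.H596.OneCtx

open Cfsg.Agent.H596.OneSing Cfsg.Agent.H596.OnePart Cfsg.Agent.H596.OneL2 Cfsg.Agent.H670.PSing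
open Cfsg.Agent.OddOrderCharacters.PF9.CliffGen Cfsg.Agent.OddOrderCharacters.IndRes

universe u

/-- The Itô-Michler property for all finite groups. -/
def AllIM (p : ℕ) : Prop := ∀ (X : Type u) [Group X] [Finite X], IM p X

/-- An abelian minimal normal subgroup `N`, an `r`-group, such that the irreducible characters of `G` not
trivial on `N` have degree prime to `p`. -/
structure Ctx (p r : ℕ) {G : Type u} [Group G] (N : Subgroup G) : Prop where
  norm : N.Normal
  ne : N ≠ ⊥
  min : ∀ M : Subgroup G, M.Normal → M ≤ N → M = ⊥ ∨ M = N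
  comm : ∀ a ∈ N, ∀ b ∈ N, a * b = b * a
  pgr : IsPGroup r N
  pow : ∀ x ∈ N, x ^ r = 1
  prm : Prm p N

section

variable {p : ℕ} {X : Type u} [Group X] [Finite X]

/-- A group with all character degrees prime to `p` has just one Sylow `p`-subgroup. -/
theorem card_sylow_of_IM [Fact p.Prime] (hIM : AllIM.{u} p) (h : nSing p X = 0) :
    Nat.card (Sylow p X) = 1 := by
  have h1 := hIM X (forall_of_nSing_eq_zero h)
  obtain ⟨P⟩ : Nonempty (Sylow p X) := inferInstance
  have := Sylow.unique_of_normal P (h1 P).1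
  exact Nat.card_unique

end

section

variable {p r : ℕ} {G : Type u} [Group G] [Finite G] {N : Subgroup G}

theorem card_hom (hc : ∀ a ∈ N, ∀ b ∈ N, a * b = b * a) : Nat.card (N →* ℂˣ) = Nat.card N := by
  rw [Characters.Linear.card_hom_eq_index_commutator]
  have h : commutator N = ⊥ := by
    rw [commutator_def, Subgroup.commutator_eq_bot_iff_le_centralizer]
    intro a _
    rw [Subgroup.mem_centralizer_iff]
    intro b _
    exact Subtype.ext (hc b b.2 a a.2)
  rw [h, Subgroup.index_bot]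

theorem finite_hom (hc : ∀ a ∈ N, ∀ b ∈ N, a * b = b * a) : Finite (N →* ℂˣ) := by
  apply Nat.finite_of_card_ne_zero
  rw [card_hom hc]
  exact Nat.card_pos.ne'

theorem Ctx.card [hr : Fact r.Prime] (h : Ctx p r N) : ∃ m : ℕ, 0 < m ∧ Nat.card N = r ^ m := by
  obtain ⟨m, hm⟩ := (IsPGroup.iff_card (p := r) (G := N)).1 h.pgr
  refine ⟨m, Nat.pos_of_ne_zero ?_, hm⟩
  rintro rfl
  rw [pow_zero] at hm
  exact h.ne (Subgroup.card_eq_one.1 hm)

/-- A central minimal normal subgroup has prime order. -/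
theorem Ctx.card_eq (h : Ctx p r N) (hr : r.Prime) (hz : N ≤ Subgroup.center G) :
    Nat.card N = r := by
  obtain ⟨x, hx, hx1⟩ := (Subgroup.bot_or_exists_ne_one N).resolve_left h.ne
  have h1 : (Subgroup.zpowers x).Normal := by
    constructor
    intro n hn g
    have h2 : n ∈ Subgroup.center G := hz ((Subgroup.zpowers_le.2 hx) hn)
    rw [Subgroup.mem_center_iff.1 h2 g, mul_inv_cancel_right]
    exact hn
  rcases h.min _ h1 (Subgroup.zpowers_le.2 hx) with h2 | h2
  · exact absurd (Subgroup.zpowers_eq_bot.1 h2) hx1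
  · rw [← h2, Nat.card_zpowers]
    have := Fact.mk hr
    exact orderOf_eq_prime (h.pow x hx) hx1

theorem nSing_ne_zero {q : ℕ} {X : Type u} [Group X] [Finite X] [Fact p.Prime] (hIM : AllIM.{u} p)
    (hq : q ≠ 0) (h : LL p q X) : nSing p X ≠ 0 := by
  intro h0
  have := card_sylow_of_IM hIM h0
  rw [h.card] at this
  omega

/-- The first half of case C. -/
theorem Ctx.core [hp : Fact p.Prime] (h : Ctx p r N) [N.Normal] (hr : r.Prime) (hrp : r ≠ p)
    (hIM : AllIM.{u} p) {a : ℕ} (ha : 0 < a) (hL : LL p (p ^ a) (G ⧸ N))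
    (hperf : commutator (G ⧸ N) = ⊤) :
    N ≤ Subgroup.center G ∧ Nat.card N = r ∧ commutator G = ⊤ := by
  have hrF := Fact.mk hr
  have := finite_hom h.comm
  obtain ⟨m, hm, hcard⟩ := h.card
  have hA : Nat.card (N →* ℂˣ) = r ^ m := by rw [card_hom h.comm, hcard]
  obtain ⟨lam, hlam, hfix⟩ := (hL.arith ha (act N h.comm) hr hm hA
    (fun b hb => exists_sylow_le N h.comm h.prm hb)).resolve_right (fun h1 => hrp h1.1)
  obtain ⟨hz, -⟩ := central_of_fixed N h.min h.comm hlam hfix
  refine ⟨hz, h.card_eq hr hz, ?_⟩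
  -- `N ≤ G'`
  have hn : (N ⊓ commutator G).Normal := inferInstance
  rcases h.min _ hn inf_le_left with h0 | h0
  · exfalso
    have hinv : ∀ g, g ∈ inertia N (fn lam) := by
      intro g
      rw [mem_inertia_iff N h.comm, hfix]; trivial
    obtain ⟨F, hF⟩ := exists_ext_of_central N hperf h0 hinv
    obtain ⟨⟨Q, -, hQ⟩, -⟩ := unique_of_ext N h.comm h.prm (fun T => hIM T) hlam F hF
    have h1 : Nat.card (Sylow p (G ⧸ N)) = 1 := by
      rw [Nat.card_eq_one_iff_unique]
      refine ⟨⟨fun P R => ?_⟩, inferInstance⟩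
      rw [hQ P (by show (P : Subgroup (G ⧸ N)) ≤ _; rw [hfix]; exact le_top),
        hQ R (by show (R : Subgroup (G ⧸ N)) ≤ _; rw [hfix]; exact le_top)]
    rw [hL.card] at h1
    have := pow_pos hp.out.pos a
    omega
  · have h1 : N ≤ commutator G := by rw [← h0]; exact inf_le_right
    have h2 := perfect_sup N hperf
    rwa [sup_eq_right.2 h1] at h2

end

section SL

variable {p r : ℕ} {G : Type u} [Group G] [Finite G] {N : Subgroup G}
variable {F : Type} [Field F] [Fintype F] [CharP F p]

theorem exists_pow [Fact p.Prime] : ∃ a : ℕ, 0 < a ∧ Fintype.card F = p ^ a := by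
  obtain ⟨a, -, ha⟩ := FiniteField.card F p
  exact ⟨a, a.pos, ha⟩

theorem perfect_SL (h4 : 4 ≤ Fintype.card F) :
    commutator (Matrix.SpecialLinearGroup (Fin 2) F) = ⊤ :=
  Cfsg.Agent.TwoFusion.SLTwoFacts.commutator_eq_top (by omega)

theorem perfect_of_surj {X Y : Type*} [Group X] [Group Y] (f : X →* Y) (hf : Function.Surjective f)
    (h : commutator X = ⊤) : commutator Y = ⊤ := by
  have h1 : (commutator X).map f = commutator Y := by
    rw [commutator_def, commutator_def, Subgroup.map_commutator, Subgroup.map_top_of_surjective _ hf]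
  rw [← h1, h, Subgroup.map_top_of_surjective _ hf]

theorem perfect_PSL (h4 : 4 ≤ Fintype.card F) :
    commutator (Matrix.ProjectiveSpecialLinearGroup (Fin 2) F) = ⊤ :=
  perfect_of_surj (QuotientGroup.mk' _) (QuotientGroup.mk'_surjective _) (perfect_SL h4)

/-- Case C, `G ⧸ N = SL(2,F)`: impossible. -/
theorem Ctx.caseC_SL [hp : Fact p.Prime] (h : Ctx p r N) [N.Normal] (hr : r.Prime) (hrp : r ≠ p)
    (hIM : AllIM.{u} p) (h4 : 4 ≤ Fintype.card F)
    (e : G ⧸ N ≃* Matrix.SpecialLinearGroup (Fin 2) F) : False := by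
  obtain ⟨a, ha, hFa⟩ := exists_pow (p := p) (F := F)
  have hL : LL p (p ^ a) (G ⧸ N) := (hFa ▸ ll_SL (F := F) (p := p)).of_equiv e.symm
  obtain ⟨hz, hcard, hG⟩ := h.core hr hrp hIM ha hL
    (perfect_of_surj e.symm.toMonoidHom e.symm.surjective (perfect_SL h4))
  let f : G →* Matrix.SpecialLinearGroup (Fin 2) F := e.toMonoidHom.comp (QuotientGroup.mk' N)
  have hf : Function.Surjective f := e.surjective.comp (QuotientGroup.mk'_surjective N)
  have hk : f.ker = N := by
    ext x
    rw [MonoidHom.mem_ker]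
    show e (QuotientGroup.mk' N x) = 1 ↔ _
    rw [map_eq_one_iff e e.injective]
    exact QuotientGroup.eq_one_iff x
  obtain ⟨η, hη, -⟩ := H686.SLCover.exists_surj hG (perfect_SL (F := F) h4) f hf (by rw [hk]; exact hz)
    (MonoidHom.id _) Function.surjective_id (by
      intro x hx
      have h1 : x = 1 := hx
      rw [h1]; exact one_mem _) (by
      intro r' hr' hd
      rw [hk, hcard] at hd
      have h1 := (Nat.prime_dvd_prime_iff_eq hr' hr).1 hd
      subst h1
      exact H60.CrossA.noPCov_SL_cross 1 p hr' hrp)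
  have h1 : Nat.card G ≤ Nat.card (Matrix.SpecialLinearGroup (Fin 2) F) :=
    Nat.card_le_card_of_surjective η hη
  rw [← Nat.card_congr e.toEquiv, Subgroup.card_eq_card_quotient_mul_card_subgroup N, hcard] at h1
  have h2 : 0 < Nat.card (G ⧸ N) := Nat.card_pos
  have := hr.two_le
  nlinarith

/-- Case C, `G ⧸ N = PSL(2,F)`: then `G = SL(2,F)`. -/
theorem Ctx.caseC_PSL [hp : Fact p.Prime] (h : Ctx p r N) [N.Normal] (hr : r.Prime) (hrp : r ≠ p)
    (hIM : AllIM.{u} p) (h4 : 4 ≤ Fintype.card F)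
    (e : G ⧸ N ≃* Matrix.ProjectiveSpecialLinearGroup (Fin 2) F) :
    Nonempty (G ≃* Matrix.SpecialLinearGroup (Fin 2) F) := by
  obtain ⟨a, ha, hFa⟩ := exists_pow (p := p) (F := F)
  have hL : LL p (p ^ a) (G ⧸ N) := (hFa ▸ ll_PSL (F := F) (p := p)).of_equiv e.symm
  obtain ⟨hz, hcard, hG⟩ := h.core hr hrp hIM ha hL
    (perfect_of_surj e.symm.toMonoidHom e.symm.surjective (perfect_PSL h4))
  let f : G →* Matrix.ProjectiveSpecialLinearGroup (Fin 2) F :=
    e.toMonoidHom.comp (QuotientGroup.mk' N)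
  have hf : Function.Surjective f := e.surjective.comp (QuotientGroup.mk'_surjective N)
  have hk : f.ker = N := by
    ext x
    rw [MonoidHom.mem_ker]
    show e (QuotientGroup.mk' N x) = 1 ↔ _
    rw [map_eq_one_iff e e.injective]
    exact QuotientGroup.eq_one_iff x
  obtain ⟨η, hη, -⟩ := H686.SLCover.exists_surj hG (perfect_SL (F := F) h4) f hf (by rw [hk]; exact hz)
    (QuotientGroup.mk' _) (QuotientGroup.mk'_surjective _) (by
      rw [QuotientGroup.ker_mk']) (by
      intro r' hr' hd
      rw [hk, hcard] at hd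
      have h1 := (Nat.prime_dvd_prime_iff_eq hr' hr).1 hd
      subst h1
      exact H60.CrossA.noPCov_SL_cross 1 p hr' hrp)
  have hZ : Nat.card (Subgroup.center (Matrix.SpecialLinearGroup (Fin 2) F)) ≤ 2 := by
    by_cases h2 : (2 : F) = 0
    · rw [ClassicalGeometry.PSL2Basic.card_center_SL2_even h2]; norm_num
    · rw [ClassicalGeometry.PSL2Basic.card_center_SL2_odd h2]
  have h1 : Nat.card (Matrix.SpecialLinearGroup (Fin 2) F) ≤ Nat.card G := by
    rw [Subgroup.card_eq_card_quotient_mul_card_subgroup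
      (Subgroup.center (Matrix.SpecialLinearGroup (Fin 2) F)),
      Subgroup.card_eq_card_quotient_mul_card_subgroup N, hcard, Nat.card_congr e.toEquiv]
    exact Nat.mul_le_mul le_rfl (hZ.trans hr.two_le)
  have h2 : Function.Bijective η := by
    refine ⟨?_, hη⟩
    have h3 : Nat.card (Matrix.SpecialLinearGroup (Fin 2) F) = Nat.card G :=
      le_antisymm h1 (Nat.card_le_card_of_surjective η hη)
    exact ((Nat.bijective_iff_surjective_and_card η).2 ⟨hη, h3⟩).1
  exact ⟨(MulEquiv.ofBijective η h2).symm⟩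

end SL

end Cfsg.Agent.H596.OneCtx
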