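import Mathlib

/-!
# Weighted orbit counting modulo `p`

A `p`-group `P` acts on a finite set and `w` is an invariant weight: the total weight is congruent
modulo `p` to the weight of the set of fixed points.
-/

set_option autoImplicit false

namespace Cfsg.Agent.H596

open scoped Classical in
/-- The total weight of a finite set under a `p`-group is congruent to the weight of its
fixed points. -/
theorem sum_modEq_sum_fixed {p : ℕ} [Fact p.Prime] {P : Type*} [Group P] (hP : IsPGroup p P)
    {α : Type*} [MulAction P α] [Fintype α] (w : α → ℕ) (hw : ∀ (g : P) (a : α), w (g • a) = w a) :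
    ∑ a : α, w a ≡ ∑ a ∈ Finset.univ.filter (fun a : α => ∀ g : P, g • a = a), w a [MOD p] := by
  have key : ∀ d : ℕ, (Finset.univ.filter (fun a : α => w a = d)).card ≡
      ((Finset.univ.filter (fun a : α => ∀ g : P, g • a = a)).filter
        (fun a : α => w a = d)).card [MOD p] := by
    intro d
    let S : SubMulAction P α :=
      { carrier := {a | w a = d}
        smul_mem' := fun g {a} ha => by
          show w (g • a) = d
          rw [hw]; exact ha }
    have hmem : ∀ a : α, a ∈ S ↔ w a = d := fun a => Iff.rfl
    have h := IsPGroup.card_modEq_card_fixedPoints hP S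
    have e1 : Nat.card S = (Finset.univ.filter (fun a : α => w a = d)).card := by
      rw [← Nat.card_eq_finsetCard]
      exact Nat.card_congr (Equiv.subtypeEquivRight fun a => by simp [hmem])
    have e2 : Nat.card (MulAction.fixedPoints P S) =
        ((Finset.univ.filter (fun a : α => ∀ g : P, g • a = a)).filter
        (fun a : α => w a = d)).card := by
      rw [← Nat.card_eq_finsetCard]
      refine Nat.card_congr
        ⟨fun x => ⟨x.1.1, ?_⟩, fun x => ⟨⟨x.1, ?_⟩, ?_⟩, fun x => rfl, fun x => rfl⟩
      · simp only [Finset.mem_filter, Finset.mem_univ, true_and]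
        exact ⟨fun g => congrArg Subtype.val (x.2 g), x.1.2⟩
      · have := x.2
        simp only [Finset.mem_filter, Finset.mem_univ, true_and] at this
        exact this.2
      · intro g
        have := x.2
        simp only [Finset.mem_filter, Finset.mem_univ, true_and] at this
        exact Subtype.ext (this.1 g)
    rwa [e1, e2] at h
  have hsum : ∀ s : Finset α, ∑ a ∈ s, w a =
      ∑ d ∈ Finset.univ.image w, (s.filter (fun a => w a = d)).card * d := by
    intro s
    rw [← Finset.sum_fiberwise_of_maps_to (t := Finset.univ.image w) (g := w) (f := w)
      (fun a _ => Finset.mem_image_of_mem _ (Finset.mem_univ a))]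
    refine Finset.sum_congr rfl fun d _ => ?_
    rw [Finset.sum_congr rfl (fun a ha => (Finset.mem_filter.1 ha).2), Finset.sum_const,
      smul_eq_mul]
  rw [hsum, hsum]
  exact Nat.ModEq.sum fun d _ => (key d).mul_right d

end Cfsg.Agent.H596
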