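import Cfsg.Agent.H596.Degree
import Cfsg.Agent.CharactersDeep.CosetAverage
import Cfsg.Agent.CharactersDeep.AbelianQuotient
import Cfsg.Agent.CharactersDeep.FeitLinear
import Cfsg.Agent.S0886
import Cfsg.Agent.S4455

/-!
# Characters of a group `U` with cyclic quotient `U / N` and norm `(e² + n - 1) / n`

The arithmetic behind the congruence `e ≡ ± 1` for fully ramified sections with a cyclic group
acting without fixed points.
-/

set_option autoImplicit false

namespace Cfsg.Agent.H596.FrobRam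

open scoped ComplexConjugate
open Cfsg Cfsg.Agent.Characters.Core
open Cfsg.Agent.Blocks.Basic (charDegree_of_eq irr_one_eq_charDegree charDegree_pos)

/-- Integers `a i` (at most `n` of them) with `n ∑ a i ^ 2 - (∑ a i) ^ 2 = n - 1` have sum congruent
to `± 1` modulo `n`. -/
theorem comb {ι : Type*} (S : Finset ι) (a : ι → ℤ) (n : ℕ) (hn : 2 ≤ n) (hS : S.card ≤ n)
    (h : (n : ℤ) * ∑ i ∈ S, a i ^ 2 = (∑ i ∈ S, a i) ^ 2 + n - 1) :
    (n : ℤ) ∣ (∑ i ∈ S, a i) - 1 ∨ (n : ℤ) ∣ (∑ i ∈ S, a i) + 1 := by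
  obtain ⟨e, he⟩ : ∃ e, e = ∑ i ∈ S, a i := ⟨_, rfl⟩
  rw [← he] at h ⊢
  have hn0 : (0 : ℤ) < n := by exact_mod_cast (by omega : 0 < n)
  -- choose the shift
  obtain ⟨c, hc⟩ : ∃ c : ℤ, 2 * |e - n * c| ≤ n := by
    have h1 := Int.emod_nonneg e hn0.ne'
    have h2 := Int.emod_lt_of_pos e hn0
    have h3 := Int.emod_add_mul_ediv e n
    by_cases h4 : 2 * (e % n) ≤ n
    · refine ⟨e / n, ?_⟩
      rw [show e - n * (e / n) = e % n by linarith, abs_of_nonneg h1]; exact h4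
    · refine ⟨e / n + 1, ?_⟩
      rw [show e - n * (e / n + 1) = e % n - n by linarith, abs_of_nonpos (by linarith)]
      linarith
  set s := e - n * c with hs
  set B := ∑ i ∈ S, (a i - c) ^ 2 + ((n : ℤ) - S.card) * c ^ 2 with hB
  have hsq : ∑ i ∈ S, (a i - c) ^ 2 = ∑ i ∈ S, a i ^ 2 - 2 * c * e + S.card * c ^ 2 := by
    rw [he, Finset.mul_sum, ← Finset.sum_sub_distrib]
    have : (S.card : ℤ) * c ^ 2 = ∑ i ∈ S, c ^ 2 := by rw [Finset.sum_const, nsmul_eq_mul]
    rw [this, ← Finset.sum_add_distrib]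
    exact Finset.sum_congr rfl fun i _ => by ring
  have hnB : (n : ℤ) * B = s ^ 2 + n - 1 := by
    rw [hB, hsq]
    have : (n : ℤ) * (∑ i ∈ S, a i ^ 2 - 2 * c * e + S.card * c ^ 2 + (n - S.card) * c ^ 2) =
      n * ∑ i ∈ S, a i ^ 2 - 2 * n * c * e + n ^ 2 * c ^ 2 := by ring
    rw [this, h, hs]; ring
  have hsB : |s| ≤ B := by
    have h1 : s = ∑ i ∈ S, (a i - c) - ((n : ℤ) - S.card) * c := by
      rw [Finset.sum_sub_distrib, Finset.sum_const, nsmul_eq_mul, ← he, hs]; ring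
    have hsqabs : ∀ z : ℤ, |z| ≤ z ^ 2 := by
      intro z
      rw [← sq_abs]
      rcases eq_or_ne z 0 with rfl | hz
      · simp
      · have := Int.one_le_abs hz
        nlinarith
    have hcard : (0 : ℤ) ≤ (n : ℤ) - S.card := by
      have : (S.card : ℤ) ≤ n := by exact_mod_cast hS
      linarith
    rw [h1, hB]
    calc |∑ i ∈ S, (a i - c) - ((n : ℤ) - S.card) * c|
        ≤ |∑ i ∈ S, (a i - c)| + |((n : ℤ) - S.card) * c| := abs_sub _ _
      _ ≤ ∑ i ∈ S, |a i - c| + ((n : ℤ) - S.card) * |c| := by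
          rw [abs_mul, abs_of_nonneg hcard]
          exact add_le_add_left (Finset.abs_sum_le_sum_abs _ _) _
      _ ≤ _ := by
          refine add_le_add (Finset.sum_le_sum fun i _ => hsqabs _) ?_
          exact mul_le_mul_of_nonneg_left (hsqabs c) hcard
  have habs : 0 ≤ |s| := abs_nonneg s
  have hsq2 : s ^ 2 = |s| ^ 2 := (sq_abs s).symm
  have hle1 : |s| ≤ 1 := by
    by_contra hcon
    push Not at hcon
    have h1 : (n : ℤ) * |s| ≤ n * B := mul_le_mul_of_nonneg_left hsB hn0.le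
    rw [hnB, hsq2] at h1
    nlinarith
  have hs0 : s ≠ 0 := by
    intro h0
    rw [h0] at hnB
    have : (n : ℤ) ∣ 1 := ⟨1 - B, by linarith⟩
    have := Int.le_of_dvd one_pos this
    have : (2 : ℤ) ≤ n := by exact_mod_cast hn
    linarith
  have hs1 : s = 1 ∨ s = -1 := by
    have h1 := Int.one_le_abs hs0
    have h2 : |s| = 1 := le_antisymm hle1 h1
    exact abs_eq (by norm_num : (0 : ℤ) ≤ 1) |>.1 h2
  rcases hs1 with h1 | h1
  · left
    exact ⟨c, by linarith⟩
  · right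
    exact ⟨c, by linarith⟩

/-- Characters of `U` with `U / N` cyclic and `θ ∈ Irr(N)` invariant: a character `ξ` with
`ξ_N = e θ` and norm `(e² + n - 1) / n`, `n = |U : N|`, has `e ≡ ± 1` modulo `n`. -/
theorem congr_of_norm {U : Type*} [Group U] [Fintype U] (N : Subgroup U) [hN : N.Normal]
    [Fintype N] (hcyc : IsCyclic (U ⧸ N)) (hn : 2 ≤ N.index) (θ : N → ℂ) (hθ : IsIrrCharacter N θ)
    (hinv : ∀ (g : U) (n : N), θ ⟨g * n * g⁻¹, hN.conj_mem (n : U) n.2 g⟩ = θ n)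
    (ξ : U → ℂ) (hξ : IsCharacter U ξ) (e : ℕ) (hres : ∀ n : N, ξ n = e * θ n)
    (hnorm : (N.index : ℂ) * classInner ξ ξ = e ^ 2 + N.index - 1) :
    (N.index : ℤ) ∣ (e : ℤ) - 1 ∨ (N.index : ℤ) ∣ (e : ℤ) + 1 := by
  classical
  have := finite_irr (G := U)
  have := Fintype.ofFinite (IrrCharacter U)
  obtain ⟨θ', hθ', hext⟩ := S0886.result N hcyc θ hθ hinv
  have hθN : (fun n : N => θ' n) = θ := funext hext
  -- commutative quotient
  have hab : ∀ x y : U, x * y * x⁻¹ * y⁻¹ ∈ N := by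
    intro x y
    rw [← QuotientGroup.eq_one_iff]
    show (x : U ⧸ N) * y * (x : U ⧸ N)⁻¹ * (y : U ⧸ N)⁻¹ = 1
    let _ := IsCyclic.commGroup (α := U ⧸ N)
    have h1 : (x : U ⧸ N) * y = y * x := mul_comm _ _
    rw [h1]; group
  obtain ⟨Λ, hΛ, hΛc, -, -⟩ := CharactersDeep.AbelianQuotient.exists_linear_dual N hab
  -- characters of `U` over `θ`
  have hover : ∀ ζ : IrrCharacter U, classInner (fun n : N => (ζ : U → ℂ) n) θ ≠ 0 →
      ∃ l ∈ Λ, (ζ : U → ℂ) = fun g => θ' g * (l g : ℂ) := by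
    intro ζ hζ
    obtain ⟨η, hη, hηN, hηeq⟩ := CharactersDeep.CosetAverage.exists_irr_mul N θ' hθ'
      (by rw [hθN]; exact hθ) ζ.1 ζ.2 (by rw [hθN]; exact hζ)
    -- `η` is linear
    have hη1 : η 1 = 1 := CharactersDeep.FeitLinear.apply_one_eq_one N hab hη fun k hk => by
      have := hηN ⟨k, hk⟩ 1
      rwa [mul_one] at this
    obtain ⟨l, hl⟩ := Characters.Linear.exists_hom_of_isIrrCharacter hη hη1
    refine ⟨l, ?_, ?_⟩
    · rw [hΛ]
      intro n hn
      have h1 := hηN ⟨n, hn⟩ 1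
      rw [mul_one, hl] at h1
      ext
      rw [show ((l n : ℂˣ) : ℂ) = ((l 1 : ℂˣ) : ℂ) from h1, map_one]
    · rw [hηeq, hl]; rfl
  have hθ'1 : θ' 1 = θ 1 := hext 1
  have hθ1 : θ 1 ≠ 0 := isIrr_apply_one_ne_zero hθ
  -- coefficients of `ξ`
  obtain ⟨c, hc, hc'⟩ := CharDeep.CliffordCorr.exists_nat_coeffs hξ
  have hcover : ∀ ζ : IrrCharacter U, c ζ ≠ 0 → classInner (fun n : N => (ζ : U → ℂ) n) θ ≠ 0 := by
    intro ζ hζ h0
    -- `ξ_N = e θ`, and `ζ_N` is a constituent of `ξ_N`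
    have hζN : IsCharacter N (fun n : N => (ζ : U → ℂ) n) :=
      Characters.Clifford.isCharacter_restrict N (isIrr_isCharacter ζ.2)
    obtain ⟨φ, hφ, hφ'⟩ := S4455.exists_constituent hζN (isIrr_apply_one_ne_zero ζ.2)
    have h1 : classInner (fun n : N => ξ n) φ ≠ 0 := by
      have h2 : (fun n : N => ξ n) = ∑ η : IrrCharacter U, (c η : ℂ) • (fun n : N => (η : U → ℂ) n) := by
        funext n
        rw [hc, Finset.sum_apply, Finset.sum_apply]
        rfl
      rw [h2, classInner_sum_left]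
      have h3 : ∀ η : IrrCharacter U, ∃ k : ℕ, classInner (fun n : N => (η : U → ℂ) n) φ = k :=
        fun η => classInner_isNat (Characters.Clifford.isCharacter_restrict N
          (isIrr_isCharacter η.2)) (isIrr_isCharacter hφ)
      choose k hk using h3
      have h4 : ∑ η : IrrCharacter U, classInner ((c η : ℂ) • (fun n : N => (η : U → ℂ) n)) φ =
          ((∑ η : IrrCharacter U, c η * k η : ℕ) : ℂ) := by
        push_cast
        refine Finset.sum_congr rfl fun η _ => ?_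
        rw [classInner_smul_left, hk]
      rw [h4, Nat.cast_ne_zero]
      intro h5
      have h6 := (Finset.sum_eq_zero_iff.1 h5) ζ (Finset.mem_univ _)
      rcases Nat.mul_eq_zero.1 h6 with h7 | h7
      · exact hζ h7
      · apply hφ'
        rw [hk, h7, Nat.cast_zero]
    have h2 : (fun n : N => ξ n) = (e : ℂ) • θ := funext hres
    rw [h2, classInner_smul_left] at h1
    have h3 : θ = φ := by
      by_contra hne
      apply h1
      rw [classInner_irr_ne hθ hφ hne, mul_zero]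
    exact hφ' (h3 ▸ h0)
  let S : Finset (IrrCharacter U) := Finset.univ.filter fun ζ => c ζ ≠ 0
  have hSlin : ∀ ζ ∈ S, ∃ l ∈ Λ, (ζ : U → ℂ) = fun g => θ' g * (l g : ℂ) := fun ζ hζ =>
    hover ζ (hcover ζ (Finset.mem_filter.1 hζ).2)
  have hScard : S.card ≤ N.index := by
    rw [← hΛc]
    choose! f hf hf' using hSlin
    refine Finset.card_le_card_of_injOn f hf ?_
    intro ζ hζ ζ' hζ' h
    apply Subtype.ext
    rw [hf' ζ hζ, hf' ζ' hζ', h]
  have hSdeg : ∀ ζ ∈ S, (ζ : U → ℂ) 1 = θ 1 := by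
    intro ζ hζ
    obtain ⟨l, -, hl⟩ := hSlin ζ hζ
    rw [hl]
    show θ' 1 * (l 1 : ℂ) = θ 1
    rw [map_one, Units.val_one, mul_one, hθ'1]
  have hsum : ∑ ζ ∈ S, c ζ = e := by
    have h1 : ξ 1 = e * θ 1 := hres 1
    have h2 : ξ 1 = (∑ ζ ∈ S, (c ζ : ℂ)) * θ 1 := by
      rw [hc, Finset.sum_apply, Finset.sum_mul, ← Finset.sum_filter_ne_zero]
      rw [← Finset.sum_filter_ne_zero (s := S)]
      refine Finset.sum_congr ?_ fun ζ hζ => ?_
      · ext ζ
        simp only [Finset.mem_filter, Finset.mem_univ, true_and, S, Pi.smul_apply, smul_eq_mul,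
          ne_eq, mul_eq_zero, Nat.cast_eq_zero, not_or, isIrr_apply_one_ne_zero ζ.2, hθ1,
          not_false_eq_true, and_true, and_self]
      · have h3 : ζ ∈ S := by
          rw [Finset.mem_filter] at hζ
          refine Finset.mem_filter.2 ⟨Finset.mem_univ _, fun h0 => hζ.2 ?_⟩
          rw [h0]; simp
        rw [Pi.smul_apply, smul_eq_mul, hSdeg ζ h3]
    rw [h1] at h2
    have h3 := mul_right_cancel₀ hθ1 h2
    exact_mod_cast h3.symm
  have hsq : ((∑ ζ ∈ S, c ζ ^ 2 : ℕ) : ℂ) = classInner ξ ξ := by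
    have h1 : classInner ξ ξ = ∑ ζ : IrrCharacter U, (c ζ : ℂ) * conj (c ζ : ℂ) := by
      conv_lhs => rw [hc]
      exact classInner_sum_smul_sum_smul _ _
    rw [h1]
    push_cast
    rw [Finset.sum_filter]
    refine Finset.sum_congr rfl fun ζ _ => ?_
    split_ifs with h
    · rw [Complex.conj_natCast, sq]
    · rw [not_not] at h
      rw [h]; simp
  rw [← hsq] at hnorm
  have hnorm' : (N.index : ℤ) * ∑ ζ ∈ S, (c ζ : ℤ) ^ 2 = (e : ℤ) ^ 2 + N.index - 1 := by
    have h1 : (((N.index : ℤ) * ∑ ζ ∈ S, (c ζ : ℤ) ^ 2 : ℤ) : ℂ) =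
        (((e : ℤ) ^ 2 + N.index - 1 : ℤ) : ℂ) := by
      push_cast
      push_cast at hnorm
      exact hnorm
    exact_mod_cast h1
  have hsum' : ∑ ζ ∈ S, (c ζ : ℤ) = e := by exact_mod_cast hsum
  have := comb S (fun ζ => (c ζ : ℤ)) N.index hn hScard (by rw [hnorm', hsum'])
  rwa [hsum'] at this

end Cfsg.Agent.H596.FrobRam
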