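import Cfsg.Agent.H671.H5Facts
import Cfsg.Agent.H670.PSolv
import Cfsg.Agent.H670.Bound
import Cfsg.Agent.H33.IM
import Cfsg.Agent.Blocks.BlockKer
import Cfsg.Agent.Lib.MinNormalNonabelian
import Cfsg.Agent.Lib.SubnormalJoin

/-!
# The derived length of a Sylow subgroup and the characters of degree divisible by `p` (helper596)

Reduction of the bound `dl(P) ≤ nSing p G + 1` to the finite simple groups (hub H5, task 383).

* `FactDl` : the simple group fact (= S4769);
* `dser` : the derived series of a subgroup, as a series of subgroups;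
* `exists_finset` : `N` a minimal normal subgroup of `G`, `K` a maximal normal subgroup of `N`, `N ⧸ K` not
  abelian: the irreducible characters of `N ⧸ K` of degree divisible by `p` are covered, up to
  automorphisms, by a set of `nSing p G - nSing p (G ⧸ N)` functions;
* `bound_step_nonabelian` : the inductive step for a nonabelian minimal normal subgroup;
* `red` : the reduction.
-/

set_option autoImplicit false

open Cfsg
open scoped commutatorElement

namespace Cfsg.Agent.H596.DerLen

open Cfsg.Agent.Characters.Core Cfsg.Agent.OddOrderCharacters.IndRes Cfsg.Agent.H671.H5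
  Cfsg.Agent.Blocks.Knorr Cfsg.Agent.H670.PSing

universe u

/-- The bound for the derived length of the Sylow subgroups of simple groups (= S4769). -/
def FactDl : Prop := ∀ (S : Type u) [Group S] [Finite S] [IsSimpleGroup S], ¬ IsMulCommutative S →
  ∀ (p : ℕ) [Fact p.Prime], p ∣ Nat.card S → ∀ (P : Sylow p S) (T : Finset (S → ℂ)),
  (∀ χ : Cfsg.IrrCharacter S, p ∣ Cfsg.charDegree (χ : S → ℂ) →
    ∃ ψ ∈ T, ∃ σ : S ≃* S, ∀ g : S, (χ : S → ℂ) g = ψ (σ g)) →
  derivedSeries ↥(P : Subgroup S) T.card = ⊥

section Derived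

variable {H L : Type*} [Group H] [Group L]

/-- The derived series of a subgroup. -/
def dser (A : Subgroup H) : ℕ → Subgroup H
  | 0 => A
  | n + 1 => ⁅dser A n, dser A n⁆

theorem dser_zero (A : Subgroup H) : dser A 0 = A := rfl

theorem dser_succ (A : Subgroup H) (n : ℕ) : dser A (n + 1) = ⁅dser A n, dser A n⁆ := rfl

theorem dser_mono {A B : Subgroup H} (h : A ≤ B) (n : ℕ) : dser A n ≤ dser B n := by
  induction n with
  | zero => exact h
  | succ n ih => exact Subgroup.commutator_mono ih ih

theorem dser_map (f : H →* L) (A : Subgroup H) (n : ℕ) : (dser A n).map f = dser (A.map f) n := by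
  induction n with
  | zero => rfl
  | succ n ih => rw [dser_succ, dser_succ, Subgroup.map_commutator, ih]

theorem dser_add (A : Subgroup H) (m n : ℕ) : dser A (m + n) = dser (dser A m) n := by
  induction n with
  | zero => rfl
  | succ n ih => rw [← add_assoc, dser_succ, dser_succ, ih]

theorem map_derivedSeries (A : Subgroup H) (n : ℕ) :
    (derivedSeries ↥A n).map A.subtype = dser A n := by
  induction n with
  | zero =>
    rw [derivedSeries_zero, dser_zero, ← MonoidHom.range_eq_map, Subgroup.range_subtype]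
  | succ n ih => rw [derivedSeries_succ, Subgroup.map_commutator, ih, dser_succ]

theorem derivedSeries_eq_bot_iff (A : Subgroup H) (n : ℕ) :
    derivedSeries ↥A n = ⊥ ↔ dser A n = ⊥ := by
  rw [← map_derivedSeries, Subgroup.map_eq_bot_iff_of_injective _ A.subtype_injective]

theorem dser_antitone (A : Subgroup H) {m n : ℕ} (h : m ≤ n) : dser A n ≤ dser A m := by
  rw [← map_derivedSeries, ← map_derivedSeries]
  exact Subgroup.map_mono (derivedSeries_antitone _ h)

end Derived

section

variable {G : Type u} [Group G] [Finite G] {p : ℕ}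

/-- A `p`-subgroup of the minimal normal subgroup `N`: derived length bounded by that of the Sylow
`p`-subgroups of `N ⧸ K`. -/
theorem dser_eq_bot [hp : Fact p.Prime] (N : Subgroup G) [hN : N.Normal]
    (hmin : ∀ M : Subgroup G, M.Normal → M ≤ N → M = ⊥ ∨ M = N)
    (K : Subgroup N) [K.Normal] (hK : K ≠ ⊤) {d : ℕ}
    (hd : ∀ R : Sylow p (N ⧸ K), derivedSeries ↥(R : Subgroup (N ⧸ K)) d = ⊥)
    (B : Subgroup G) (hB : IsPGroup p B) (hBN : B ≤ N) : dser B d = ⊥ := by
  -- the core of `K`
  let D : Subgroup G := (K.map N.subtype).normalCore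
  have hDle : D ≤ K.map N.subtype := Subgroup.normalCore_le _
  have hDb : D = ⊥ := by
    rcases hmin D inferInstance (hDle.trans (Subgroup.map_subtype_le K)) with h | h
    · exact h
    · exfalso
      apply hK
      rw [eq_top_iff]
      intro x _
      have h1 : (x : G) ∈ D := by rw [h]; exact x.2
      obtain ⟨y, hy, hyx⟩ := hDle h1
      have : y = x := Subtype.ext hyx
      exact this ▸ hy
  rw [eq_bot_iff, ← hDb]
  intro x hx g
  have hBN' : (B.subgroupOf N).map N.subtype = B := by
    rw [Subgroup.subgroupOf_map_subtype]; exact inf_eq_left.2 hBN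
  rw [← hBN', ← dser_map] at hx
  obtain ⟨y, hy, rfl⟩ := hx
  refine ⟨MulAut.conjNormal g y, ?_, by simp⟩
  let f : N →* (N ⧸ K) := (QuotientGroup.mk' K).comp (MulAut.conjNormal g : MulAut N).toMonoidHom
  have hpg : IsPGroup p ((B.subgroupOf N).map f) := by
    refine IsPGroup.map ?_ f
    exact hB.of_equiv (Subgroup.subgroupOfEquivOfLe hBN).symm
  obtain ⟨R, hR⟩ := hpg.exists_le_sylow
  have h1 : f y ∈ dser ((B.subgroupOf N).map f) d := by
    rw [← dser_map]
    exact Subgroup.mem_map_of_mem f hy
  have h2 := dser_mono hR d h1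
  rw [(derivedSeries_eq_bot_iff _ _).1 (hd R), Subgroup.mem_bot] at h2
  exact (QuotientGroup.eq_one_iff _).1 h2

/-- A nontrivial irreducible character of a simple group is faithful. -/
theorem faithful_of_simple {S : Type u} [Group S] [Finite S] [IsSimpleGroup S] {θ : S → ℂ}
    (hθ : IsIrrCharacter S θ) (hne : θ ≠ 1) {x : S} (hx : θ x = θ 1) : x = 1 := by
  classical
  have : Fintype S := Fintype.ofFinite S
  obtain ⟨K, hK, hKmem⟩ := Blocks.BlockKer.exists_kernel hθ
  rcases hK.eq_bot_or_eq_top with h | h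
  · have h1 := (hKmem x).2 hx
    rwa [h, Subgroup.mem_bot] at h1
  · exfalso
    have h1 : θ = θ 1 • (1 : S → ℂ) := by
      funext g
      have h2 := (hKmem g).1 (by rw [h]; trivial)
      rw [Pi.smul_apply, Pi.one_apply, smul_eq_mul, mul_one, h2]
    have h2 : classInner θ (1 : S → ℂ) = 0 := classInner_irr_ne hθ isIrr_one hne
    rw [h1, classInner_smul_left, classInner_irr_self isIrr_one, mul_one] at h2
    exact isIrr_apply_one_ne_zero hθ h2

/-- The covering set. -/
theorem exists_finset [hp : Fact p.Prime] (N : Subgroup G) [hN : N.Normal]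
    (K : Subgroup N) [hKn : K.Normal] [IsSimpleGroup (N ⧸ K)] :
    ∃ T : Finset (N ⧸ K → ℂ), T.card + nSing p (G ⧸ N) ≤ nSing p G ∧
      ∀ χ : Cfsg.IrrCharacter (N ⧸ K), p ∣ Cfsg.charDegree (χ : N ⧸ K → ℂ) →
        ∃ ψ ∈ T, ∃ σ : (N ⧸ K) ≃* (N ⧸ K), ∀ g : N ⧸ K, (χ : N ⧸ K → ℂ) g = ψ (σ g) := by
  classical
  have : Fintype G := Fintype.ofFinite G
  have : Fintype N := Fintype.ofFinite N
  have : Finite (IrrCharacter G) := finite_irr
  let X := {χ : IrrCharacter G // p ∣ charDegree (χ : G → ℂ)}
  have : Fintype X := Fintype.ofFinite X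
  let Y : Finset X := Finset.univ.filter fun χ => ∃ n ∈ N, (χ.1 : G → ℂ) n ≠ (χ.1 : G → ℂ) 1
  -- the function on characters
  let R : X → (N ⧸ K → ℂ) → Prop := fun χ θ => IsIrrCharacter (N ⧸ K) θ ∧ θ ≠ 1 ∧
    classInner (res N (χ.1 : G → ℂ)) (θ ∘ (QuotientGroup.mk' K)) ≠ 0
  let Φ : X → (N ⧸ K → ℂ) := fun χ => if h : ∃ θ, R χ θ then h.choose else 0
  refine ⟨Y.image Φ, ?_, ?_⟩
  · -- counting
    have h1 : (Y.image Φ).card ≤ Y.card := Finset.card_image_le
    have h2 : nSing p (G ⧸ N) ≤ (Finset.univ \ Y).card := by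
      have : Finite (IrrCharacter (G ⧸ N)) := finite_irr
      rw [nSing, ← Fintype.card_coe, ← Nat.card_eq_fintype_card]
      refine Nat.card_le_card_of_injective
        (fun χ => (⟨inflSing p N χ, ?_⟩ : (Finset.univ \ Y : Finset X))) ?_
      · rw [Finset.mem_sdiff]
        refine ⟨Finset.mem_univ _, ?_⟩
        intro h
        obtain ⟨-, n, hn, h3⟩ := Finset.mem_filter.1 h
        apply h3
        have h4 : QuotientGroup.mk' N n = 1 := (QuotientGroup.eq_one_iff n).2 hn
        rw [inflSing_apply, inflSing_apply, map_one, h4]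
      · intro χ ψ h
        exact inflSing_injective N (congrArg Subtype.val h)
    have h3 : (Finset.univ \ Y).card + Y.card = nSing p G := by
      rw [Finset.card_sdiff_add_card_eq_card (Finset.subset_univ Y), Finset.card_univ, nSing,
        Nat.card_eq_fintype_card]
    omega
  · intro θ hθ
    have hθN : IsIrrCharacter N ((θ : N ⧸ K → ℂ) ∘ (QuotientGroup.mk' K)) :=
      isIrr_comp (QuotientGroup.mk' K) (QuotientGroup.mk'_surjective K) θ.2
    have hdegN : charDegree ((θ : N ⧸ K → ℂ) ∘ (QuotientGroup.mk' K)) =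
        charDegree (θ : N ⧸ K → ℂ) := by
      apply charDegree_eq_of
      show (θ : N ⧸ K → ℂ) (QuotientGroup.mk' K 1) = _
      rw [map_one, charDegree_eq θ.2]
    have hθne : (θ : N ⧸ K → ℂ) ≠ 1 := by
      intro h
      have h1 : charDegree (θ : N ⧸ K → ℂ) = 1 := by
        apply charDegree_eq_of
        rw [h]; simp
      rw [h1] at hθ
      exact hp.out.one_lt.ne' (Nat.dvd_one.1 hθ)
    have hne : (θ : N ⧸ K → ℂ) ∘ (QuotientGroup.mk' K) ≠ 1 := by
      intro h
      apply hθne
      funext x
      obtain ⟨n, rfl⟩ := QuotientGroup.mk'_surjective K x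
      exact congrFun h n
    obtain ⟨χ, hχ⟩ := Blocks.Over.exists_over N ⟨_, hθN⟩
    have hχd : p ∣ charDegree (χ : G → ℂ) := by
      refine hθ.trans ?_
      rw [← hdegN]
      exact degree_dvd_of_over N hθN χ.2 hχ
    have hχY : (⟨χ, hχd⟩ : X) ∈ Y :=
      Finset.mem_filter.2 ⟨Finset.mem_univ _, exists_ne_of_over N hθN hne hχ⟩
    have hex : ∃ θ', R ⟨χ, hχd⟩ θ' := ⟨θ, θ.2, hθne, hχ⟩
    have hΦ : R ⟨χ, hχd⟩ (Φ ⟨χ, hχd⟩) := by
      show R _ (if h : ∃ θ, R ⟨χ, hχd⟩ θ then h.choose else 0)
      rw [dif_pos hex]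
      exact hex.choose_spec
    refine ⟨Φ ⟨χ, hχd⟩, Finset.mem_image_of_mem Φ hχY, ?_⟩
    obtain ⟨h1, h2, h3⟩ := hΦ
    set θ' := Φ ⟨χ, hχd⟩ with hθ'
    have hθN' : IsIrrCharacter N (θ' ∘ (QuotientGroup.mk' K)) :=
      isIrr_comp (QuotientGroup.mk' K) (QuotientGroup.mk'_surjective K) h1
    obtain ⟨g, hg⟩ := Characters.Clifford.exists_conj_of_constituents N χ.2 hθN' hθN h3 hχ
    have hval : ∀ n : N, (θ : N ⧸ K → ℂ) (QuotientGroup.mk' K n) =
        θ' (QuotientGroup.mk' K (MulAut.conjNormal g n)) := fun n => congrFun hg n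
    have hmem : ∀ n : N, n ∈ K ↔ (MulAut.conjNormal g : MulAut N) n ∈ K := by
      intro n
      constructor
      · intro hn
        have h4 := hval n
        have h5 : QuotientGroup.mk' K n = 1 := (QuotientGroup.eq_one_iff n).2 hn
        have h6 := hval 1
        rw [h5, ← map_one (QuotientGroup.mk' K), h6, map_one, map_one] at h4
        exact (QuotientGroup.eq_one_iff _).1 (faithful_of_simple h1 h2 h4.symm)
      · intro hn
        have h4 := hval n
        have h5 : QuotientGroup.mk' K (MulAut.conjNormal g n) = 1 :=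
          (QuotientGroup.eq_one_iff _).2 hn
        have h6 := hval 1
        rw [map_one, map_one, map_one] at h6
        rw [h5, ← h6] at h4
        exact (QuotientGroup.eq_one_iff _).1 (faithful_of_simple θ.2 hθne h4)
    have hmap : K.map ((MulAut.conjNormal g : MulAut N).toMonoidHom) = K := by
      ext x
      constructor
      · rintro ⟨y, hy, rfl⟩
        exact (hmem y).1 hy
      · intro hx
        refine ⟨(MulAut.conjNormal g : MulAut N).symm x, (hmem _).2 ?_, ?_⟩
        · rw [MulEquiv.apply_symm_apply]; exact hx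
        · exact MulEquiv.apply_symm_apply _ x
    refine ⟨QuotientGroup.congr K K (MulAut.conjNormal g : MulAut N) hmap, ?_⟩
    intro x
    obtain ⟨n, rfl⟩ := QuotientGroup.mk'_surjective K x
    exact hval n

/-- Each nontrivial finite group has a maximal normal subgroup. -/
theorem exists_maximal_normal (N : Type u) [Group N] [Finite N] [Nontrivial N] :
    ∃ K : Subgroup N, ∃ _ : K.Normal, K ≠ ⊤ ∧ IsSimpleGroup (N ⧸ K) := by
  have hfin : Set.Finite {L : Subgroup N | L.Normal ∧ L ≠ ⊤} := Set.toFinite _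
  obtain ⟨K, hK⟩ := hfin.exists_maximal ⟨⊥, inferInstance, bot_ne_top⟩
  have hKn : K.Normal := hK.prop.1
  refine ⟨K, hKn, hK.prop.2, ?_⟩
  have hnt : Nontrivial (N ⧸ K) := by
    by_contra h
    rw [not_nontrivial_iff_subsingleton] at h
    exact hK.prop.2 (QuotientGroup.subgroup_eq_top_of_subsingleton K h)
  refine ⟨fun L hL => ?_⟩
  by_cases h : L.comap (QuotientGroup.mk' K) = ⊤
  · right
    rw [eq_top_iff]
    intro x _
    obtain ⟨n, rfl⟩ := QuotientGroup.mk'_surjective K x
    have h1 : n ∈ L.comap (QuotientGroup.mk' K) := by rw [h]; trivial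
    exact h1
  · left
    have h1 : K ≤ L.comap (QuotientGroup.mk' K) := by
      intro k hk
      have h2 : QuotientGroup.mk' K k = 1 := (QuotientGroup.eq_one_iff k).2 hk
      rw [Subgroup.mem_comap, h2]
      exact L.one_mem
    have h2 : L.comap (QuotientGroup.mk' K) ≤ K := hK.le_of_ge ⟨hL.comap _, h⟩ h1
    rw [eq_bot_iff]
    intro x hx
    obtain ⟨n, rfl⟩ := QuotientGroup.mk'_surjective K x
    exact (QuotientGroup.eq_one_iff n).2 (h2 hx)

/-- The inductive step for a nonabelian minimal normal subgroup. -/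
theorem bound_step_nonabelian [hp : Fact p.Prime] (hDl : FactDl.{u}) (N : Subgroup G) [hN : N.Normal]
    (hN1 : N ≠ ⊥) (hmin : ∀ M : Subgroup G, M.Normal → M ≤ N → M = ⊥ ∨ M = N)
    (hna : ¬ ∀ x ∈ N, ∀ y ∈ N, Commute x y) (hpN : p ∣ Nat.card N)
    (ih : ∀ Q : Sylow p (G ⧸ N), derivedSeries ↥(Q : Subgroup (G ⧸ N)) (nSing p (G ⧸ N) + 1) = ⊥)
    (P : Sylow p G) : derivedSeries ↥(P : Subgroup G) (nSing p G + 1) = ⊥ := by
  have : Nontrivial N := (Subgroup.nontrivial_iff_ne_bot N).2 hN1
  obtain ⟨K, hKn, hKt, hKs⟩ := exists_maximal_normal N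
  have hnc : ¬ IsMulCommutative (N ⧸ K) := by
    intro hc
    have h1 : commutator N ≤ K := by
      rw [commutator_def, Subgroup.commutator_le]
      intro a _ b _
      rw [← QuotientGroup.eq_one_iff]
      have h2 := hc.is_comm.comm (QuotientGroup.mk' K a) (QuotientGroup.mk' K b)
      show QuotientGroup.mk' K ⁅a, b⁆ = 1
      rw [map_commutatorElement, commutatorElement_eq_one_iff_mul_comm]
      exact h2
    have h2 : ((commutator N).map N.subtype).Normal :=
      ConjAct.normal_of_characteristic_of_normal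
    rcases hmin _ h2 (Subgroup.map_subtype_le _) with h3 | h3
    · apply hna
      intro x hx y hy
      rw [Subgroup.map_eq_bot_iff_of_injective _ N.subtype_injective] at h3
      have h4 : ⁅(⟨x, hx⟩ : N), ⟨y, hy⟩⁆ ∈ commutator N :=
        Subgroup.commutator_mem_commutator (Subgroup.mem_top _) (Subgroup.mem_top _)
      rw [h3, Subgroup.mem_bot, commutatorElement_eq_one_iff_mul_comm] at h4
      exact congrArg Subtype.val h4
    · apply hKt
      rw [eq_top_iff]
      intro x _
      have h4 : (x : G) ∈ (commutator N).map N.subtype := by rw [h3]; exact x.2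
      obtain ⟨y, hy, hyx⟩ := h4
      have h5 : y = x := Subtype.ext hyx
      exact h1 (h5 ▸ hy)
  have hpK : p ∣ Nat.card (N ⧸ K) := by
    by_contra hcon
    obtain ⟨x, hx⟩ := exists_prime_orderOf_dvd_card' (G := N) p hpN
    have h1 : IsPGroup p (Subgroup.zpowers (x : G)) := by
      apply IsPGroup.of_card (n := 1)
      rw [Nat.card_zpowers, Subgroup.orderOf_coe, hx, pow_one]
    have h2 := dser_eq_bot (d := 0) N hmin K hKt (fun R => by
      have h3 : Nat.card R = 1 := by
        obtain ⟨k, hk⟩ := (IsPGroup.iff_card (p := p)).1 R.isPGroup'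
        rcases Nat.eq_zero_or_pos k with h0 | h0
        · rw [hk, h0, pow_zero]
        · exact absurd ((dvd_pow_self p h0.ne').trans
            (hk ▸ Subgroup.card_subgroup_dvd_card (R : Subgroup (N ⧸ K)))) hcon
      have h4 : Subsingleton R := (Nat.card_eq_one_iff_unique.1 h3).1
      exact Subsingleton.elim _ _) _ h1 (by
        rw [Subgroup.zpowers_le]; exact x.2)
    rw [dser_zero, Subgroup.zpowers_eq_bot] at h2
    rw [← Subgroup.orderOf_coe, h2, orderOf_one] at hx
    exact hp.out.one_lt.ne hx
  obtain ⟨T, hT1, hT2⟩ := exists_finset (p := p) N K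
  have hd : ∀ R : Sylow p (N ⧸ K), derivedSeries ↥(R : Subgroup (N ⧸ K)) T.card = ⊥ :=
    fun R => hDl (N ⧸ K) hnc p hpK R T hT2
  have h1 := derivedSeries_le_of_quotient N P (ih _)
  have h2 : dser (P : Subgroup G) (nSing p (G ⧸ N) + 1) ≤ N := by
    rw [← map_derivedSeries]
    rintro _ ⟨x, hx, rfl⟩
    exact h1 hx
  have h3 : IsPGroup p (dser (P : Subgroup G) (nSing p (G ⧸ N) + 1)) :=
    P.isPGroup'.to_le (dser_antitone (P : Subgroup G) (Nat.zero_le _))
  have h4 := dser_eq_bot N hmin K hKt hd _ h3 h2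
  rw [← dser_add] at h4
  rw [derivedSeries_eq_bot_iff, eq_bot_iff, ← h4]
  exact dser_antitone _ (by omega)

/-- A finite group all of whose irreducible characters have degree prime to `p` is `p`-solvable. -/
theorem isPSolvable_of_fact [hp : Fact p.Prime] (hIM : FactIM.{u}) (n : ℕ) :
    ∀ (G : Type u) [Group G] [Finite G], Nat.card G ≤ n → ¬ H33.IM p G → IsPSolvable p G := by
  induction n with
  | zero =>
    intro G _ _ hn
    exact absurd hn (by have := Nat.card_pos (α := G); omega)
  | succ n ih =>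
    intro G _ _ hn hG
    by_cases hc : IsMulCommutative G
    · have : Group.IsSolvable G := by
        apply Group.isSolvable_of_comm
        exact fun a b => hc.is_comm.comm a b
      exact Lib.PSolvable.IsPSolvable_of_solvable p
    by_cases hs : IsSimpleGroup G
    · by_cases hd : p ∣ Nat.card G
      · exact absurd (hIM G hc p hp.out hd) hG
      · exact PLocal.PSolvable.isPSolvable_of_coprime
          ((Nat.Prime.coprime_iff_not_dvd hp.out).2 hd).symm
    have hnt : Nontrivial G := by
      by_contra h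
      rw [not_nontrivial_iff_subsingleton] at h
      exact hc ⟨⟨fun a b => Subsingleton.elim _ _⟩⟩
    obtain ⟨N, hN, hNb, hNt⟩ : ∃ N : Subgroup G, N.Normal ∧ N ≠ ⊥ ∧ N ≠ ⊤ := by
      by_contra hcon
      push Not at hcon
      exact hs ⟨fun N hN => by
        by_cases h : N = ⊥
        · exact Or.inl h
        · exact Or.inr (hcon N hN h)⟩
    -- `N` is `p`-solvable
    have hNc : Nat.card N ≤ n := by
      have h1 : Nat.card N < Nat.card G := by
        refine lt_of_le_of_ne (Subgroup.card_le_card_group N) fun h => hNt ?_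
        exact Subgroup.eq_top_of_card_eq N h
      omega
    have hNs := ih N hNc (fun h => hG (h.of_normal N))
    have hNbt : (⊥ : Subgroup N) < ⊤ := by
      rw [bot_lt_iff_ne_bot]
      intro h
      apply hNb
      rw [Subgroup.eq_bot_iff_forall]
      intro x hx
      have h1 : (⟨x, hx⟩ : N) ∈ (⊤ : Subgroup N) := trivial
      rw [h, Subgroup.mem_bot] at h1
      exact congrArg Subtype.val h1
    obtain ⟨L, hL, hL1, -, hL2⟩ := Lib.PSolvable.sep_of_pSolvable p hNs ⊥ ⊤ inferInstance inferInstance
      hNbt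
    rw [Subgroup.relIndex_bot_left] at hL2
    -- a characteristic `p`- or `p'`-subgroup of `N`
    obtain ⟨R, hR, hRb, hR2⟩ : ∃ R : Subgroup G, R.Normal ∧ R ≠ ⊥ ∧
        ((∃ m : ℕ, Nat.card R = p ^ m) ∨ (Nat.card R).Coprime p) := by
      rcases hL2 with ⟨m, hm⟩ | hc
      · have hch := Lib.Cores.pCore_characteristic (G := N) p
        refine ⟨(pCore p N).map N.subtype, ConjAct.normal_of_characteristic_of_normal, ?_,
          Or.inl ?_⟩
        · rw [Ne, Subgroup.map_eq_bot_iff_of_injective _ N.subtype_injective]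
          intro h
          have h1 := Lib.Cores.le_pCore hL (IsPGroup.of_card hm)
          rw [h, le_bot_iff] at h1
          exact hL1.ne' h1
        · exact (IsPGroup.iff_card (p := p)).1 ((Lib.Cores.pCore_isPGroup (G := N) p).map _)
      · have hch := Lib.Cores.pPrimeCore_characteristic (G := N) p
        refine ⟨(pPrimeCore p N).map N.subtype, ConjAct.normal_of_characteristic_of_normal, ?_,
          Or.inr ?_⟩
        · rw [Ne, Subgroup.map_eq_bot_iff_of_injective _ N.subtype_injective]
          intro h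
          have h1 := Lib.Cores.le_pPrimeCore hL hc
          rw [h, le_bot_iff] at h1
          exact hL1.ne' h1
        · rw [Nat.card_congr ((pPrimeCore p N).equivMapOfInjective _ N.subtype_injective).toEquiv.symm]
          exact Lib.Cores.pPrimeCore_coprime (G := N) p
    have hq : Nat.card (G ⧸ R) ≤ n := by
      have h1 := Subgroup.card_eq_card_quotient_mul_card_subgroup R
      have h2 : 1 < Nat.card R := by
        rw [Subgroup.one_lt_card_iff_ne_bot]; exact hRb
      have h3 : 0 < Nat.card (G ⧸ R) := Nat.card_pos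
      nlinarith
    exact Lib.PSolvable.IsPSolvable_of_quotient p R hR2 (ih (G ⧸ R) hq fun h => hG (h.of_quotient R))

/-- The Itô-Michler theorem from the fact on simple groups. -/
theorem IM_of_fact [hp : Fact p.Prime] (hIM : FactIM.{u}) (X : Type u) [Group X] [Finite X] :
    H670.PSing.IM p X := by
  intro h P
  have h1 : IsPSolvable p X := isPSolvable_of_fact hIM _ X le_rfl (by
    rw [H33.not_IM_iff]
    intro χ
    exact h χ χ.2)
  exact IM_of_pSolvable h1 h P

end

theorem red_aux {p : ℕ} [hp : Fact p.Prime] (hIM : FactIM.{u}) (hDl : FactDl.{u}) (n : ℕ) :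
    ∀ (G : Type u) [Group G] [Finite G], Nat.card G ≤ n →
      ∀ P : Sylow p G, derivedSeries ↥(P : Subgroup G) (nSing p G + 1) = ⊥ := by
  induction n with
  | zero =>
    intro G _ _ hn
    exact absurd hn (by have := Nat.card_pos (α := G); omega)
  | succ n ih =>
    intro G _ _ hn P
    rcases subsingleton_or_nontrivial G with hs | hnt
    · exact Subsingleton.elim _ _
    obtain ⟨N, hN, hN1, hmin⟩ := Lib.SubnormalJoin.exists_minimal_normal G
    have hq : Nat.card (G ⧸ N) ≤ n := by
      have h1 := Subgroup.card_eq_card_quotient_mul_card_subgroup N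
      have h2 : 1 < Nat.card N := by
        rw [Subgroup.one_lt_card_iff_ne_bot]; exact hN1
      have h3 : 0 < Nat.card (G ⧸ N) := Nat.card_pos
      nlinarith
    by_cases hpN : p ∣ Nat.card N
    swap
    · exact bound_step_coprime N hpN (ih (G ⧸ N) hq) P
    by_cases hab : ∀ x ∈ N, ∀ y ∈ N, Commute x y
    · obtain ⟨q, hq', hqN, -⟩ := Lib.MinNormalNonabelian.abelian_structure N hN1 hmin hab
      have : Fact q.Prime := ⟨hq'⟩
      have hpq : p = q := by
        obtain ⟨k, hk⟩ := (IsPGroup.iff_card (p := q)).1 hqN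
        rw [hk] at hpN
        exact (Nat.prime_dvd_prime_iff_eq hp.out hq').1 (hp.out.dvd_of_dvd_pow hpN)
      subst hpq
      exact bound_step_pgroup N hqN hN1 (fun a ha b hb => (hab a ha b hb).eq)
        (fun T _ => IM_of_fact hIM _) (IM_of_fact hIM _) (ih (G ⧸ N) hq) P
    · exact bound_step_nonabelian hDl N hN1 hmin hab hpN (ih (G ⧸ N) hq) P

/-- **The derived length of a Sylow `p`-subgroup is at most one more than the number of irreducible
characters of degree divisible by `p`**, given the facts on the simple groups. -/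
theorem red (hIM : Cfsg.Agent.H671.H5.FactIM.{u}) (hDl : FactDl.{u}) {G : Type u} [Group G]
    [Finite G] (p : ℕ) [Fact p.Prime] (P : Sylow p G) :
    derivedSeries ↥(P : Subgroup G)
      (Nat.card {χ : Cfsg.IrrCharacter G // p ∣ Cfsg.charDegree (χ : G → ℂ)} + 1) = ⊥ :=
  red_aux hIM hDl _ G le_rfl P

end Cfsg.Agent.H596.DerLen
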