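import Cfsg.Agent.H596.FldFacts
import Cfsg.Agent.H216.Fld.Psl
import Cfsg.Agent.H486.Mv.Psp
import Cfsg.Agent.H322.Mv.Psu
import Cfsg.Agent.H334.Moved.Rows
import Cfsg.Agent.H834.Mov.Chev
import Cfsg.Agent.H288.MvTw
import Cfsg.Agent.H597.MovedSz
import Cfsg.Agent.H701.FldTF4
import Cfsg.Agent.H388.EvenFixAll
import Cfsg.Agent.H671.FactRows

/-!
# S4761: coprime automorphisms move classes of elements of different orders, all simple groups (helper596)

* `twoMoved_lie` : the groups of Lie type;
* `twoMoved` : the known simple groups;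
* `factMoved` : the fact.
-/

set_option autoImplicit false

namespace Cfsg.Agent.H596.Fld

open Cfsg Cfsg.Agent.BpSpor.Inn Cfsg.Agent.CpAut

universe u

/-- The groups of Lie type. -/
theorem twoMoved_lie {r : ℕ} {G : Type*} [Group G] [Finite G] [IsSimpleGroup G]
    (hc : ∃ a b : G, a * b ≠ b * a) (h : IsLieTypeChar r G) : TwoMoved G := by
  rcases h with h | h | h | h | h | h | h | h | ⟨-, h⟩ | ⟨-, h⟩ | ⟨-, h⟩
  · exact H216.FldPsl.row_psl hc h
  · exact H486.Mv.row_psp hc h
  · exact H322.Mv.row_psu hc h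
  · exact H334.Moved.row_oodd hc h
  · exact H334.Moved.row_oplus hc h
  · exact H334.Moved.row_ominus hc h
  · exact H834.Mov.Chev.row_chev hc h
  · exact H288.MvTw.row_tw hc h
  · exact H597.MovedSz.row_sz h
  · exact H701.FldTF4.row_tf4 (r := 2) hc h
  · exact H597.MovedSz.row_ree h

/-- The known simple groups. -/
theorem twoMoved {G : Type*} [Group G] [Finite G] [IsSimpleGroup G] (hK : IsKnownSimple' G)
    (hna : ¬ IsMulCommutative G) : TwoMoved G := by
  have hc : ∃ a b : G, a * b ≠ b * a := by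
    by_contra hcon
    push Not at hcon
    exact hna ⟨⟨hcon⟩⟩
  -- inner automorphisms
  have key : (∀ r : ℕ, r.Prime → r ≠ 2 → AutInner r G) → TwoMoved G := by
    intro hi α hα hd
    exfalso
    have hFr : Fact (orderOf α).Prime := ⟨hα⟩
    have h2 : 2 ∣ Nat.card G := (H388.EvenFixAll.even_card hna).two_dvd
    have h1 := H388.EvenFixAll.eq_one_of_inner hna hα hd (hi _ hα (fun h => hd (by rw [h]; exact h2)))
      (pow_orderOf_eq_one α)
    have h3 := hα.one_lt
    rw [h1, orderOf_one] at h3
    exact lt_irrefl _ h3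
  rcases OddHalf.Known.classify hna hK with h | ⟨p, hp, hp2, h⟩ | (h | h) | h
  · obtain ⟨n, hn, ⟨e⟩⟩ := h
    rcases (show n = 5 ∨ n = 6 ∨ 7 ≤ n by omega) with rfl | rfl | h7
    · let _ : Fintype (GaloisField 2 2) := Fintype.ofFinite _
      have hF : Fintype.card (GaloisField 2 2) = 4 := by
        rw [Fintype.card_eq_nat_card, GaloisField.card 2 2 (by norm_num)]; norm_num
      obtain ⟨f⟩ := S0252.result hF
      exact twoMoved_lie (r := 2) hc (Or.inl ⟨GaloisField 2 2, inferInstance, inferInstance, inferInstance, 2, le_rfl,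
        fun _ => hF.ge, ⟨e.trans f.symm⟩⟩)
    · let _ : Fintype (GaloisField 3 2) := Fintype.ofFinite _
      have hF : Fintype.card (GaloisField 3 2) = 9 := by
        rw [Fintype.card_eq_nat_card, GaloisField.card 3 2 (by norm_num)]; norm_num
      obtain ⟨f⟩ := S0254.result hF
      exact twoMoved_lie (r := 3) hc (Or.inl ⟨GaloisField 3 2, inferInstance, inferInstance,
        inferInstance, 2, le_rfl, fun _ => by rw [hF]; norm_num, ⟨e.trans f.symm⟩⟩)
    · refine key fun r hr hr2 => ?_
      have : Fact r.Prime := ⟨hr⟩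
      exact (autInner_alt h7 hr hr2).congr e.symm
  · exact twoMoved_lie hc h
  · exact twoMoved_lie hc h
  · refine key fun r hr hr2 => ?_
    have : Fact r.Prime := ⟨hr⟩
    exact tits h r hr hr2
  · refine key fun r hr hr2 => ?_
    have : Fact r.Prime := ⟨hr⟩
    exact H388.EvenFixAll.oddInn_sporadic h r hr hr2

/-- **The fact.** -/
theorem factMoved (hK : H671.FactRows.KnownAll.{u}) : FactMoved.{u} := fun S _ _ _ hna => twoMoved (hK S) hna

end Cfsg.Agent.H596.Fld
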