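import Cfsg.Agent.H596.MaxG
import Cfsg.Agent.H596.FldMain
import Cfsg.Agent.H671.FactsFin

/-!
# S4761 and S4764 from `FactTwo` (helper596)
-/

set_option autoImplicit false

open Cfsg

namespace Cfsg.Agent.H596.Final

open Cfsg.Agent.H596.OneFacts

universe u

/-- S4764 from `FactTwo`. -/
theorem s4764 (hTwo : FactTwo.{u}) {G : Type u} [Group G]
    [Finite G] (p : ℕ) [Fact p.Prime] (hns : ¬ Cfsg.IsPSolvable p G)
    (hone : Nat.card {χ : Cfsg.IrrCharacter G // p ∣ Cfsg.charDegree (χ : G → ℂ)} = 1) :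
    (∃ (F : Type) (_ : Field F) (_ : Fintype F), CharP F p ∧ 4 ≤ Fintype.card F ∧ (Nonempty (G ≃* Matrix.ProjectiveSpecialLinearGroup (Fin 2) F) ∨ Nonempty (G ≃* Matrix.SpecialLinearGroup (Fin 2) F) ∨ ∃ (V : Subgroup G) (_ : V.Normal), Cfsg.IsElementaryAbelian p V ∧ Nat.card V = Fintype.card F ^ 2 ∧ Nonempty (G ⧸ V ≃* Matrix.SpecialLinearGroup (Fin 2) F))) ∨ (p = 3 ∧ Nonempty (G ≃* Equiv.Perm (Fin 5))) ∨ (p = 3 ∧ Cfsg.IsM11 G) :=
  OneMain.red H671.GraphAsm.factIM_all H671.GraphAsm.factExt_all hTwo p hns hone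

/-- S4761 from `FactTwo`. -/
theorem s4761 (hTwo : FactTwo.{u}) {G : Type u} [Group G] [Finite G] (p : ℕ) [Fact p.Prime]
    (hone : Nat.card {χ : Cfsg.IrrCharacter G // p ∣ Cfsg.charDegree (χ : G → ℂ)} = 1) (P : Sylow p G)
    (hP : ¬ (P : Subgroup G).Normal) : IsCoatom (Subgroup.normalizer ((P : Subgroup G) : Set G)) :=
  MaxG.main (Fld.factMoved fun _ _ _ _ => S0000.result) H671.GraphAsm.factIM_all H671.GraphAsm.factExt_all hTwo
    p hone P hP

end Cfsg.Agent.H596.Final
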