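import Mathlib

/-!
# Normalisers of Sylow subgroups: maximality (helper596, for S4761)

* `eq_of_le` : a Sylow subgroup normal in `K` is the only one contained in `K`;
* `normalizer_sup_eq` : `N ≤ N_G(P)` gives `N_G(P N) = N_G(P)`;
* `coatom_of_quot` : the reduction to the quotient by `N ≤ N_G(P)`;
* `normal_of_sup` : `P N` normal and `N ≤ N_G(P)` give `P` normal;
* `abelian_case` : `V` an abelian minimal normal `p'`-subgroup, `P V` normal, `P` not normal:
  `N_G(P)` is a complement of `V` and maximal;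
* `inf_normal` : if `N ≤ N_G(P)` is normal then `N ⊓ P` is normal.
-/

set_option autoImplicit false

open scoped Pointwise

namespace Cfsg.Agent.H596.MaxA

section

variable {G : Type*} [Group G] {p : ℕ}

/-- Elements of the normaliser of `P` of order a power of `p` lie in `P`. -/
theorem mem_of_mem_normalizer [Finite G] [Fact p.Prime] (P : Sylow p G) {x : G}
    (hx : x ∈ Subgroup.normalizer ((P : Subgroup G) : Set G)) {k : ℕ} (hk : x ^ p ^ k = 1) : x ∈ P := by
  have h1 : IsPGroup p (Subgroup.zpowers x) := by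
    rintro ⟨_, n, rfl⟩
    refine ⟨k, Subtype.ext ?_⟩
    show (x ^ n) ^ p ^ k = 1
    rw [← zpow_natCast, ← zpow_mul, mul_comm, zpow_mul, zpow_natCast, hk, one_zpow]
  have h2 : Subgroup.zpowers x ⊓ Subgroup.normalizer ((P : Subgroup G) : Set G) =
      Subgroup.zpowers x ⊓ (P : Subgroup G) := IsPGroup.inf_normalizer_sylow h1 P
  have h3 : x ∈ Subgroup.zpowers x ⊓ Subgroup.normalizer ((P : Subgroup G) : Set G) :=
    ⟨Subgroup.mem_zpowers x, hx⟩
  rw [h2] at h3
  exact h3.2

/-- A Sylow subgroup normalised by `K` contains all the `p`-subgroups of `K`. -/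
theorem eq_of_le [Finite G] [Fact p.Prime] (P Q : Sylow p G)
    (h : (Q : Subgroup G) ≤ Subgroup.normalizer ((P : Subgroup G) : Set G)) : Q = P := by
  have h2 : (Q : Subgroup G) ⊓ Subgroup.normalizer ((P : Subgroup G) : Set G) =
      (Q : Subgroup G) ⊓ (P : Subgroup G) := IsPGroup.inf_normalizer_sylow Q.isPGroup' P
  rw [inf_eq_left.2 h] at h2
  have h3 : (Q : Subgroup G) ≤ P := by rw [h2]; exact inf_le_right
  exact (Sylow.ext (Q.is_maximal' P.isPGroup' h3).symm)

theorem sup_le_normalizer (P : Sylow p G) {N : Subgroup G}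
    (hN : N ≤ Subgroup.normalizer ((P : Subgroup G) : Set G)) :
    (P : Subgroup G) ⊔ N ≤ Subgroup.normalizer ((P : Subgroup G) : Set G) :=
  sup_le Subgroup.le_normalizer hN

theorem normalizer_sup_eq [Finite G] [Fact p.Prime] (P : Sylow p G) {N : Subgroup G} [hNn : N.Normal]
    (hN : N ≤ Subgroup.normalizer ((P : Subgroup G) : Set G)) :
    Subgroup.normalizer (((P : Subgroup G) ⊔ N : Subgroup G) : Set G) =
      Subgroup.normalizer ((P : Subgroup G) : Set G) := by
  apply le_antisymm
  · intro g hg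
    refine Sylow.smul_eq_iff_mem_normalizer.1 ?_
    apply eq_of_le
    have h1 : ((g • P : Sylow p G) : Subgroup G) ≤ (P : Subgroup G) ⊔ N := by
      rw [Sylow.coe_subgroup_smul]
      rintro _ ⟨x, hx, rfl⟩
      exact (Subgroup.mem_normalizer_iff.1 hg x).1 (Subgroup.mem_sup_left hx)
    exact h1.trans (sup_le_normalizer P hN)
  · intro g hg
    have key : ∀ k ∈ Subgroup.normalizer ((P : Subgroup G) : Set G), ∀ x ∈ (P : Subgroup G) ⊔ N,
        k * x * k⁻¹ ∈ (P : Subgroup G) ⊔ N := by
      intro k hk x hx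
      obtain ⟨y, hy, z, hz, rfl⟩ := Subgroup.mem_sup_of_normal_right.1 hx
      have h1 : k * (y * z) * k⁻¹ = (k * y * k⁻¹) * (k * z * k⁻¹) := by group
      rw [h1]
      exact mul_mem (Subgroup.mem_sup_left ((Subgroup.mem_normalizer_iff.1 hk y).1 hy))
        (Subgroup.mem_sup_right (hNn.conj_mem z hz k))
    rw [Subgroup.mem_normalizer_iff]
    intro x
    constructor
    · exact key g hg x
    · intro hx
      have := key g⁻¹ (inv_mem hg) _ hx
      have h1 : g⁻¹ * (g * x * g⁻¹) * g⁻¹⁻¹ = x := by group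
      rwa [h1] at this

/-- The preimage of the normaliser of the image of `P` in `G ⧸ N`. -/
theorem comap_normalizer [Finite G] [Fact p.Prime] (P : Sylow p G) (N : Subgroup G) [N.Normal] :
    (Subgroup.normalizer (((P.mapSurjective (QuotientGroup.mk'_surjective N) : Sylow p (G ⧸ N)) :
      Subgroup (G ⧸ N)) : Set (G ⧸ N))).comap (QuotientGroup.mk' N) =
      Subgroup.normalizer (((P : Subgroup G) ⊔ N : Subgroup G) : Set G) := by
  rw [Subgroup.comap_normalizer_eq_of_surjective _ (QuotientGroup.mk'_surjective N),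
    Sylow.coe_mapSurjective, Subgroup.comap_map_eq, QuotientGroup.ker_mk']

/-- **The reduction to the quotient.** -/
theorem coatom_of_quot [Finite G] [Fact p.Prime] (P : Sylow p G) (N : Subgroup G) [N.Normal]
    (hN : N ≤ Subgroup.normalizer ((P : Subgroup G) : Set G))
    (h : IsCoatom (Subgroup.normalizer (((P.mapSurjective (QuotientGroup.mk'_surjective N) :
      Sylow p (G ⧸ N)) : Subgroup (G ⧸ N)) : Set (G ⧸ N)))) :
    IsCoatom (Subgroup.normalizer ((P : Subgroup G) : Set G)) := by
  rw [← normalizer_sup_eq P hN, ← comap_normalizer P N]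
  exact Subgroup.isCoatom_comap_of_surjective (QuotientGroup.mk'_surjective N) h

theorem normal_iff_sup (P : Subgroup G) (N : Subgroup G) [N.Normal] :
    (P.map (QuotientGroup.mk' N)).Normal ↔ (P ⊔ N).Normal := by
  constructor
  · intro h
    have h1 : P ⊔ N = (P.map (QuotientGroup.mk' N)).comap (QuotientGroup.mk' N) := by
      rw [Subgroup.comap_map_eq, QuotientGroup.ker_mk']
    rw [h1]
    exact h.comap _
  · intro h
    have h1 : P.map (QuotientGroup.mk' N) = (P ⊔ N).map (QuotientGroup.mk' N) := by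
      rw [Subgroup.map_sup]
      have h2 : N.map (QuotientGroup.mk' N) = ⊥ := by
        rw [Subgroup.map_eq_bot_iff, QuotientGroup.ker_mk']
      rw [h2, sup_bot_eq]
    rw [h1]
    exact h.map _ (QuotientGroup.mk'_surjective N)

/-- `P N` normal and `N ≤ N_G(P)` give `P` normal. -/
theorem normal_of_sup [Finite G] [Fact p.Prime] (P : Sylow p G) (N : Subgroup G)
    (hN : N ≤ Subgroup.normalizer ((P : Subgroup G) : Set G)) (h : ((P : Subgroup G) ⊔ N).Normal) :
    (P : Subgroup G).Normal := by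
  rw [← Subgroup.normalizer_eq_top_iff, eq_top_iff]
  intro g _
  refine Sylow.smul_eq_iff_mem_normalizer.1 ?_
  apply eq_of_le
  refine le_trans ?_ (sup_le_normalizer P hN)
  rw [Sylow.coe_subgroup_smul]
  rintro _ ⟨x, hx, rfl⟩
  exact h.conj_mem x (Subgroup.mem_sup_left hx) g

/-- Frattini. -/
theorem frattini [Finite G] [Fact p.Prime] (P : Sylow p G) (V : Subgroup G)
    (h : ((P : Subgroup G) ⊔ V).Normal) : Subgroup.normalizer ((P : Subgroup G) : Set G) ⊔ V = ⊤ := by
  have h1 : Subgroup.normalizer ((P : Subgroup G) : Set G) ⊔ ((P : Subgroup G) ⊔ V) = ⊤ :=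
    Sylow.normalizer_sup_eq_top' (P := P) (N := (P : Subgroup G) ⊔ V) le_sup_left
  rw [← sup_assoc] at h1
  rwa [sup_eq_left.2 (Subgroup.le_normalizer (H := (P : Subgroup G)))] at h1

/-- **The case of an abelian minimal normal subgroup.** -/
theorem abelian_case [Finite G] [Fact p.Prime] (V : Subgroup G) [hV : V.Normal]
    (hmin : ∀ M : Subgroup G, M.Normal → M ≤ V → M = ⊥ ∨ M = V) (hc : ∀ a ∈ V, ∀ b ∈ V, Commute a b)
    (P : Sylow p G) (hPV : ((P : Subgroup G) ⊔ V).Normal) (hP : ¬ (P : Subgroup G).Normal) :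
    V ⊓ Subgroup.normalizer ((P : Subgroup G) : Set G) = ⊥ ∧
      IsCoatom (Subgroup.normalizer ((P : Subgroup G) : Set G)) := by
  have hF := frattini P V hPV
  set H := Subgroup.normalizer ((P : Subgroup G) : Set G) with hH
  have hHt : H ≠ ⊤ := fun h => hP (Subgroup.normalizer_eq_top_iff.1 h)
  -- `X ⊓ V` is normal for `H ≤ X`
  have key : ∀ X : Subgroup G, H ≤ X → (V ⊓ X).Normal := by
    intro X hX
    rw [← Subgroup.normalizer_eq_top_iff, eq_top_iff, ← hF]
    refine sup_le ?_ ?_
    · intro g hg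
      rw [Subgroup.mem_normalizer_iff]
      intro x
      have e1 : x ∈ V ↔ g * x * g⁻¹ ∈ V := by
        constructor
        · intro hx; exact hV.conj_mem x hx g
        · intro hx
          have := hV.conj_mem _ hx g⁻¹
          simpa [mul_assoc] using this
      have hgX := hX hg
      have e2 : x ∈ X ↔ g * x * g⁻¹ ∈ X := by
        constructor
        · intro hx; exact mul_mem (mul_mem hgX hx) (inv_mem hgX)
        · intro hx
          have := mul_mem (mul_mem (inv_mem hgX) hx) hgX
          simpa [mul_assoc] using this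
      rw [Subgroup.mem_inf, Subgroup.mem_inf, ← e1, ← e2]
    · intro g hg
      rw [Subgroup.mem_normalizer_iff]
      intro x
      constructor
      · intro hx
        have h1 : g * x * g⁻¹ = x := by
          rw [(hc g hg x hx.1).eq, mul_inv_cancel_right]
        rw [h1]; exact hx
      · intro hx
        have h1 : g⁻¹ * (g * x * g⁻¹) * g = g * x * g⁻¹ := by
          rw [(hc _ (inv_mem hg) _ hx.1).eq, inv_mul_cancel_right]
        have h2 : x = g * x * g⁻¹ := by
          rw [← h1]; group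
        rw [h2]; exact hx
  have h0 : V ⊓ H = ⊥ := by
    rcases hmin _ (key H le_rfl) inf_le_left with h | h
    · exact h
    · exfalso
      apply hHt
      rw [← hF]
      exact (sup_eq_left.2 (inf_eq_left.1 h)).symm
  refine ⟨h0, hHt, fun X hX => ?_⟩
  rcases hmin _ (key X hX.le) inf_le_left with h | h
  · exfalso
    apply hX.ne
    apply le_antisymm hX.le
    intro x hx
    have hx' : x ∈ H ⊔ V := by rw [hF]; trivial
    obtain ⟨y, hy, z, hz, rfl⟩ := Subgroup.mem_sup_of_normal_right.1 hx'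
    have h1 : z ∈ V ⊓ X := ⟨hz, by
      have := mul_mem (inv_mem (hX.le hy)) hx
      rwa [inv_mul_cancel_left] at this⟩
    rw [h, Subgroup.mem_bot] at h1
    rw [h1, mul_one]; exact hy
  · rw [eq_top_iff, ← hF]
    exact sup_le hX.le (inf_eq_left.1 h)

/-- If the normal subgroup `N` normalises `P` then `N ⊓ P` is normal. -/
theorem inf_normal [Finite G] [Fact p.Prime] (P : Sylow p G) (N : Subgroup G) [hNn : N.Normal]
    (hN : N ≤ Subgroup.normalizer ((P : Subgroup G) : Set G)) : (N ⊓ (P : Subgroup G)).Normal := by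
  constructor
  rintro x ⟨hxN, hxP⟩ g
  have h1 := hNn.conj_mem x hxN g
  refine ⟨h1, ?_⟩
  obtain ⟨k, hk⟩ := P.isPGroup' ⟨x, hxP⟩
  have hk' : x ^ p ^ k = 1 := congrArg Subtype.val hk
  refine mem_of_mem_normalizer P (hN h1) (k := k) ?_
  rw [← MulAut.conj_apply, ← map_pow, hk', map_one]

/-- Then `N` centralises `P` and has order prime to `p`, if `O_p(G) = 1`. -/
theorem comm_of_core [Finite G] [hp : Fact p.Prime] (P : Sylow p G) (N : Subgroup G) [hNn : N.Normal]
    (hN : N ≤ Subgroup.normalizer ((P : Subgroup G) : Set G))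
    (hO : ∀ R : Subgroup G, R.Normal → IsPGroup p R → R = ⊥) :
    (∀ x ∈ N, ∀ s ∈ (P : Subgroup G), Commute x s) ∧ ¬ p ∣ Nat.card N := by
  have h0 : N ⊓ (P : Subgroup G) = ⊥ :=
    hO _ (inf_normal P N hN) (P.isPGroup'.to_le inf_le_right)
  constructor
  · intro x hx s hs
    have h1 : x * s * x⁻¹ * s⁻¹ ∈ N ⊓ (P : Subgroup G) := by
      refine ⟨?_, ?_⟩
      · have h2 : x * s * x⁻¹ * s⁻¹ = x * (s * x⁻¹ * s⁻¹) := by group
        rw [h2]
        exact mul_mem hx (hNn.conj_mem _ (inv_mem hx) s)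
      · show x * s * x⁻¹ * s⁻¹ ∈ (P : Subgroup G)
        exact mul_mem ((Subgroup.mem_normalizer_iff.1 (hN hx) s).1 hs) (inv_mem hs)
    rw [h0, Subgroup.mem_bot] at h1
    have h2 : x * s * x⁻¹ = s := mul_inv_eq_one.1 h1
    exact mul_inv_eq_iff_eq_mul.1 h2
  · intro hd
    obtain ⟨x, hx⟩ := exists_prime_orderOf_dvd_card' p hd
    have h1 : (x : G) ^ p ^ 1 = 1 := by
      rw [pow_one, ← hx, ← Subgroup.orderOf_coe x]
      exact pow_orderOf_eq_one (x : G)
    have h2 := mem_of_mem_normalizer P (hN x.2) h1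
    have h3 : (x : G) ∈ N ⊓ (P : Subgroup G) := ⟨x.2, h2⟩
    rw [h0, Subgroup.mem_bot] at h3
    have h4 : x = 1 := Subtype.ext h3
    rw [h4, orderOf_one] at hx
    exact hp.out.one_lt.ne hx

end

end Cfsg.Agent.H596.MaxA
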