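import Cfsg.Agent.H596.MaxA
import Cfsg.Agent.H596.FldFacts
import Cfsg.Agent.H596.OneNonab

/-!
# Normalisers of Sylow subgroups: non-abelian minimal normal `p'`-subgroups (helper596, for S4761)

* `ConjMoved` : the statement T7 (`P`-moved classes of a normal `p'`-subgroup form one `G`-orbit);
* `nonab_false` : a non-abelian minimal normal `p'`-subgroup `W`, `P W` normal, `P` not normal:
  `G` has at least two irreducible characters of degree divisible by `p`.
-/

set_option autoImplicit false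

open Cfsg

namespace Cfsg.Agent.H596.MaxB

open Cfsg.Agent.H670.PSing Cfsg.Agent.H596.MaxA Cfsg.Agent.H596.Fld
open Cfsg.Agent.Lib.MinNormalNonabelian Cfsg.Agent.H383.Derange

universe u

/-- T7. -/
def ConjMoved : Prop :=
  ∀ {G : Type u} [Group G] [Finite G] {p : ℕ} [Fact p.Prime] (W : Subgroup G) [W.Normal]
    (_ : ¬ p ∣ Nat.card W) (P : Sylow p G) (_ : ((P : Subgroup G) ⊔ W).Normal) (_ : nSing p G ≤ 1) {x y : W}
    (_ : ∃ s ∈ (P : Subgroup G), ¬ IsConj (MulAut.conjNormal s x) x)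
    (_ : ∃ s ∈ (P : Subgroup G), ¬ IsConj (MulAut.conjNormal s y) y), ∃ g : G, g * (x : G) * g⁻¹ = y

variable {G : Type u} [Group G] [Finite G] {p : ℕ} [hp : Fact p.Prime]

/-- Conjugate elements of `W` have the same order. -/
theorem orderOf_eq (hT7 : ConjMoved.{u}) (W : Subgroup G) [W.Normal] (hW : ¬ p ∣ Nat.card W) (P : Sylow p G)
    (hPW : ((P : Subgroup G) ⊔ W).Normal) (hn : nSing p G ≤ 1) {x y : W}
    (hx : ∃ s ∈ (P : Subgroup G), ¬ IsConj (MulAut.conjNormal s x) x)
    (hy : ∃ s ∈ (P : Subgroup G), ¬ IsConj (MulAut.conjNormal s y) y) : orderOf x = orderOf y := by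
  obtain ⟨g, hg⟩ := hT7 W hW P hPW hn hx hy
  rw [← Subgroup.orderOf_coe x, ← Subgroup.orderOf_coe y, ← hg]
  exact (MulEquiv.orderOf_eq (MulAut.conj g) (x : G)).symm

/-- The automorphism of `T` induced by an element of the normaliser. -/
def autOf (T : Subgroup G) (g : G) (hg : T.map (MulAut.conj g).toMonoidHom = T) : MulAut T where
  toFun x := ⟨g * x * g⁻¹, (hg.le : _) ⟨x, x.2, rfl⟩⟩
  invFun x := ⟨g⁻¹ * x * g, by
    have h := (hg.ge : _) x.2
    obtain ⟨y, hy, hyx⟩ := h
    have h1 : g * y * g⁻¹ = x := hyx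
    rw [← h1]
    have h2 : g⁻¹ * (g * y * g⁻¹) * g = y := by group
    rw [h2]; exact hy⟩
  left_inv x := Subtype.ext (by
    show g⁻¹ * (g * (x : G) * g⁻¹) * g = x
    group)
  right_inv x := Subtype.ext (by
    show g * (g⁻¹ * (x : G) * g) * g⁻¹ = x
    group)
  map_mul' x y := Subtype.ext (by
    show g * ((x : G) * y) * g⁻¹ = g * x * g⁻¹ * (g * y * g⁻¹)
    group)

omit [Finite G] in
theorem autOf_coe (T : Subgroup G) (g : G) (hg : T.map (MulAut.conj g).toMonoidHom = T) (x : T) :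
    ((autOf T g hg x : T) : G) = g * x * g⁻¹ := rfl

omit [Finite G] in
/-- Conjugation of elements of `T` in `W = T C_W(T)`. -/
theorem isConj_of_isConj {W T : Subgroup G} (h : NA W) (hT : T ∈ minSet W) {x y : T} {x' y' : W}
    (hx : (x' : G) = x) (hy : (y' : G) = y) (hc : IsConj x' y') : IsConj x y := by
  obtain ⟨w, hw⟩ := isConj_iff.1 hc
  obtain ⟨t, ht, c, hc', hcT, hwtc⟩ := h.exists_mul hT w.2
  rw [isConj_iff]
  refine ⟨⟨t, ht⟩, Subtype.ext ?_⟩
  have h1 : (w : G) * x' * (w : G)⁻¹ = y' := congrArg Subtype.val hw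
  rw [hx, hy, hwtc] at h1
  show t * (x : G) * t⁻¹ = y
  rw [← h1]
  have h2 : c * (x : G) = x * c := hcT x x.2
  calc t * (x : G) * t⁻¹ = t * (x * c) * c⁻¹ * t⁻¹ := by group
    _ = t * (c * x) * c⁻¹ * t⁻¹ := by rw [h2]
    _ = t * c * x * (t * c)⁻¹ := by group

/-- **Non-abelian minimal normal `p'`-subgroups.** -/
theorem nonab_false (hT7 : ConjMoved.{u}) (hMoved : FactMoved.{u}) (W : Subgroup G) [hWn : W.Normal]
    (hmin : ∀ M : Subgroup G, M.Normal → M ≤ W → M = ⊥ ∨ M = W)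
    (hna : ¬ ∀ x ∈ W, ∀ y ∈ W, Commute x y) (hW : ¬ p ∣ Nat.card W) (P : Sylow p G)
    (hPW : ((P : Subgroup G) ⊔ W).Normal) (hP : ¬ (P : Subgroup G).Normal) (hn : nSing p G ≤ 1) : False := by
  have h := NA.of_min W hmin hna
  have hTW : ∀ T ∈ minSet W, T ≤ W := fun T hT => hT.1
  -- `P` normalises the simple factors
  have hnorm : ∀ T ∈ minSet W, ∀ s ∈ (P : Subgroup G), T.map (MulAut.conj s).toMonoidHom = T := by
    intro T hT s hs
    rcases h.conj_eq_or_commute hT s with h1 | h1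
    · exact h1
    · exfalso
      obtain ⟨x, hx, y, hy, a, b, ha, hb, hab, hxa, hyb⟩ := h.exists_two_primes hT
      have key : ∀ x ∈ T, orderOf x ≠ 1 → ∀ x' : W, (x' : G) = x →
          ∃ s ∈ (P : Subgroup G), ¬ IsConj (MulAut.conjNormal s x') x' := by
        intro x hx hx1 x' hx'
        refine ⟨s, hs, fun hc => hx1 ?_⟩
        have hsx : s * x * s⁻¹ ∈ T := by
          obtain ⟨w, hw⟩ := isConj_iff.1 hc.symm
          have h2 : (w : G) * x * (w : G)⁻¹ = s * x * s⁻¹ := by
            have h3 := congrArg Subtype.val hw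
            simp only [Subgroup.coe_mul, Subgroup.coe_inv, MulAut.conjNormal_apply, hx'] at h3
            exact h3
          rw [← h2]
          exact (Subgroup.mem_normalizer_iff.1 (hT.2.2.1 w.2) x).1 hx
        have h3 := h.centerless T hT _ hsx (fun t ht => h1 x hx t ht)
        have h4 : x = 1 := by
          have h5 : s⁻¹ * (s * x * s⁻¹) * s = x := by group
          rw [← h5, h3]; group
        rw [h4, orderOf_one]
      have h2 := orderOf_eq hT7 W hW P hPW hn (key x hx (by rw [hxa]; exact ha.one_lt.ne') ⟨x, hTW T hT hx⟩ rfl)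
        (key y hy (by rw [hyb]; exact hb.one_lt.ne') ⟨y, hTW T hT hy⟩ rfl)
      rw [Subgroup.orderOf_mk, Subgroup.orderOf_mk, hxa, hyb] at h2
      exact hab h2
  -- `P` does not centralise some simple factor
  obtain ⟨T, hT, s, hs, t, ht, hst⟩ : ∃ T ∈ minSet W, ∃ s ∈ (P : Subgroup G), ∃ t ∈ T, ¬ Commute s t := by
    by_contra hcon
    push Not at hcon
    apply hP
    refine normal_of_sup P W ?_ hPW
    have h1 : W ≤ Subgroup.centralizer ((P : Subgroup G) : Set G) := by
      rw [← h.sup]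
      refine sSup_le fun T hT t ht => ?_
      rw [Subgroup.mem_centralizer_iff]
      intro s hs
      exact (hcon T hT s hs t ht).eq
    intro w hw
    rw [Subgroup.mem_normalizer_iff]
    intro x
    have h2 : ∀ x ∈ (P : Subgroup G), w * x * w⁻¹ = x := by
      intro x hx
      have h3 := Subgroup.mem_centralizer_iff.1 (h1 hw) x hx
      rw [← h3, mul_inv_cancel_right]
    constructor
    · intro hx
      rw [h2 x hx]; exact hx
    · intro hx
      have h3 : w⁻¹ * (w * x * w⁻¹) * w = w * x * w⁻¹ := by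
        have h4 := Subgroup.mem_centralizer_iff.1 (h1 hw) _ hx
        rw [mul_assoc, h4]; group
      have h4 : x = w * x * w⁻¹ := by rw [← h3]; group
      rw [h4]; exact hx
  -- the automorphism
  let f : (P : Subgroup G) →* MulAut T :=
    { toFun := fun u => autOf T u (hnorm T hT u u.2)
      map_one' := by
        ext x
        rw [autOf_coe]
        simp
      map_mul' := fun u v => by
        ext x
        rw [autOf_coe, MulAut.mul_apply, autOf_coe, autOf_coe]
        show (u : G) * v * x * ((u : G) * v)⁻¹ = _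
        group }
  have hf : ∀ (u : (P : Subgroup G)) (x : T), ((f u x : T) : G) = u * x * (u : G)⁻¹ := fun u x => rfl
  have hfs : f ⟨s, hs⟩ ≠ 1 := by
    intro h1
    apply hst
    have h2 := congrArg (fun x : T => (x : G)) (DFunLike.congr_fun h1 ⟨t, ht⟩)
    have h3 : s * t * s⁻¹ = t := h2
    exact mul_inv_eq_iff_eq_mul.1 h3
  obtain ⟨k, hk⟩ := (IsPGroup.iff_orderOf.1 P.isPGroup') ⟨s, hs⟩
  have hfin : Finite T := inferInstance
  obtain ⟨j, hj, hjo⟩ : ∃ j ≤ k, orderOf (f ⟨s, hs⟩) = p ^ j :=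
    (Nat.dvd_prime_pow hp.out).1 (hk ▸ orderOf_map_dvd f ⟨s, hs⟩)
  have hj0 : j ≠ 0 := by
    rintro rfl
    rw [pow_zero, orderOf_eq_one_iff] at hjo
    exact hfs hjo
  obtain ⟨i, rfl⟩ := Nat.exists_eq_succ_of_ne_zero hj0
  have hα : orderOf (f (⟨s, hs⟩ ^ p ^ i)) = p := by
    rw [map_pow, orderOf_pow_of_dvd (pow_ne_zero _ hp.out.ne_zero) (by rw [hjo]; exact pow_dvd_pow p (Nat.le_succ i)),
      hjo, Nat.succ_eq_add_one, pow_succ, Nat.mul_div_cancel_left _ (pow_pos hp.out.pos i)]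
  set u : (P : Subgroup G) := ⟨s, hs⟩ ^ p ^ i with hu
  have hTp : ¬ p ∣ Nat.card T := fun h1 => hW (h1.trans (Subgroup.card_dvd_of_le (hTW T hT)))
  have := h.simple T hT
  have hTna : ¬ IsMulCommutative T := by
    intro hc
    apply hT.2.1
    rw [eq_bot_iff]
    intro z hz
    rw [Subgroup.mem_bot]
    exact h.centerless T hT z hz fun t ht => congrArg Subtype.val (hc.is_comm.comm ⟨z, hz⟩ ⟨t, ht⟩)
  obtain ⟨x, y, hx, hy, hxy⟩ := hMoved T hTna (f u) (by rw [hα]; exact hp.out) (by rw [hα]; exact hTp)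
  have key : ∀ x : T, ¬ IsConj (f u x) x →
      ∃ s ∈ (P : Subgroup G), ¬ IsConj (MulAut.conjNormal s (⟨x, hTW T hT x.2⟩ : W)) ⟨x, hTW T hT x.2⟩ := by
    intro x hx
    refine ⟨u, u.2, fun hc => hx ?_⟩
    refine isConj_of_isConj h hT ?_ rfl hc
    rw [MulAut.conjNormal_apply]
    rfl
  have h2 := orderOf_eq hT7 W hW P hPW hn (key x hx) (key y hy)
  rw [Subgroup.orderOf_mk, Subgroup.orderOf_mk, Subgroup.orderOf_coe, Subgroup.orderOf_coe] at h2
  exact hxy h2

end Cfsg.Agent.H596.MaxB
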