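import Cfsg.Agent.H596.OneSing

/-!
# Partitions by the fixed points of Sylow subgroups (helper596)

* `card_partition` : every `a ≠ 1` of the abelian group `A` is fixed by exactly one Sylow `p`-subgroup
  of `X`: `|A| - 1 = |Syl_p(X)| (|C_A(Q)| - 1)`;
* `arith`, `arith_ten`, `arith_fiftyfive` : the arithmetic consequences;
* `fix_trivial` : an element normalizing at most two Sylow subgroups.
-/

set_option autoImplicit false

open Cfsg

namespace Cfsg.Agent.H596.OnePart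

open Cfsg.Agent.H596.OneSing

section

variable {X A : Type*} [Group X] [CommGroup A] (ρ : X →* MulAut A)

open scoped Pointwise

theorem Fx_smul {p : ℕ} (g : X) (Q : Sylow p X) :
    Fx ρ ((g • Q : Sylow p X) : Subgroup X) = (Fx ρ (Q : Subgroup X)).map (ρ g).toMonoidHom := by
  ext a
  constructor
  · intro h
    refine ⟨ρ g⁻¹ a, ?_, ?_⟩
    · intro x hx
      have h1 := h (g * x * g⁻¹) (by
        rw [Sylow.coe_subgroup_smul]
        exact ⟨x, hx, rfl⟩)
      calc ρ x (ρ g⁻¹ a) = ρ g⁻¹ (ρ (g * x * g⁻¹) a) := by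
            rw [← MulAut.mul_apply, ← MulAut.mul_apply, ← map_mul, ← map_mul]; congr 2; group
        _ = ρ g⁻¹ a := by rw [h1]
    · show ρ g (ρ g⁻¹ a) = a
      rw [← MulAut.mul_apply, ← map_mul, mul_inv_cancel, map_one]; rfl
  · rintro ⟨b, hb, rfl⟩ x hx
    rw [Sylow.coe_subgroup_smul] at hx
    obtain ⟨y, hy, rfl⟩ := hx
    show ρ (g * y * g⁻¹) (ρ g b) = ρ g b
    rw [← MulAut.mul_apply, ← map_mul, inv_mul_cancel_right, map_mul, MulAut.mul_apply, hb y hy]

theorem card_Fx [Finite X] {p : ℕ} [Fact p.Prime] (Q R : Sylow p X) :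
    Nat.card (Fx ρ (Q : Subgroup X)) = Nat.card (Fx ρ (R : Subgroup X)) := by
  obtain ⟨g, rfl⟩ := MulAction.exists_smul_eq X Q R
  rw [Fx_smul]
  exact Nat.card_congr ((Fx ρ (Q : Subgroup X)).equivMapOfInjective _ (ρ g).injective).toEquiv

theorem card_ne_one (B : Subgroup A) [Finite A] :
    Nat.card {a : A // a ∈ B ∧ a ≠ 1} = Nat.card B - 1 := by
  classical
  have : Fintype A := Fintype.ofFinite A
  have : Fintype B := Fintype.ofFinite B
  have e : {a : A // a ∈ B ∧ a ≠ 1} ≃ {b : B // b ≠ 1} :=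
    { toFun := fun a => ⟨⟨a.1, a.2.1⟩, fun h => a.2.2 (congrArg Subtype.val h)⟩
      invFun := fun b => ⟨b.1.1, b.1.2, fun h => b.2 (Subtype.ext h)⟩
      left_inv := fun _ => rfl
      right_inv := fun _ => rfl }
  rw [Nat.card_congr e, Nat.card_eq_fintype_card, Nat.card_eq_fintype_card,
    Fintype.card_subtype_compl, Fintype.card_subtype_eq]

/-- **The partition**. -/
theorem card_partition [Finite X] [Finite A] {p : ℕ} [Fact p.Prime]
    (h : ∀ a : A, a ≠ 1 → ∃! Q : Sylow p X, (Q : Subgroup X) ≤ St ρ a) (Q : Sylow p X) :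
    Nat.card A - 1 = Nat.card (Sylow p X) * (Nat.card (Fx ρ (Q : Subgroup X)) - 1) := by
  classical
  have : Fintype (Sylow p X) := Fintype.ofFinite _
  let f : (Σ R : Sylow p X, {a : A // a ∈ Fx ρ (R : Subgroup X) ∧ a ≠ 1}) →
      {a : A // a ∈ (⊤ : Subgroup A) ∧ a ≠ 1} := fun x => ⟨x.2.1, trivial, x.2.2.2⟩
  have hf : Function.Bijective f := by
    constructor
    · rintro ⟨R, a, ha, ha1⟩ ⟨R', a', ha', ha1'⟩ hEq
      have h1 : a = a' := congrArg Subtype.val hEq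
      subst h1
      have h2 : R = R' := (h a ha1).unique ha ha'
      subst h2
      rfl
    · rintro ⟨a, -, ha1⟩
      obtain ⟨R, hR, -⟩ := h a ha1
      exact ⟨⟨R, a, hR, ha1⟩, rfl⟩
  have h1 := Nat.card_congr (Equiv.ofBijective f hf)
  rw [Nat.card_sigma, card_ne_one, Subgroup.card_top] at h1
  rw [← h1, Finset.sum_congr rfl (fun R _ => by
    rw [card_ne_one, card_Fx ρ R Q]), Finset.sum_const, Finset.card_univ, smul_eq_mul,
    Nat.card_eq_fintype_card (α := Sylow p X)]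

/-- The union bound. -/
theorem card_union [Finite X] [Finite A] {p : ℕ} [Fact p.Prime]
    (h : ∀ a : A, a ≠ 1 → ∃ Q : Sylow p X, (Q : Subgroup X) ≤ St ρ a) (Q : Sylow p X) :
    Nat.card A - 1 ≤ Nat.card (Sylow p X) * (Nat.card (Fx ρ (Q : Subgroup X)) - 1) := by
  classical
  have : Fintype (Sylow p X) := Fintype.ofFinite _
  let f : (Σ R : Sylow p X, {a : A // a ∈ Fx ρ (R : Subgroup X) ∧ a ≠ 1}) →
      {a : A // a ∈ (⊤ : Subgroup A) ∧ a ≠ 1} := fun x => ⟨x.2.1, trivial, x.2.2.2⟩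
  have hf : Function.Surjective f := by
    rintro ⟨a, -, ha1⟩
    obtain ⟨R, hR⟩ := h a ha1
    exact ⟨⟨R, a, hR, ha1⟩, rfl⟩
  have h1 := Nat.card_le_card_of_surjective f hf
  rw [Nat.card_sigma, card_ne_one, Subgroup.card_top] at h1
  refine h1.trans (le_of_eq ?_)
  rw [Finset.sum_congr rfl (fun R _ => by
    rw [card_ne_one, card_Fx ρ R Q]), Finset.sum_const, Finset.card_univ, smul_eq_mul,
    Nat.card_eq_fintype_card (α := Sylow p X)]

/-- An element `t` normalizing at most the two Sylow subgroups `Q₁ ≠ Q₂`, exchanged by an element `w`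
commuting with `t`: no nontrivial fixed points. -/
theorem fix_trivial {p : ℕ}
    (h : ∀ a : A, a ≠ 1 → ∃! Q : Sylow p X, (Q : Subgroup X) ≤ St ρ a) (t : X)
    (ht : (∀ Q : Sylow p X, t • Q ≠ Q) ∨ ∃ (Q₁ Q₂ : Sylow p X) (w : X), Q₁ ≠ Q₂ ∧
      (∀ Q : Sylow p X, t • Q = Q → Q = Q₁ ∨ Q = Q₂) ∧ w * t = t * w ∧ w • Q₁ = Q₂ ∧ w • Q₂ = Q₁)
    {a : A} (ha : ρ t a = a) : a = 1 := by
  by_contra ha1
  have key : ∀ b : A, b ≠ 1 → ρ t b = b → ∃ Q : Sylow p X, (Q : Subgroup X) ≤ St ρ b ∧ t • Q = Q := by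
    intro b hb hbt
    obtain ⟨Q, hQ, huniq⟩ := h b hb
    refine ⟨Q, hQ, huniq _ ?_⟩
    have h1 : b ∈ Fx ρ ((t • Q : Sylow p X) : Subgroup X) := by
      rw [Fx_smul]
      exact ⟨b, hQ, hbt⟩
    exact h1
  rcases ht with ht | ⟨Q₁, Q₂, w, hne, ht, hw, hw1, hw2⟩
  · obtain ⟨Q, -, hQ⟩ := key a ha1 ha
    exact ht Q hQ
  have main : ∀ (R₁ R₂ : Sylow p X), R₁ ≠ R₂ → (∀ Q : Sylow p X, t • Q = Q → Q = R₁ ∨ Q = R₂) →
      w • R₁ = R₂ → (R₁ : Subgroup X) ≤ St ρ a → False := by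
    intro R₁ R₂ hR hR12 hwR haR
    have hb1 : ρ w a ∈ Fx ρ (R₂ : Subgroup X) := by
      rw [← hwR, Fx_smul]
      exact ⟨a, haR, rfl⟩
    have hb2 : ρ t (ρ w a) = ρ w a := by
      rw [← MulAut.mul_apply, ← map_mul, ← hw, map_mul, MulAut.mul_apply, ha]
    have hbne : ρ w a ≠ 1 := by
      intro h1
      apply ha1
      exact (map_eq_one_iff _ (ρ w).injective).1 h1
    have hb3 : ρ w a ∉ Fx ρ (R₁ : Subgroup X) := fun h1 =>
      hR ((h _ hbne).unique h1 hb1)
    have hc1 : ρ t (a * ρ w a) = a * ρ w a := by rw [map_mul, ha, hb2]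
    have hcne : a * ρ w a ≠ 1 := by
      intro h1
      have h2 : ρ w a = a⁻¹ := (inv_eq_of_mul_eq_one_right h1).symm
      apply hb3
      rw [h2]
      exact inv_mem (show a ∈ Fx ρ (R₁ : Subgroup X) from haR)
    obtain ⟨Q, hQ, hQt⟩ := key _ hcne hc1
    rcases hR12 Q hQt with rfl | rfl
    · apply hb3
      have h1 : a⁻¹ * (a * ρ w a) ∈ Fx ρ (Q : Subgroup X) :=
        mul_mem (inv_mem (show a ∈ Fx ρ (Q : Subgroup X) from haR)) hQ
      rwa [inv_mul_cancel_left] at h1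
    · have h1 : (a * ρ w a) * (ρ w a)⁻¹ ∈ Fx ρ (Q : Subgroup X) := mul_mem hQ (inv_mem hb1)
      rw [mul_inv_cancel_right] at h1
      exact hR ((h a ha1).unique haR h1)
  obtain ⟨Q, hQ, hQt⟩ := key a ha1 ha
  rcases ht Q hQt with rfl | rfl
  · exact main Q Q₂ hne ht hw1 hQ
  · exact main Q Q₁ hne.symm (fun R hR => (ht R hR).symm) hw2 hQ

/-- Two commuting elements of square acting trivially, such that they and their product have no
nontrivial fixed point: the group is trivial. -/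
theorem eq_one_of_klein (t₁ t₂ : X) (h1 : ∀ a, ρ t₁ (ρ t₁ a) = a) (h2 : ∀ a, ρ t₂ (ρ t₂ a) = a)
    (f1 : ∀ a, ρ t₁ a = a → a = 1) (f2 : ∀ a, ρ t₂ a = a → a = 1)
    (f3 : ∀ a, ρ (t₁ * t₂) a = a → a = 1) (a : A) : a = 1 := by
  have i1 : ∀ a, ρ t₁ a = a⁻¹ := by
    intro a
    have := f1 (a * ρ t₁ a) (by rw [map_mul, h1, mul_comm])
    exact (inv_eq_of_mul_eq_one_right this).symm
  have i2 : ∀ a, ρ t₂ a = a⁻¹ := by
    intro a
    have := f2 (a * ρ t₂ a) (by rw [map_mul, h2, mul_comm])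
    exact (inv_eq_of_mul_eq_one_right this).symm
  apply f3
  rw [map_mul, MulAut.mul_apply, i2, i1, inv_inv]

end

section arith

/-- Arithmetic of the partition, `q + 1` Sylow subgroups. -/
theorem arith {p r a m c : ℕ} (hp : p.Prime) (hr : r.Prime) (ha : 0 < a) (hm : 0 < m)
    (h : r ^ m - 1 = (p ^ a + 1) * (r ^ c - 1)) : r = p ∧ r ^ m = (p ^ a) ^ 2 := by
  have hrm : 1 < r ^ m := Nat.one_lt_pow hm.ne' hr.one_lt
  have hrc : 1 ≤ r ^ c := Nat.one_le_pow _ _ hr.pos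
  have hq : 0 < p ^ a := pow_pos hp.pos _
  -- `q = r ^ c * (q + 1) - r ^ m`
  have h1 : r ^ m + p ^ a = r ^ c * (p ^ a + 1) := by
    zify [hrc, hrm.le] at h ⊢
    linarith
  have hc0 : c ≠ 0 := by
    rintro rfl
    rw [pow_zero, Nat.sub_self, mul_zero] at h
    omega
  have hcm : c ≤ m := by
    by_contra hcon
    push Not at hcon
    have h2 : r ^ m ≤ r ^ c := Nat.pow_le_pow_right hr.pos hcon.le
    have h3 : r ^ m < r ^ c := Nat.pow_lt_pow_right hr.one_lt hcon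
    nlinarith
  have hdvd : r ^ c ∣ p ^ a := by
    have h2 : r ^ c ∣ r ^ m + p ^ a := h1 ▸ dvd_mul_right _ _
    exact (Nat.dvd_add_right (pow_dvd_pow r hcm)).1 h2
  have hrp : r = p := (Nat.prime_dvd_prime_iff_eq hr hp).1
    (hr.dvd_of_dvd_pow ((dvd_pow_self r hc0).trans hdvd))
  subst hrp
  refine ⟨rfl, ?_⟩
  have hca : c ≤ a := by
    by_contra hcon
    push Not at hcon
    have := Nat.le_of_dvd hq hdvd
    have := Nat.pow_lt_pow_right hr.one_lt hcon
    omega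
  -- divide by `r ^ c`
  obtain ⟨m', rfl⟩ := Nat.exists_eq_add_of_le hcm
  obtain ⟨a', rfl⟩ := Nat.exists_eq_add_of_le hca
  have h2 : r ^ m' + r ^ a' = r ^ (c + a') + 1 := by
    have h3 : r ^ c * (r ^ m' + r ^ a') = r ^ c * (r ^ (c + a') + 1) := by
      rw [← h1, mul_add, ← pow_add, ← pow_add]
    exact Nat.eq_of_mul_eq_mul_left (pow_pos hr.pos c) h3
  -- `a' = 0`
  have ha' : a' = 0 := by
    by_contra h0
    have h4 : r ∣ r ^ (c + a') := dvd_pow_self r (by omega)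
    have h5 : r ∣ r ^ a' := dvd_pow_self r h0
    have hm' : m' = 0 := by
      by_contra h6
      have h7 : r ∣ r ^ m' := dvd_pow_self r h6
      have h8 : r ∣ r ^ (c + a') + 1 := h2 ▸ dvd_add h7 h5
      exact hr.one_lt.ne' (Nat.dvd_one.1 ((Nat.dvd_add_right h4).1 h8))
    rw [hm', pow_zero, add_comm] at h2
    have h9 : r ^ a' = r ^ (c + a') := by omega
    have h10 := Nat.pow_right_injective hr.two_le h9
    omega
  subst ha'
  rw [pow_zero, add_zero] at h2
  have h11 : r ^ m' = r ^ c := by omega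
  have h12 := Nat.pow_right_injective hr.two_le h11
  subst h12
  ring

theorem arith_ten {r m c : ℕ} (hr : r.Prime) (hm : 0 < m) (h : r ^ m - 1 = 10 * (r ^ c - 1)) :
    r = 3 := by
  have hrm : 1 < r ^ m := Nat.one_lt_pow hm.ne' hr.one_lt
  have hrc : 1 ≤ r ^ c := Nat.one_le_pow _ _ hr.pos
  have h1 : r ^ m + 9 = r ^ c * 10 := by omega
  have hc0 : c ≠ 0 := by
    rintro rfl
    rw [pow_zero] at h
    omega
  have hdvd : r ∣ 9 := by
    have h2 : r ∣ r ^ m + 9 := by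
      rw [h1]; exact Dvd.dvd.mul_right (dvd_pow_self r hc0) _
    exact (Nat.dvd_add_right (dvd_pow_self r hm.ne')).1 h2
  have : r ∣ 3 ^ 2 := hdvd
  exact (Nat.prime_dvd_prime_iff_eq hr Nat.prime_three).1 (hr.dvd_of_dvd_pow this)

theorem arith_fiftyfive {r m c : ℕ} (hr : r.Prime) (hm : 0 < m)
    (h : r ^ m - 1 = 55 * (r ^ c - 1)) : False := by
  have hrm : 1 < r ^ m := Nat.one_lt_pow hm.ne' hr.one_lt
  have hrc : 1 ≤ r ^ c := Nat.one_le_pow _ _ hr.pos
  have h1 : r ^ m + 54 = r ^ c * 55 := by omega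
  have hc0 : c ≠ 0 := by
    rintro rfl
    rw [pow_zero] at h
    omega
  have hcm : c ≤ m := by
    by_contra hcon
    push Not at hcon
    have h3 : r ^ m < r ^ c := Nat.pow_lt_pow_right hr.one_lt hcon
    omega
  have hdvd : r ^ c ∣ 54 := by
    have h2 : r ^ c ∣ r ^ m + 54 := h1 ▸ dvd_mul_right _ _
    exact (Nat.dvd_add_right (pow_dvd_pow r hcm)).1 h2
  have hle := Nat.le_of_dvd (by norm_num) hdvd
  -- `r ^ m` is one of finitely many numbers
  obtain ⟨k, hk⟩ := Nat.exists_eq_add_of_le hcm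
  subst hk
  have h4 : r ^ c * r ^ k + 54 = r ^ c * 55 := by rw [← pow_add]; exact h1
  have hr54 : r ∣ 54 := (dvd_pow_self r hc0).trans hdvd
  have hr23 : r = 2 ∨ r = 3 := by
    have : r ∣ 2 * 3 ^ 3 := hr54
    rcases (Nat.Prime.dvd_mul hr).1 this with h | h
    · exact Or.inl ((Nat.prime_dvd_prime_iff_eq hr Nat.prime_two).1 h)
    · exact Or.inr ((Nat.prime_dvd_prime_iff_eq hr Nat.prime_three).1 (hr.dvd_of_dvd_pow h))
  have hk5 : k < 6 := by
    by_contra hcon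
    push Not at hcon
    have h5 : 2 ^ 6 ≤ r ^ k :=
      (Nat.pow_le_pow_right (by norm_num) hcon).trans (Nat.pow_le_pow_left hr.two_le k)
    have : 1 ≤ r ^ c := hrc
    nlinarith
  have hc5 : c < 6 := by
    by_contra hcon
    push Not at hcon
    have h5 : 2 ^ 6 ≤ r ^ c :=
      (Nat.pow_le_pow_right (by norm_num) hcon).trans (Nat.pow_le_pow_left hr.two_le c)
    omega
  rcases hr23 with rfl | rfl
  · interval_cases c <;> interval_cases k <;> omega
  · interval_cases c <;> interval_cases k <;> omega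

end arith

end Cfsg.Agent.H596.OnePart
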