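import Cfsg.Agent.H596.OneKlein
import Cfsg.Agent.H571.SylowNumber

/-!
# The case of a quotient `V . SL(2,F)` (helper596, for S4764)

* `Ctx.quot` : passing to the quotient by a normal subgroup `K` with `K ⊓ N = ⊥`;
* `Ctx.caseC_V`, `caseD_V` : `G ⧸ N` has a normal `p`-subgroup `V` with quotient `SL(2,F)`.
-/

set_option autoImplicit false

open Cfsg

namespace Cfsg.Agent.H596.OneV

open Cfsg.Agent.H596.OneSing Cfsg.Agent.H596.OnePart Cfsg.Agent.H596.OneL2 Cfsg.Agent.H670.PSing
  Cfsg.Agent.H596.OneCtx Cfsg.Agent.H596.OneKlein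
open Cfsg.Agent.Characters.Core Cfsg.Agent.OddOrderCharacters.IndRes Cfsg.Agent.Blocks.Knorr

universe u

section

variable {G : Type u} [Group G] {N : Subgroup G}

theorem separates [Finite G] (hc : ∀ a ∈ N, ∀ b ∈ N, a * b = b * a) {n : N} (hn : n ≠ 1) :
    ∃ lam : N →* ℂˣ, lam n ≠ 1 := by
  let _ : CommGroup N := { (inferInstance : Group N) with
    mul_comm := fun a b => Subtype.ext (hc a a.2 b b.2) }
  exact CommGroup.exists_apply_ne_one_of_hasEnoughRootsOfUnity N ℂ hn

/-- An element acting trivially on the linear characters of `N` centralizes `N`. -/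
theorem comm_of_act [Finite G] [N.Normal] (hc : ∀ a ∈ N, ∀ b ∈ N, a * b = b * a) {g : G}
    (hg : ∀ lam : N →* ℂˣ, act N hc (QuotientGroup.mk' N g) lam = lam) : ∀ n ∈ N, g * n = n * g := by
  intro n hn
  have h1 : (MulAut.conjNormal g : MulAut N).symm ⟨n, hn⟩ = ⟨n, hn⟩ := by
    by_contra hne
    have h2 : ((MulAut.conjNormal g : MulAut N).symm ⟨n, hn⟩) * (⟨n, hn⟩ : N)⁻¹ ≠ 1 := fun h =>
      hne (mul_inv_eq_one.1 h)
    obtain ⟨lam, hlam⟩ := separates hc h2
    apply hlam
    rw [map_mul, map_inv, mul_inv_eq_one]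
    have h3 := DFunLike.congr_fun (hg lam) ⟨n, hn⟩
    rw [act_mk] at h3
    exact h3
  have h2 := congrArg Subtype.val h1
  rw [MulAut.conjNormal_symm_apply] at h2
  have h3 : g⁻¹ * n * g = n := h2
  calc g * n = g * (g⁻¹ * n * g) := by rw [h3]
    _ = n * g := by group

end

/-- A normal `p`-subgroup does not matter for the property `LL`. -/
theorem ll_of_pker {p q : ℕ} [Fact p.Prime] {X : Type*} [Group X] [Finite X] (V : Subgroup X)
    [V.Normal] (hV : IsPGroup p V) (h : LL p q (X ⧸ V)) : LL p q X := by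
  have hf := QuotientGroup.mk'_surjective V
  have hk : IsPGroup p (QuotientGroup.mk' V).ker := by rw [QuotientGroup.ker_mk']; exact hV
  refine ⟨fun P Q hPQ => ?_, ?_⟩
  · have hP : V ≤ P := hV.le_sylow_of_normal P
    have hQ : V ≤ Q := hV.le_sylow_of_normal Q
    have h1 := h.gen (P.mapSurjective hf) (Q.mapSurjective hf) (by
      intro h1
      apply hPQ
      apply Sylow.ext
      have h2 : (P : Subgroup X).map (QuotientGroup.mk' V) = (Q : Subgroup X).map (QuotientGroup.mk' V) :=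
        congrArg (fun S : Sylow p (X ⧸ V) => (S : Subgroup (X ⧸ V))) h1
      have h3 := congrArg (Subgroup.comap (QuotientGroup.mk' V)) h2
      rwa [Subgroup.comap_map_eq_self (by rw [QuotientGroup.ker_mk']; exact hP),
        Subgroup.comap_map_eq_self (by rw [QuotientGroup.ker_mk']; exact hQ)] at h3)
    rw [Sylow.coe_mapSurjective, Sylow.coe_mapSurjective, ← Subgroup.map_sup] at h1
    have h2 := congrArg (Subgroup.comap (QuotientGroup.mk' V)) h1
    rwa [Subgroup.comap_map_eq_self (by rw [QuotientGroup.ker_mk']; exact hP.trans le_sup_left),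
      Subgroup.comap_top] at h2
  · rw [← h.card]
    exact H571.SylowNumber.card_sylow_of_surjective (QuotientGroup.mk' V) hf hk

section

variable {p r : ℕ} {G : Type u} [Group G] [Finite G] {N : Subgroup G}

/-- Passing to the quotient by `K`, `K ⊓ N = ⊥`. -/
theorem Ctx.quot (h : Ctx p r N) (K : Subgroup G) [K.Normal] (hK : K ⊓ N = ⊥) :
    Ctx p r (N.map (QuotientGroup.mk' K)) := by
  have hN := h.norm
  have hs := QuotientGroup.mk'_surjective K
  refine ⟨hN.map _ hs, ?_, ?_, ?_, ?_, ?_, ?_⟩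
  · intro h0
    rw [Subgroup.map_eq_bot_iff, QuotientGroup.ker_mk'] at h0
    exact h.ne (by rw [← hK, inf_eq_right.2 h0])
  · intro M hM hMN
    set M' := M.comap (QuotientGroup.mk' K) with hM'
    have hM'n : M'.Normal := hM.comap _
    have hKM : K ≤ M' := by
      rw [hM']
      intro x hx
      rw [Subgroup.mem_comap]
      have : QuotientGroup.mk' K x = 1 := (QuotientGroup.eq_one_iff x).2 hx
      rw [this]; exact one_mem _
    have hMM : M = M'.map (QuotientGroup.mk' K) := (Subgroup.map_comap_eq_self_of_surjective hs M).symm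
    have hM'N : ∀ x ∈ M', ∃ n ∈ N, ∃ k ∈ K, x = n * k := by
      intro x hx
      obtain ⟨n, hn, hnx⟩ := hMN hx
      have : n⁻¹ * x ∈ K := QuotientGroup.eq.1 hnx
      exact ⟨n, hn, _, this, by group⟩
    have hinf : (M' ⊓ N).Normal := inferInstance
    rcases h.min _ hinf inf_le_right with h1 | h1
    · left
      rw [hMM, Subgroup.map_eq_bot_iff, QuotientGroup.ker_mk']
      intro x hx
      obtain ⟨n, hn, k, hk, rfl⟩ := hM'N x hx
      have h2 : n ∈ M' := by
        have := mul_mem hx (inv_mem (hKM hk))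
        rwa [mul_inv_cancel_right] at this
      have h3 : n ∈ M' ⊓ N := ⟨h2, hn⟩
      rw [h1, Subgroup.mem_bot] at h3
      rw [h3, one_mul]
      exact hk
    · right
      apply le_antisymm hMN
      rw [hMM]
      apply Subgroup.map_mono
      rw [← h1]
      exact inf_le_left
  · rintro _ ⟨a, ha, rfl⟩ _ ⟨b, hb, rfl⟩
    rw [← map_mul, ← map_mul, h.comm a ha b hb]
  · exact h.pgr.map _
  · rintro _ ⟨a, ha, rfl⟩
    rw [← map_pow, h.pow a ha, map_one]
  · rintro χ hχ ⟨_, ⟨n, hn, rfl⟩, hne⟩ hd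
    have h1 : IsIrrCharacter G (χ ∘ QuotientGroup.mk' K) := isIrr_comp _ hs hχ
    refine h.prm _ h1 ⟨n, hn, ?_⟩ ?_
    · show χ (QuotientGroup.mk' K n) ≠ χ (QuotientGroup.mk' K 1)
      rw [map_one]; exact hne
    · have h2 : charDegree (χ ∘ QuotientGroup.mk' K) = charDegree χ := by
        apply charDegree_eq_of
        show χ (QuotientGroup.mk' K 1) = _
        rw [map_one, charDegree_eq hχ]
      rw [h2]; exact hd

/-- Case C, `G ⧸ N = V . SL(2,F)`: impossible. -/
theorem Ctx.caseC_V [hp : Fact p.Prime] (h : Ctx p r N) [N.Normal] (hr : r.Prime) (hrp : r ≠ p)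
    (hIM : AllIM.{u} p) {F : Type} [Field F] [Fintype F] [CharP F p] (h4 : 4 ≤ Fintype.card F)
    (V : Subgroup (G ⧸ N)) [hVn : V.Normal] (hV : IsPGroup p V)
    (e : (G ⧸ N) ⧸ V ≃* Matrix.SpecialLinearGroup (Fin 2) F) : False := by
  have hrF := Fact.mk hr
  set U := V.comap (QuotientGroup.mk' N) with hU
  have hUn : U.Normal := hVn.comap _
  have hNU : N ≤ U := by
    intro x hx
    rw [hU, Subgroup.mem_comap]
    have : QuotientGroup.mk' N x = 1 := (QuotientGroup.eq_one_iff x).2 hx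
    rw [this]; exact one_mem _
  have hUV : U.map (QuotientGroup.mk' N) = V :=
    Subgroup.map_comap_eq_self_of_surjective (QuotientGroup.mk'_surjective N) V
  -- `U` centralizes `N`
  have hcent : ∀ g ∈ U, ∀ n ∈ N, g * n = n * g := by
    intro g hg
    apply comm_of_act h.comm
    intro lam
    by_cases hlam : lam = 1
    · rw [hlam, map_one]
    · obtain ⟨Q, hQ⟩ := exists_sylow_le N h.comm h.prm hlam
      exact hQ (hV.le_sylow_of_normal Q hg)
  -- the Sylow subgroup of `U`
  obtain ⟨P⟩ : Nonempty (Sylow p U) := inferInstance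
  have hsup : (P : Subgroup U) ⊔ N.subgroupOf U = ⊤ := by
    rw [← Subgroup.index_eq_one]
    have h1 : ((P : Subgroup U) ⊔ N.subgroupOf U).index ∣ (P : Subgroup U).index :=
      Subgroup.index_dvd_of_le le_sup_left
    have h2 : ((P : Subgroup U) ⊔ N.subgroupOf U).index ∣ (N.subgroupOf U).index :=
      Subgroup.index_dvd_of_le le_sup_right
    have h3 : (N.subgroupOf U).index = Nat.card V := by
      have h5 := Subgroup.relIndex_ker U (QuotientGroup.mk' N)
      rw [QuotientGroup.ker_mk', hUV] at h5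
      exact h5
    obtain ⟨k, hk⟩ := (IsPGroup.iff_card (p := p)).1 hV
    rw [h3, hk] at h2
    obtain ⟨j, -, hj⟩ := (Nat.dvd_prime_pow hp.out).1 h2
    rcases Nat.eq_zero_or_pos j with h0 | h0
    · rw [hj, h0, pow_zero]
    · exfalso
      exact P.not_dvd_index ((dvd_pow_self p h0.ne').trans (hj ▸ h1))
  have hPn : (P : Subgroup U).Normal := by
    constructor
    intro x hx g
    have hg : g ∈ (P : Subgroup U) ⊔ N.subgroupOf U := by rw [hsup]; trivial
    obtain ⟨y, hy, n, hn, rfl⟩ := Subgroup.mem_sup_of_normal_right.1 hg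
    have h1 : n * x * n⁻¹ = x := by
      apply Subtype.ext
      show (n : G) * x * (n : G)⁻¹ = x
      rw [← hcent x x.2 n (Subgroup.mem_subgroupOf.1 hn), mul_inv_cancel_right]
    have h2 : y * n * x * (y * n)⁻¹ = y * (n * x * n⁻¹) * y⁻¹ := by group
    rw [h2, h1]
    exact mul_mem (mul_mem hy hx) (inv_mem hy)
  have hPc : (P : Subgroup U).Characteristic := Sylow.characteristic_of_normal P hPn
  set K := (P : Subgroup U).map U.subtype with hK
  have hKn : K.Normal := ConjAct.normal_of_characteristic_of_normal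
  have hKU : K ≤ U := Subgroup.map_subtype_le _
  have hKp : IsPGroup p K := P.isPGroup'.map _
  have hKN : K ⊓ N = ⊥ := by
    have := IsPGroup.disjoint_of_ne p r hrp.symm K N hKp h.pgr
    exact disjoint_iff.1 this
  have hKNU : K ⊔ N = U := by
    have h1 := congrArg (Subgroup.map U.subtype) hsup
    rw [Subgroup.map_sup, Subgroup.subgroupOf_map_subtype, inf_eq_left.2 hNU,
      ← MonoidHom.range_eq_map, Subgroup.range_subtype] at h1
    exact h1
  -- the quotient
  have hc := Ctx.quot h K hKN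
  have hcn := hc.norm
  have hEq : N.map (QuotientGroup.mk' K) = U.map (QuotientGroup.mk' K) := by
    rw [← hKNU, Subgroup.map_sup]
    have h1 : K.map (QuotientGroup.mk' K) = ⊥ := by
      rw [Subgroup.map_eq_bot_iff, QuotientGroup.ker_mk']
    rw [h1, bot_sup_eq]
  have e1 : (G ⧸ K) ⧸ N.map (QuotientGroup.mk' K) ≃* (G ⧸ K) ⧸ U.map (QuotientGroup.mk' K) :=
    QuotientGroup.quotientMulEquivOfEq hEq
  have e2 : (G ⧸ K) ⧸ U.map (QuotientGroup.mk' K) ≃* G ⧸ U :=
    QuotientGroup.quotientQuotientEquivQuotient K U hKU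
  have e3 : (G ⧸ N) ⧸ U.map (QuotientGroup.mk' N) ≃* G ⧸ U :=
    QuotientGroup.quotientQuotientEquivQuotient N U hNU
  have e4 : (G ⧸ N) ⧸ U.map (QuotientGroup.mk' N) ≃* (G ⧸ N) ⧸ V :=
    QuotientGroup.quotientMulEquivOfEq hUV
  exact hc.caseC_SL hr hrp hIM h4 ((e1.trans e2).trans ((e3.symm.trans e4).trans e))

/-- Case D, `G ⧸ N = V . SL(2,F)`: impossible. -/
theorem caseD_V [hp : Fact p.Prime] (h : Ctx p p N) [N.Normal] (hIM : AllIM.{u} p)
    (hn : nSing p (G ⧸ N) ≤ 1)
    {F : Type} [Field F] [Fintype F] [CharP F p]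
    (V : Subgroup (G ⧸ N)) [hVn : V.Normal] (hV : IsPGroup p V) (hV1 : V ≠ ⊥)
    (e : (G ⧸ N) ⧸ V ≃* Matrix.SpecialLinearGroup (Fin 2) F) : False := by
  have hLs : LL p (Fintype.card F) ((G ⧸ N) ⧸ V) := (ll_SL (F := F) (p := p)).of_equiv e.symm
  have hL : LL p (Fintype.card F) (G ⧸ N) := ll_of_pker V hV hLs
  have hq : Fintype.card F ≠ 0 := Fintype.card_ne_zero
  -- the Sylow subgroups of `G ⧸ N` are abelian
  have hNt : Nontrivial N := (Subgroup.nontrivial_iff_ne_bot N).2 h.ne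
  obtain ⟨lam, hlam⟩ := exists_linear_ne_one h.pgr
  obtain ⟨F', hF'⟩ := ext_of_pgroup N h.pgr h.prm hlam
  obtain ⟨⟨Q, hQ, -⟩, hab⟩ := unique_of_ext N h.comm h.prm (fun T => hIM T) hlam F' hF'
  have hQab : ∀ a ∈ (Q : Subgroup (G ⧸ N)), ∀ b ∈ (Q : Subgroup (G ⧸ N)), a * b = b * a := by
    intro a ha b hb
    have h1 := (hab (Q.subtype hQ)).2 ⟨a, hQ ha⟩ (by
      rw [Sylow.coe_subtype]; exact Subgroup.mem_subgroupOf.2 ha) ⟨b, hQ hb⟩ (by
      rw [Sylow.coe_subtype]; exact Subgroup.mem_subgroupOf.2 hb)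
    exact congrArg Subtype.val h1
  -- `V` is central
  have hz : ∀ v ∈ V, ∀ x : G ⧸ N, x * v = v * x := by
    have hle : ∀ R : Sylow p (G ⧸ N), (R : Subgroup (G ⧸ N)) ≤ Subgroup.centralizer (V : Set (G ⧸ N)) := by
      intro R x hx
      obtain ⟨g, rfl⟩ := MulAction.exists_smul_eq (G ⧸ N) Q R
      rw [Sylow.coe_subgroup_smul] at hx
      obtain ⟨y, hy, rfl⟩ := hx
      rw [Subgroup.mem_centralizer_iff]
      intro v hv
      have h1 : g⁻¹ * v * g ∈ V := by
        have := hVn.conj_mem v hv g⁻¹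
        rwa [inv_inv] at this
      have h2 := hQab _ (hV.le_sylow_of_normal Q h1) y hy
      show v * (g * y * g⁻¹) = g * y * g⁻¹ * v
      calc v * (g * y * g⁻¹) = g * ((g⁻¹ * v * g) * y) * g⁻¹ := by group
        _ = g * (y * (g⁻¹ * v * g)) * g⁻¹ := by rw [h2]
        _ = _ := by group
    have htop : Subgroup.centralizer (V : Set (G ⧸ N)) = ⊤ := by
      have h2 : ∃ R : Sylow p (G ⧸ N), R ≠ Q := by
        by_contra hcon
        push Not at hcon
        have : Nat.card (Sylow p (G ⧸ N)) = 1 :=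
          Nat.card_eq_one_iff_unique.2 ⟨⟨fun a b => by rw [hcon a, hcon b]⟩, ⟨Q⟩⟩
        rw [hL.card] at this
        omega
      obtain ⟨R, hR⟩ := h2
      rw [eq_top_iff, ← hL.gen R Q hR]
      exact sup_le (hle R) (hle Q)
    intro v hv x
    have hx : x ∈ Subgroup.centralizer (V : Set (G ⧸ N)) := by rw [htop]; trivial
    exact (Subgroup.mem_centralizer_iff.1 hx v hv).symm
  -- contradiction in `G ⧸ N`
  have hVc : ∀ a ∈ V, ∀ b ∈ V, a * b = b * a := fun a _ b hb => hz b hb a
  have hVt : Nontrivial V := (Subgroup.nontrivial_iff_ne_bot V).2 hV1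
  have hprm : Prm p V := prm_of_le V hn (nSing_ne_zero hIM hq hLs)
  obtain ⟨mu, hmu⟩ := exists_linear_ne_one hV
  obtain ⟨F₂, hF₂⟩ := ext_of_pgroup V hV hprm hmu
  obtain ⟨⟨Q', -, hQ'⟩, -⟩ := unique_of_ext V hVc hprm (fun T => hIM T) hmu F₂ hF₂
  have hSt : ∀ y : (G ⧸ N) ⧸ V, y ∈ St (act V hVc) mu := by
    intro y
    obtain ⟨x, rfl⟩ := QuotientGroup.mk'_surjective V y
    rw [mem_St]
    ext v
    rw [act_mk]
    have : (MulAut.conjNormal x : MulAut V).symm v = v := by
      apply Subtype.ext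
      rw [MulAut.conjNormal_symm_apply, mul_assoc, ← hz v v.2 x, inv_mul_cancel_left]
    rw [this]
  have h1 : Nat.card (Sylow p ((G ⧸ N) ⧸ V)) = 1 := by
    rw [Nat.card_eq_one_iff_unique]
    exact ⟨⟨fun P R => by rw [hQ' P (fun x _ => hSt x), hQ' R (fun x _ => hSt x)]⟩, inferInstance⟩
  rw [hLs.card] at h1
  omega

end

end Cfsg.Agent.H596.OneV
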