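import Cfsg.Agent.H596.MaxB
import Cfsg.Agent.H596.OneV
import Cfsg.Agent.H596.OnePart
import Cfsg.Agent.Lib.NormalAbelian

/-!
# Normalisers of Sylow subgroups: the critical situation (helper596, for S4761)

* `core_quot` : `O_p(G ⧸ N) = 1` if `O_p(G) = 1`;
* `Sit p r N M` : a group with a section `M / N`, an elementary abelian `r`-group, on which the Sylow
  `p`-subgroups act without fixed points and are normal modulo `M`;
* `Sit.exists_R` : `M = R N` with a normal `r`-subgroup `R` such that `R P` contains all Sylow `p`-subgroups.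
-/

set_option autoImplicit false

open Cfsg

namespace Cfsg.Agent.H596.MaxC

open Cfsg.Agent.H670.PSing Cfsg.Agent.H596.MaxA Cfsg.Agent.H596.OneSing Cfsg.Agent.H596.OneCtx
open scoped Pointwise

universe u

/-- **`O_p(G ⧸ N) = 1`.** -/
theorem core_quot {G : Type u} [Group G] [Finite G] {p q : ℕ} [hp : Fact p.Prime] (hq : q.Prime) (hqp : q ≠ p)
    {N : Subgroup G} (h : Ctx p q N) [hN : N.Normal]
    (hO : ∀ R : Subgroup G, R.Normal → IsPGroup p R → R = ⊥) (R : Subgroup (G ⧸ N)) (hRn : R.Normal)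
    (hR : IsPGroup p R) : R = ⊥ := by
  obtain ⟨P⟩ : Nonempty (Sylow p G) := inferInstance
  set Pb := P.mapSurjective (QuotientGroup.mk'_surjective N) with hPb
  have hfix : ∀ x ∈ R, ∀ lam : N →* ℂˣ, act N h.comm x lam = lam := by
    intro x hx lam
    by_cases hl : lam = 1
    · rw [hl, map_one]
    · obtain ⟨Q, hQ⟩ := exists_sylow_le N h.comm h.prm hl
      exact hQ (hR.le_sylow_of_normal Q hx)
  have hcomm : ∀ g : G, QuotientGroup.mk' N g ∈ R → ∀ n ∈ N, g * n = n * g := fun g hg =>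
    OneV.comm_of_act h.comm fun lam => hfix _ hg lam
  have hRP : ∀ x ∈ R, ∃ u ∈ (P : Subgroup G), QuotientGroup.mk' N u = x := by
    intro x hx
    have h1 : x ∈ (Pb : Subgroup (G ⧸ N)) := hR.le_sylow_of_normal Pb hx
    rw [hPb, Sylow.coe_mapSurjective] at h1
    exact h1
  let S : Subgroup G := (P : Subgroup G) ⊓ R.comap (QuotientGroup.mk' N)
  have hS : S.Normal := by
    constructor
    rintro s ⟨hsP, hsR⟩ g
    have hsR' : QuotientGroup.mk' N s ∈ R := hsR
    have ht : QuotientGroup.mk' N (g * s * g⁻¹) ∈ R := by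
      rw [map_mul, map_mul, map_inv]
      exact hRn.conj_mem _ hsR' _
    refine ⟨?_, ht⟩
    obtain ⟨u, hu, hut⟩ := hRP _ ht
    have hn : u⁻¹ * (g * s * g⁻¹) ∈ N := QuotientGroup.eq.1 hut
    set n := u⁻¹ * (g * s * g⁻¹) with hn'
    have htn : g * s * g⁻¹ = u * n := by rw [hn']; group
    have hun : Commute u n := hcomm u (by rw [hut]; exact ht) n hn
    obtain ⟨k, hk⟩ := P.isPGroup' ⟨s, hsP⟩
    obtain ⟨j, hj⟩ := P.isPGroup' ⟨u, hu⟩
    have hk' : s ^ p ^ k = 1 := congrArg Subtype.val hk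
    have hj' : u ^ p ^ j = 1 := congrArg Subtype.val hj
    have h1 : (g * s * g⁻¹) ^ p ^ (k + j) = 1 := by
      rw [← MulAut.conj_apply, ← map_pow, pow_add, pow_mul, hk', one_pow, map_one]
    have h2 : u ^ p ^ (k + j) = 1 := by rw [add_comm, pow_add, pow_mul, hj', one_pow]
    rw [htn, hun.mul_pow, h2, one_mul] at h1
    have h3 : n = 1 := by
      rw [← orderOf_eq_one_iff]
      have h4 : orderOf n ∣ p ^ (k + j) := orderOf_dvd_of_pow_eq_one h1
      have h5 : orderOf n ∣ q := orderOf_dvd_of_pow_eq_one (h.pow n hn)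
      exact Nat.eq_one_of_dvd_coprimes (Nat.Coprime.pow_left _ ((Nat.coprime_primes hp.out hq).2 hqp.symm)) h4 h5
    rw [htn, h3, mul_one]
    exact hu
  have hS0 : S = ⊥ := hO S hS (P.isPGroup'.to_le inf_le_left)
  rw [eq_bot_iff]
  intro x hx
  obtain ⟨u, hu, rfl⟩ := hRP x hx
  have h1 : u ∈ S := ⟨hu, hx⟩
  rw [hS0, Subgroup.mem_bot] at h1
  rw [h1, map_one]
  exact one_mem _

/-- The situation. -/
structure Sit (p r : ℕ) {X : Type*} [Group X] (N M : Subgroup X) : Prop where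
  normN : N.Normal
  normM : M.Normal
  le : N ≤ M
  cop : ¬ p ∣ Nat.card M
  comm : ∀ P : Sylow p X, ∀ x ∈ N, ∀ s ∈ (P : Subgroup X), Commute x s
  sup : ∀ P : Sylow p X, ((P : Subgroup X) ⊔ M).Normal
  inf : ∀ P : Sylow p X, ∀ x ∈ M, x ∈ Subgroup.normalizer ((P : Subgroup X) : Set X) → x ∈ N
  ne : N ≠ M
  min : ∀ K : Subgroup X, K.Normal → N ≤ K → K ≤ M → K = N ∨ K = M
  ab : ∀ a ∈ M, ∀ b ∈ M, a * b * a⁻¹ * b⁻¹ ∈ N
  pow : ∀ a ∈ M, a ^ r ∈ N

section

variable {X : Type*} [Group X] [Finite X] {p r : ℕ} [hp : Fact p.Prime] {N M : Subgroup X}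

/-- The Sylow subgroups are conjugate under `M`. -/
theorem Sit.exists_smul (h : Sit p r N M) (P Q : Sylow p X) : ∃ m ∈ M, m • P = Q := by
  obtain ⟨g, rfl⟩ := MulAction.exists_smul_eq X P Q
  have hF := frattini P M (h.sup P)
  have hM := h.normM
  have hg : g ∈ M ⊔ Subgroup.normalizer ((P : Subgroup X) : Set X) := by rw [sup_comm, hF]; trivial
  obtain ⟨m, hm, k, hk, rfl⟩ := Subgroup.mem_sup_of_normal_left.1 hg
  refine ⟨m, hm, ?_⟩
  rw [mul_smul]
  congr 1
  exact (Sylow.smul_eq_iff_mem_normalizer.2 hk).symm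

omit hp in
theorem index_dvd (H M : Subgroup X) [M.Normal] (h : H ⊔ M = ⊤) : H.index ∣ Nat.card M := by
  have htr : MulAction.IsPretransitive M (X ⧸ H) := by
    have key : ∀ x : X ⧸ H, ∃ m : M, m • ((1 : X) : X ⧸ H) = x := by
      intro x
      obtain ⟨g, rfl⟩ := QuotientGroup.mk_surjective x
      have hg : g ∈ M ⊔ H := by rw [sup_comm, h]; trivial
      obtain ⟨m, hm, k, hk, rfl⟩ := Subgroup.mem_sup_of_normal_left.1 hg
      refine ⟨⟨m, hm⟩, ?_⟩
      show ((m * 1 : X) : X ⧸ H) = ((m * k : X) : X ⧸ H)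
      rw [mul_one, QuotientGroup.eq]
      simpa using hk
    refine ⟨fun x y => ?_⟩
    obtain ⟨a, rfl⟩ := key x
    obtain ⟨b, rfl⟩ := key y
    exact ⟨b * a⁻¹, by rw [mul_smul, inv_smul_smul]⟩
  have h1 := MulAction.index_stabilizer_of_transitive M ((1 : X) : X ⧸ H)
  have h2 : H.index = Nat.card (X ⧸ H) := rfl
  rw [h2, ← h1]
  exact Subgroup.index_dvd_card _

/-- **The normal `r`-subgroup.** -/
theorem Sit.exists_R (h : Sit p r N M) (hr : r.Prime) :
    ∃ R L : Subgroup X, R.Normal ∧ L.Normal ∧ IsPGroup r R ∧ R ≤ M ∧ R ⊔ N = M ∧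
      (∀ P : Sylow p X, (P : Subgroup X) ≤ L) ∧ (∀ P : Sylow p X, L ≤ R ⊔ (P : Subgroup X)) ∧
      ∀ q : ℕ, q.Prime → q ∣ Nat.card L → q = p ∨ q = r := by
  have hrF : Fact r.Prime := ⟨hr⟩
  have hM := h.normM
  have hN := h.normN
  -- a Sylow `r`-subgroup of `M` normalised by a Sylow `p`-subgroup
  obtain ⟨S₀⟩ : Nonempty (Sylow r M) := inferInstance
  set S : Subgroup X := (S₀ : Subgroup M).map M.subtype with hS
  have hSM : S ≤ M := Subgroup.map_subtype_le _
  have hSr : IsPGroup r S := S₀.isPGroup'.map _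
  have hF : Subgroup.normalizer (S : Set X) ⊔ M = ⊤ := Sylow.normalizer_sup_eq_top S₀
  obtain ⟨P, hP⟩ : ∃ P : Sylow p X, (P : Subgroup X) ≤ Subgroup.normalizer (S : Set X) := by
    apply exists_sylow_le_of_index
    intro hd
    exact h.cop (hd.trans (index_dvd _ M hF))
  have hPM : M ⊓ (P : Subgroup X) = ⊥ := by
    rw [eq_bot_iff]
    rintro x ⟨hxM, hxP⟩
    rw [Subgroup.mem_bot]
    by_contra hx1
    apply h.cop
    obtain ⟨k, hk⟩ := (IsPGroup.iff_orderOf.1 P.isPGroup') ⟨x, hxP⟩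
    rw [Subgroup.orderOf_mk] at hk
    have hk0 : k ≠ 0 := by
      rintro rfl
      rw [pow_zero, orderOf_eq_one_iff] at hk
      exact hx1 hk
    have h1 : orderOf x ∣ Nat.card M := Subgroup.orderOf_dvd_natCard M hxM
    rw [hk] at h1
    exact (dvd_pow_self p hk0).trans h1
  -- `M = S N`
  have hSN : S ⊔ N = M := by
    apply le_antisymm (sup_le hSM h.le)
    have h1 : ¬ r ∣ ((S₀ : Subgroup M) ⊔ N.subgroupOf M).index := fun hd =>
      S₀.not_dvd_index (hd.trans (Subgroup.index_dvd_of_le le_sup_left))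
    have h2 : IsPGroup r (M ⧸ N.subgroupOf M) := by
      intro x
      obtain ⟨y, rfl⟩ := QuotientGroup.mk_surjective x
      refine ⟨1, ?_⟩
      rw [pow_one, ← QuotientGroup.mk_pow, QuotientGroup.eq_one_iff, Subgroup.mem_subgroupOf]
      exact h.pow y y.2
    have h3 : ((S₀ : Subgroup M) ⊔ N.subgroupOf M).index ∣ (N.subgroupOf M).index :=
      Subgroup.index_dvd_of_le le_sup_right
    obtain ⟨k, hk⟩ := (IsPGroup.iff_card (p := r)).1 h2
    have h4 : (N.subgroupOf M).index = r ^ k := hk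
    rw [h4] at h3
    obtain ⟨j, -, hj⟩ := (Nat.dvd_prime_pow hr).1 h3
    have hj0 : j = 0 := by
      by_contra hj0
      exact h1 (hj ▸ dvd_pow_self r hj0)
    rw [hj0, pow_zero, Subgroup.index_eq_one] at hj
    have h5 := congrArg (Subgroup.map M.subtype) hj
    rw [Subgroup.map_sup, Subgroup.subgroupOf_map_subtype, inf_eq_left.2 h.le, ← MonoidHom.range_eq_map,
      Subgroup.range_subtype] at h5
    exact h5.ge
  -- the Sylow subgroups
  have hSyl : ∀ Q : Sylow p X, (Q : Subgroup X) ≤ S ⊔ (P : Subgroup X) := by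
    intro Q
    obtain ⟨m, hm, rfl⟩ := h.exists_smul P Q
    rw [← hSN] at hm
    obtain ⟨s, hs, n, hn, rfl⟩ := Subgroup.mem_sup_of_normal_right.1 hm
    rw [Sylow.coe_subgroup_smul]
    rintro _ ⟨x, hx, rfl⟩
    have h1 : n * x = x * n := h.comm P n hn x hx
    have h2 : (s * n) * x * (s * n)⁻¹ = s * x * s⁻¹ := by
      calc (s * n) * x * (s * n)⁻¹ = s * (n * x) * n⁻¹ * s⁻¹ := by group
        _ = s * x * s⁻¹ := by rw [h1]; group
    show (s * n) * x * (s * n)⁻¹ ∈ _
    rw [h2]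
    exact mul_mem (mul_mem (Subgroup.mem_sup_left hs) (Subgroup.mem_sup_right hx))
      (inv_mem (Subgroup.mem_sup_left hs))
  set L : Subgroup X := Subgroup.normalClosure ((P : Subgroup X) : Set X) with hL
  have hLn : L.Normal := Subgroup.normalClosure_normal
  have hPL : (P : Subgroup X) ≤ L := Subgroup.subset_normalClosure
  have hQL : ∀ Q : Sylow p X, (Q : Subgroup X) ≤ L := by
    intro Q
    obtain ⟨m, hm, rfl⟩ := h.exists_smul P Q
    rw [Sylow.coe_subgroup_smul]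
    rintro _ ⟨x, hx, rfl⟩
    exact hLn.conj_mem x (hPL hx) m
  have hLS : L ≤ S ⊔ (P : Subgroup X) := by
    rw [hL, Subgroup.normalClosure, Subgroup.closure_le]
    intro x hx
    obtain ⟨s, hs, hsx⟩ := Group.mem_conjugatesOfSet_iff.1 hx
    obtain ⟨g, rfl⟩ := isConj_iff.1 hsx
    exact hSyl (g • P) (by rw [Sylow.coe_subgroup_smul]; exact ⟨s, hs, rfl⟩)
  have hLS' : ∀ x ∈ L, ∃ y ∈ S, ∃ z ∈ (P : Subgroup X), x = y * z := by
    intro x hx
    have h1 : x ∈ ((S ⊔ (P : Subgroup X) : Subgroup X) : Set X) := hLS hx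
    rw [Subgroup.coe_mul_of_right_le_normalizer_left _ _ hP] at h1
    obtain ⟨y, hy, z, hz, rfl⟩ := h1
    exact ⟨y, hy, z, hz, rfl⟩
  have hLM : L ⊓ M ≤ S := by
    rintro x ⟨hxL, hxM⟩
    obtain ⟨y, hy, z, hz, rfl⟩ := hLS' x hxL
    have h1 : z ∈ M ⊓ (P : Subgroup X) := ⟨by
      have := mul_mem (inv_mem (hSM hy)) hxM
      rwa [inv_mul_cancel_left] at this, hz⟩
    rw [hPM, Subgroup.mem_bot] at h1
    rw [h1, mul_one]; exact hy
  have hRn : (L ⊓ M).Normal := inferInstance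
  have hLR : L ≤ L ⊓ M ⊔ (P : Subgroup X) := by
    intro x hx
    obtain ⟨y, hy, z, hz, rfl⟩ := hLS' x hx
    have h1 : y ∈ L := by
      have := mul_mem hx (inv_mem (hPL hz))
      rwa [mul_inv_cancel_right] at this
    exact mul_mem (Subgroup.mem_sup_left ⟨h1, hSM hy⟩) (Subgroup.mem_sup_right hz)
  refine ⟨L ⊓ M, L, inferInstance, hLn, hSr.to_le hLM, inf_le_right, ?_, hQL, ?_, ?_⟩
  · rcases h.min (L ⊓ M ⊔ N) inferInstance le_sup_right (sup_le inf_le_right h.le) with h1 | h1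
    · exfalso
      have hRN : L ⊓ M ≤ N := by rw [← h1]; exact le_sup_left
      apply h.ne
      apply le_antisymm h.le
      intro m hm
      apply h.inf P m hm
      refine Sylow.smul_eq_iff_mem_normalizer.1 ?_
      apply eq_of_le
      rw [Sylow.coe_subgroup_smul]
      rintro _ ⟨x, hx, rfl⟩
      have h2 : m * x * m⁻¹ * x⁻¹ ∈ L ⊓ M := by
        refine ⟨L.mul_mem (hLn.conj_mem x (hPL hx) m) (L.inv_mem (hPL hx)), ?_⟩
        have h3 : m * x * m⁻¹ * x⁻¹ = m * (x * m⁻¹ * x⁻¹) := by group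
        rw [h3]
        exact mul_mem hm (hM.conj_mem _ (inv_mem hm) x)
      have h3 : m * x * m⁻¹ = (m * x * m⁻¹ * x⁻¹) * x := by group
      show m * x * m⁻¹ ∈ _
      rw [h3]
      refine mul_mem ?_ (Subgroup.le_normalizer hx)
      rw [Subgroup.mem_normalizer_iff]
      intro y
      have h4 := h.comm P _ (hRN h2)
      constructor
      · intro hy
        rw [(h4 y hy).eq, mul_inv_cancel_right]; exact hy
      · intro hy
        have h5 := h4 _ hy
        have h6 : ∀ a y : X, Commute a (a * y * a⁻¹) → y = a * y * a⁻¹ := by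
          intro a y hc
          have h7 := (hc.inv_left).eq
          calc y = a⁻¹ * (a * y * a⁻¹) * a := by group
            _ = (a * y * a⁻¹) * a⁻¹ * a := by rw [h7]
            _ = a * y * a⁻¹ := by group
        rw [h6 _ y h5]; exact hy
    · exact h1
  · intro Q
    obtain ⟨m, hm, rfl⟩ := h.exists_smul P Q
    intro x hx
    have h1 := hLR (hLn.conj_mem x hx m⁻¹)
    obtain ⟨y, hy, z, hz, hyz⟩ := Subgroup.mem_sup_of_normal_left.1 h1
    have h2 : x = (m * y * m⁻¹) * (m * z * m⁻¹) := by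
      have h3 : x = m * (m⁻¹ * x * m⁻¹⁻¹) * m⁻¹ := by group
      rw [h3, ← hyz]; group
    rw [h2]
    refine mul_mem (Subgroup.mem_sup_left (hRn.conj_mem y hy m)) (Subgroup.mem_sup_right ?_)
    rw [Sylow.coe_subgroup_smul]
    exact ⟨z, hz, rfl⟩
  · intro q hq hqd
    have hqF : Fact q.Prime := ⟨hq⟩
    have h1 : Nat.card L ∣ Nat.card (L ⊓ M : Subgroup X) * Nat.card (P : Subgroup X) := by
      have h2 : L = L ⊓ M ⊔ (P : Subgroup X) := le_antisymm hLR (sup_le inf_le_left hPL)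
      have h3 : Nat.card L = Nat.card (L ⊓ M : Subgroup X) * (L ⊓ M).relIndex L := by
        have h4 := Subgroup.relIndex_mul_relIndex ⊥ (L ⊓ M) L bot_le inf_le_left
        rw [Subgroup.relIndex_bot_left, Subgroup.relIndex_bot_left] at h4
        exact h4.symm
      rw [h3]
      apply mul_dvd_mul_left
      have h4 : ∀ R : Subgroup X, R.Normal → L = R ⊔ (P : Subgroup X) →
          R.relIndex L = R.relIndex (P : Subgroup X) := by
        intro R _ e
        rw [e, Subgroup.relIndex_sup_left]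
      rw [h4 _ hRn h2]
      exact Subgroup.relIndex_dvd_card _ _
    rcases (hq.dvd_mul).1 (hqd.trans h1) with h2 | h2
    · right
      obtain ⟨k, hk⟩ := (IsPGroup.iff_card (p := r)).1 (hSr.to_le hLM)
      rw [hk] at h2
      exact (Nat.prime_dvd_prime_iff_eq hq hr).1 (hq.dvd_of_dvd_pow h2)
    · left
      obtain ⟨k, hk⟩ := (IsPGroup.iff_card (p := p)).1 P.isPGroup'
      rw [hk] at h2
      exact (Nat.prime_dvd_prime_iff_eq hq hp.out).1 (hq.dvd_of_dvd_pow h2)

end

end Cfsg.Agent.H596.MaxC
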