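import Cfsg.Agent.H596.MaxC

/-!
# Normalisers of Sylow subgroups: uniqueness of the Sylow subgroup fixing a linear character (helper596)

* `Prm.sub` : the property `Prm` passes to normal subgroups;
* `unique` : if a normal subgroup `L` of `G ⧸ N` of order prime to `q` contains the Sylow `p`-subgroups,
  then every nontrivial linear character of the `q`-group `N` is fixed by exactly one Sylow `p`-subgroup.
-/

set_option autoImplicit false

open Cfsg

namespace Cfsg.Agent.H596.MaxD

open Cfsg.Agent.Characters.Core Cfsg.Agent.OddOrderCharacters.IndRes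
  Cfsg.Agent.OddOrderCharacters.PF9.CliffGen
open Cfsg.Agent.H670.PSing Cfsg.Agent.H596.MaxA Cfsg.Agent.H596.OneSing Cfsg.Agent.H596.OneCtx

universe u

variable {G : Type u} [Group G] [Finite G] {p q : ℕ} [hp : Fact p.Prime]

theorem Prm.sub {N H : Subgroup G} [N.Normal] [H.Normal] (hNH : N ≤ H) (h : Prm p N) :
    Prm p (N.subgroupOf H) := by
  have : Fintype G := Fintype.ofFinite G
  have : Fintype H := Fintype.ofFinite H
  rintro χ hχ ⟨n, hn, hne⟩ hd
  obtain ⟨ψ, hψ⟩ := Blocks.Over.exists_over H ⟨χ, hχ⟩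
  refine h ψ ψ.2 ?_ (hd.trans (degree_dvd_of_over H hχ ψ.2 hψ))
  by_contra hcon
  push Not at hcon
  apply hne
  exact constituent_ker (isCharacter_res H (isIrr_isCharacter ψ.2)) hχ hψ (y := n) (by
    show (ψ : G → ℂ) n = (ψ : G → ℂ) (1 : H)
    rw [Subgroup.coe_one]
    exact hcon n (Subgroup.mem_subgroupOf.1 hn))

/-- **Uniqueness.** -/
theorem unique (hq : q.Prime) {N : Subgroup G} [hN : N.Normal] (h : Ctx p q N) (hIM : AllIM.{u} p)
    (L : Subgroup (G ⧸ N)) [hL : L.Normal] (hLq : ¬ q ∣ Nat.card L)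
    (hS : ∀ P : Sylow p (G ⧸ N), (P : Subgroup (G ⧸ N)) ≤ L) (lam : N →* ℂˣ) (hlam : lam ≠ 1) :
    ∃! Q : Sylow p (G ⧸ N), (Q : Subgroup (G ⧸ N)) ≤ St (act N h.comm) lam := by
  have hqF : Fact q.Prime := ⟨hq⟩
  set H : Subgroup G := L.comap (QuotientGroup.mk' N) with hH
  have hNH : N ≤ H := by
    intro n hn
    show QuotientGroup.mk' N n ∈ L
    rw [show QuotientGroup.mk' N n = 1 from (QuotientGroup.eq_one_iff n).2 hn]
    exact one_mem _
  have hHn : H.Normal := hL.comap _
  set N' : Subgroup H := N.subgroupOf H with hN'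
  have hN'n : N'.Normal := inferInstance
  let e : N' ≃* N := Subgroup.subgroupOfEquivOfLe hNH
  have hc' : ∀ a ∈ N', ∀ b ∈ N', a * b = b * a := fun a ha b hb =>
    Subtype.ext (h.comm a (Subgroup.mem_subgroupOf.1 ha) b (Subgroup.mem_subgroupOf.1 hb))
  have hprm : Prm p N' := Prm.sub hNH h.prm
  let lam' : N' →* ℂˣ := lam.comp e.toMonoidHom
  have hlam' : lam' ≠ 1 := by
    intro h1
    apply hlam
    ext n
    have h2 := DFunLike.congr_fun h1 (e.symm n)
    have h3 : lam' (e.symm n) = lam n := by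
      show lam (e (e.symm n)) = lam n
      rw [e.apply_symm_apply]
    rw [← h3, h2]
    rfl
  -- the index
  have hidx : N'.index = Nat.card L := by
    have h1 : (⊥ : Subgroup (G ⧸ N)).comap (QuotientGroup.mk' N) = N := by
      rw [MonoidHom.comap_bot, QuotientGroup.ker_mk']
    show N.relIndex H = Nat.card L
    conv_lhs => rw [← h1]
    rw [Subgroup.relIndex_comap, hH, Subgroup.map_comap_eq_self_of_surjective (QuotientGroup.mk'_surjective N),
      Subgroup.relIndex_bot_left]
  obtain ⟨F, hF⟩ := ext_of_sq' (r := q) N' (h.pgr.of_equiv e.symm) (fun hd => hLq (by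
    rw [← hidx]
    exact (dvd_pow_self q (by norm_num)).trans hd)) lam'
  obtain ⟨hu, -⟩ := unique_of_ext (p := p) N' hc' hprm (fun T => hIM T) hlam' F hF
  -- the embedding
  let f : H ⧸ N' →* G ⧸ N := QuotientGroup.lift N' ((QuotientGroup.mk' N).comp H.subtype) (by
    intro n hn
    exact (QuotientGroup.eq_one_iff (n : G)).2 (Subgroup.mem_subgroupOf.1 hn))
  have hf : ∀ x : H, f (QuotientGroup.mk' N' x) = QuotientGroup.mk' N (x : G) := fun x => rfl
  have hfi : Function.Injective f := by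
    rw [injective_iff_map_eq_one]
    intro x hx
    obtain ⟨y, rfl⟩ := QuotientGroup.mk'_surjective N' x
    rw [hf] at hx
    exact (QuotientGroup.eq_one_iff y).2 (Subgroup.mem_subgroupOf.2 ((QuotientGroup.eq_one_iff (y : G)).1 hx))
  have hfr : L ≤ f.range := by
    intro x hx
    obtain ⟨g, rfl⟩ := QuotientGroup.mk'_surjective N x
    exact ⟨QuotientGroup.mk' N' ⟨g, hx⟩, rfl⟩
  have hst : ∀ Q : Sylow p (G ⧸ N), (Q : Subgroup (G ⧸ N)) ≤ St (act N h.comm) lam →
      ((Q.comapOfInjective f hfi ((hS Q).trans hfr) : Sylow p (H ⧸ N')) : Subgroup (H ⧸ N')) ≤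
        St (act N' hc') lam' := by
    intro Q hQ
    rw [Sylow.coe_comapOfInjective]
    intro x hx
    obtain ⟨y, rfl⟩ := QuotientGroup.mk'_surjective N' x
    have h1 : QuotientGroup.mk' N (y : G) ∈ (Q : Subgroup (G ⧸ N)) := hx
    have h2 := hQ h1
    rw [mem_St] at h2 ⊢
    ext n
    have h3 := DFunLike.congr_fun h2 (e n)
    rw [act_mk] at h3
    rw [act_mk]
    have h4 : e ((MulAut.conjNormal y : MulAut N').symm n) = (MulAut.conjNormal (y : G) : MulAut N).symm (e n) := by
      apply Subtype.ext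
      rw [MulAut.conjNormal_symm_apply]
      show ((((MulAut.conjNormal y : MulAut N').symm n : N') : H) : G) = _
      rw [MulAut.conjNormal_symm_apply]
      rfl
    show ((lam (e ((MulAut.conjNormal y : MulAut N').symm n)) : ℂˣ) : ℂ) = (lam (e n) : ℂ)
    rw [h4, h3]
  obtain ⟨Q, hQ⟩ := exists_sylow_le N h.comm h.prm hlam
  refine ⟨Q, hQ, fun R hR => ?_⟩
  have h1 := hu.unique (hst Q hQ) (hst R hR)
  have h2 : (Q : Subgroup (G ⧸ N)).comap f = (R : Subgroup (G ⧸ N)).comap f := by
    have := congrArg (fun P : Sylow p (H ⧸ N') => (P : Subgroup (H ⧸ N'))) h1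
    simpa only [Sylow.coe_comapOfInjective] using this
  have h3 := congrArg (Subgroup.map f) h2
  rw [Subgroup.map_comap_eq, Subgroup.map_comap_eq, inf_eq_right.2 ((hS Q).trans hfr),
    inf_eq_right.2 ((hS R).trans hfr)] at h3
  exact Sylow.ext h3.symm

end Cfsg.Agent.H596.MaxD
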