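import Cfsg.Agent.H596.MaxD
import Cfsg.Agent.H273.S61.Bin
import Cfsg.Agent.S0126
import Cfsg.Agent.H586.GenAut

/-!
# Normalisers of Sylow subgroups: the contradiction in the critical situation (helper596, for S4761)

`X` acts on the elementary abelian `q`-group `A` such that every `a ≠ 1` is fixed by exactly one Sylow
`p`-subgroup.

* `fix_of_comm` : an element commuting with the Sylow `p`-subgroups and fixing some `a ≠ 1` acts trivially;
* `fix_out` : the elements of `M` outside `N` have no nontrivial fixed points;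
* `contra` : the situation `Sit p r N M` is impossible.
-/

set_option autoImplicit false

open Cfsg

namespace Cfsg.Agent.H596.MaxE

open Cfsg.Agent.H596.MaxA Cfsg.Agent.H596.MaxC Cfsg.Agent.H596.OneSing Cfsg.Agent.H596.OnePart
open scoped Pointwise

section

variable {X A : Type*} [Group X] [Finite X] [CommGroup A] {ρ : X →* MulAut A} {p : ℕ} [hp : Fact p.Prime]

omit [Finite X] hp in
theorem Fx_of_comm {Q : Sylow p X} {z : X} (hz : ∀ s ∈ (Q : Subgroup X), Commute z s) {b : A}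
    (hb : b ∈ Fx ρ (Q : Subgroup X)) : ρ z b ∈ Fx ρ (Q : Subgroup X) := by
  intro s hs
  rw [← MulAut.mul_apply, ← map_mul, ← (hz s hs).eq, map_mul, MulAut.mul_apply, hb s hs]

/-- An element commuting with the Sylow `p`-subgroups and fixing some `a ≠ 1` acts trivially. -/
theorem fix_of_comm (hu : ∀ a : A, a ≠ 1 → ∃! Q : Sylow p X, (Q : Subgroup X) ≤ St ρ a)
    (h2 : ∃ P Q : Sylow p X, P ≠ Q) {z : X} (hz : ∀ Q : Sylow p X, ∀ s ∈ (Q : Subgroup X), Commute z s)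
    {a : A} (ha : a ≠ 1) (hza : ρ z a = a) : ρ z = 1 := by
  have step : ∀ (a : A), a ≠ 1 → ρ z a = a → ∀ Q : Sylow p X, a ∈ Fx ρ (Q : Subgroup X) →
      ∀ (R : Sylow p X), R ≠ Q → ∀ b ∈ Fx ρ (R : Subgroup X), ρ z b = b := by
    intro a ha hza Q hQ R hRQ b hb
    by_contra hne
    have hb1 : b ≠ 1 := by rintro rfl; exact hne (map_one _)
    have hab : a * b ≠ 1 := by
      intro h1
      have h3 : b = a⁻¹ := (inv_eq_of_mul_eq_one_right h1).symm
      exact hRQ ((hu b hb1).unique hb (by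
        show b ∈ Fx ρ (Q : Subgroup X)
        rw [h3]; exact inv_mem hQ))
    obtain ⟨S, hS, -⟩ := hu _ hab
    have hS' : a * b ∈ Fx ρ (S : Subgroup X) := hS
    have h3 := Fx_of_comm (hz S) hS'
    rw [map_mul, hza] at h3
    have hc : ρ z b * b⁻¹ ≠ 1 := fun h => hne (mul_inv_eq_one.1 h)
    have h4 : ρ z b * b⁻¹ ∈ Fx ρ (S : Subgroup X) := by
      have h5 : ρ z b * b⁻¹ = (a * ρ z b) * (a * b)⁻¹ := by
        rw [mul_inv_rev, mul_comm b⁻¹, mul_comm a, mul_assoc, mul_inv_cancel_left]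
      rw [h5]
      exact mul_mem h3 (inv_mem hS')
    have h5 : ρ z b * b⁻¹ ∈ Fx ρ (R : Subgroup X) := mul_mem (Fx_of_comm (hz R) hb) (inv_mem hb)
    have h6 : S = R := (hu _ hc).unique h4 h5
    rw [h6] at hS'
    have h7 : a ∈ Fx ρ (R : Subgroup X) := by
      have := mul_mem hS' (inv_mem hb)
      rwa [mul_inv_cancel_right] at this
    exact hRQ ((hu a ha).unique h7 hQ)
  obtain ⟨Q, hQ, -⟩ := hu a ha
  obtain ⟨R, hR⟩ : ∃ R : Sylow p X, R ≠ Q := by
    obtain ⟨P, P', hPP'⟩ := h2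
    by_cases h3 : P = Q
    · exact ⟨P', fun h4 => hPP' (h3.trans h4.symm)⟩
    · exact ⟨P, h3⟩
  obtain ⟨g, hg⟩ := MulAction.exists_smul_eq X Q R
  have hb : ρ g a ∈ Fx ρ (R : Subgroup X) := by
    rw [← hg, Fx_smul]
    exact ⟨a, hQ, rfl⟩
  have hb1 : ρ g a ≠ 1 := fun h => ha ((map_eq_one_iff _ (ρ g).injective).1 h)
  have hzb := step a ha hza Q hQ R hR _ hb
  ext1 c
  show ρ z c = c
  by_cases hc1 : c = 1
  · rw [hc1, map_one]
  obtain ⟨S, hS, -⟩ := hu c hc1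
  by_cases hSQ : S = Q
  · exact step _ hb1 hzb R hb S (by rw [hSQ]; exact hR.symm) c hS
  · exact step a ha hza Q hQ S hSQ c hS

variable {r : ℕ} {N M : Subgroup X}

omit hp in
/-- The elements of `M` outside `N` have no nontrivial fixed points. -/
theorem fix_out (hu : ∀ a : A, a ≠ 1 → ∃! Q : Sylow p X, (Q : Subgroup X) ≤ St ρ a) (h : Sit p r N M)
    {x : X} (hx : x ∈ M) (hxN : x ∉ N) {a : A} (ha : ρ x a = a) : a = 1 := by
  by_contra ha1
  obtain ⟨Q, hQ, huniq⟩ := hu a ha1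
  apply hxN
  apply h.inf Q x hx
  refine Sylow.smul_eq_iff_mem_normalizer.1 ?_
  apply huniq
  have h1 : a ∈ Fx ρ ((x • Q : Sylow p X) : Subgroup X) := by
    rw [Fx_smul]
    exact ⟨a, hQ, ha⟩
  exact h1

/-- The number of Sylow `p`-subgroups. -/
theorem card_sylow (h : Sit p r N M) : Nat.card (Sylow p X) = N.relIndex M := by
  obtain ⟨P⟩ : Nonempty (Sylow p X) := inferInstance
  have htr : MulAction.IsPretransitive M (Sylow p X) := by
    refine ⟨fun P Q => ?_⟩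
    obtain ⟨m, hm, hmP⟩ := h.exists_smul P Q
    exact ⟨⟨m, hm⟩, hmP⟩
  rw [← MulAction.index_stabilizer_of_transitive M P]
  show _ = (N.subgroupOf M).index
  congr 1
  ext x
  rw [MulAction.mem_stabilizer_iff, Subgroup.mem_subgroupOf]
  constructor
  · intro hx
    exact h.inf P x x.2 (Sylow.smul_eq_iff_mem_normalizer.1 hx)
  · intro hx
    refine Sylow.smul_eq_iff_mem_normalizer.2 ?_
    show (x : X) ∈ Subgroup.normalizer ((P : Subgroup X) : Set X)
    have key : ∀ y ∈ N, ∀ s ∈ (P : Subgroup X), y * s * y⁻¹ ∈ (P : Subgroup X) := by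
      intro y hy s hs
      rw [(h.comm P y hy s hs).eq, mul_inv_cancel_right]
      exact hs
    rw [Subgroup.mem_normalizer_iff]
    intro s
    constructor
    · exact key x hx s
    · intro hs
      have := key _ (inv_mem hx) _ hs
      have h3 : (x : X)⁻¹ * (x * s * (x : X)⁻¹) * (x : X)⁻¹⁻¹ = s := by group
      rwa [h3] at this

/-- An `r`-group of fixed point free automorphisms is cyclic, `r` odd. -/
theorem cyclic [Finite A] [Nontrivial A] {q : ℕ} (hq : q.Prime) (hA : ∀ a : A, a ^ q = 1) (hr : r.Prime)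
    (hr2 : r ≠ 2) (hrq : r ≠ q) (Y : Subgroup (MulAut A)) (hY : IsPGroup r Y)
    (hf : ∀ y ∈ Y, y ≠ 1 → ∀ a : A, y a = a → a = 1) : IsCyclic Y := by
  have : Fact r.Prime := ⟨hr⟩
  have : Fact q.Prime := ⟨hq⟩
  have hfinA : Finite (MulAut A) :=
    Finite.of_injective (fun g : MulAut A => (g : A → A)) DFunLike.coe_injective
  by_contra hcon
  obtain ⟨E, -, hE, hcE⟩ := Cfsg.Agent.S0126.result hr2 hY hcon
  let E' : Subgroup (MulAut A) := E.map Y.subtype
  have eE : E ≃* E' := E.equivMapOfInjective _ Y.subtype_injective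
  have hcE' : Nat.card E' = r ^ 2 := by rw [← Nat.card_congr eE.toEquiv, hcE]
  have hcomm : IsMulCommutative E' := by
    refine ⟨⟨fun a b => ?_⟩⟩
    apply eE.symm.injective
    rw [map_mul, map_mul]
    exact hE.1.is_comm.comm _ _
  have hnc : ¬ IsCyclic E' := by
    intro hc
    have hc2 : IsCyclic E := isCyclic_of_surjective eE.symm eE.symm.surjective
    obtain ⟨g, hg⟩ := hc2.exists_generator
    have h1 : orderOf g = r ^ 2 := by rw [orderOf_eq_card_of_forall_mem_zpowers hg, hcE]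
    have h2 : orderOf g ∣ r := orderOf_dvd_of_pow_eq_one (Subtype.ext (hE.2 g g.2))
    rw [h1] at h2
    have h3 := Nat.le_of_dvd hr.pos h2
    have := hr.two_le
    nlinarith
  have hAq : IsPGroup q A := fun a => ⟨1, by rw [pow_one]; exact hA a⟩
  obtain ⟨n, hn⟩ := (IsPGroup.iff_card (p := q)).1 hAq
  have h1 := H586.GenAut.gen E' hnc (⊤ : Subgroup A) (fun a _ x _ => trivial) (by
    rw [hcE', Subgroup.card_top, hn]
    exact Nat.Coprime.pow _ _ ((Nat.coprime_primes hr hq).2 hrq))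
  have h2 : Subgroup.closure {x : A | x ∈ (⊤ : Subgroup A) ∧ ∃ a ∈ E', a ≠ 1 ∧ a x = x} ≤ ⊥ := by
    rw [Subgroup.closure_le]
    rintro x ⟨-, a, ha, ha1, hax⟩
    obtain ⟨y, hy, rfl⟩ := ha
    exact hf _ y.2 ha1 x hax
  obtain ⟨a, ha⟩ := exists_ne (1 : A)
  exact ha (h2 (h1 (Subgroup.mem_top a)))

/-- **The contradiction.** -/
theorem contra [Finite A] {q n : ℕ} (hq : q.Prime) (hA : ∀ a : A, a ^ q = 1) (hcA : Nat.card A = q ^ n)
    (hn : 0 < n) (hu : ∀ a : A, a ≠ 1 → ∃! Q : Sylow p X, (Q : Subgroup X) ≤ St ρ a) (h : Sit p r N M)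
    (hr : r.Prime) (hrq : r ≠ q) (hpq : p ≠ q)
    (hG : N.relIndex M = r → ∀ x ∈ M, x ∉ N → ∀ j : ℕ, 0 < j → j < r → ∃ g : X, g * x * g⁻¹ * (x ^ j)⁻¹ ∈ N) :
    False := by
  have : Fact r.Prime := ⟨hr⟩
  have : Fact q.Prime := ⟨hq⟩
  have hNn := h.normN
  have hMn := h.normM
  have hfinA : Finite (MulAut A) :=
    Finite.of_injective (fun g : MulAut A => (g : A → A)) DFunLike.coe_injective
  have hnt : Nontrivial A := by
    rw [← Finite.one_lt_card_iff_nontrivial, hcA]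
    exact Nat.one_lt_pow hn.ne' hq.one_lt
  obtain ⟨P⟩ : Nonempty (Sylow p X) := inferInstance
  -- numbers
  have hv := card_sylow h
  have hmod : p ∣ N.relIndex M - 1 := by
    have h1 := card_sylow_modEq_one p X
    rw [hv] at h1
    exact (Nat.modEq_iff_dvd' (Nat.pos_of_ne_zero (by
      rw [← hv]; exact Nat.card_pos.ne'))).1 h1.symm
  obtain ⟨R, L, hRn, hLn, hRr, hRM, hRN, hPL, hLP, -⟩ := h.exists_R hr
  have hrel : N.relIndex M = N.relIndex R := by rw [← hRN, Subgroup.relIndex_sup_right]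
  obtain ⟨m, hm⟩ : ∃ m, N.relIndex M = r ^ m := by
    rw [hrel]
    obtain ⟨k, hk⟩ := (IsPGroup.iff_card (p := r)).1 hRr
    have h1 : N.relIndex R ∣ r ^ k := by rw [← hk]; exact Subgroup.relIndex_dvd_card _ _
    obtain ⟨j, -, hj⟩ := (Nat.dvd_prime_pow hr).1 h1
    exact ⟨j, hj⟩
  have hm0 : 0 < m := by
    rcases Nat.eq_zero_or_pos m with rfl | h1
    · exfalso
      rw [pow_zero, Subgroup.relIndex_eq_one] at hm
      exact h.ne (le_antisymm h.le hm)
    · exact h1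
  have hpart := card_partition ρ hu P
  obtain ⟨c, hc⟩ : ∃ c, Nat.card (Fx ρ (P : Subgroup X)) = q ^ c := by
    have hFq : IsPGroup q (Fx ρ (P : Subgroup X)) := fun a => ⟨1, by
      rw [pow_one]; exact Subtype.ext (hA a)⟩
    exact (IsPGroup.iff_card (p := q)).1 hFq
  rw [hcA, hv, hc] at hpart
  by_cases hr2 : r = 2
  · rw [hm, hr2] at hpart hmod
    exact H273.S61.arith_two hp.out hq hpq (fun h1 => hrq (hr2.trans h1.symm)) hn hm0 hpart hmod
  -- `r` odd
  have h2 : ∃ P Q : Sylow p X, P ≠ Q := by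
    by_contra hcon
    push Not at hcon
    have h1 : Nat.card (Sylow p X) = 1 := by
      rw [Nat.card_eq_one_iff_unique]
      exact ⟨⟨hcon⟩, inferInstance⟩
    rw [hv, hm] at h1
    have := Nat.one_lt_pow hm0.ne' hr.one_lt
    omega
  have hNc : ∀ z ∈ N, ∀ Q : Sylow p X, ∀ s ∈ (Q : Subgroup X), Commute z s := fun z hz Q s hs =>
    h.comm Q z hz s hs
  have hF1 : ∀ x ∈ M, x ∉ N → ∀ a : A, ρ x a = a → a = 1 := fun x hx hxN a ha =>
    fix_out hu h hx hxN ha
  have hker : ∀ x ∈ M, ρ x = 1 → x ∈ N := by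
    intro x hx h1
    by_contra hxN
    obtain ⟨a, ha⟩ := exists_ne (1 : A)
    exact ha (hF1 x hx hxN a (by rw [h1]; rfl))
  -- `Y` is cyclic
  set Y : Subgroup (MulAut A) := R.map ρ with hY
  have hYc : IsCyclic Y := by
    refine cyclic hq hA hr hr2 hrq Y (hRr.map ρ) ?_
    rintro _ ⟨x, hx, rfl⟩ hx1 a ha
    by_cases hxN : x ∈ N
    · by_contra ha1
      exact hx1 (fix_of_comm hu h2 (hNc x hxN) ha1 ha)
    · exact hF1 x (hRM hx) hxN a ha
  obtain ⟨⟨y, hyY⟩, hyg⟩ := hYc.exists_generator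
  obtain ⟨x₀, hx₀, hxy⟩ := hyY
  have hgen : ∀ x ∈ R, ∃ k : ℤ, ρ x = ρ (x₀ ^ k) := by
    intro x hx
    obtain ⟨k, hk⟩ := Subgroup.mem_zpowers_iff.1 (hyg ⟨ρ x, ⟨x, hx, rfl⟩⟩)
    refine ⟨k, ?_⟩
    have h1 : y ^ k = ρ x := congrArg Subtype.val hk
    rw [map_zpow, hxy, h1]
  have hx₀N : x₀ ∉ N := by
    intro h0
    apply h.ne
    apply le_antisymm h.le
    rw [← hRN]
    refine sup_le (fun x hx => ?_) le_rfl
    obtain ⟨k, hk⟩ := hgen x hx
    have h1 : x * (x₀ ^ k)⁻¹ ∈ N := by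
      apply hker _ (mul_mem (hRM hx) (inv_mem (zpow_mem (hRM hx₀) k)))
      rw [map_mul, hk, map_inv, mul_inv_cancel]
    have h3 := mul_mem h1 (zpow_mem h0 k)
    rwa [inv_mul_cancel_right] at h3
  have hρ1 : ρ x₀ ≠ 1 := fun h1 => hx₀N (hker _ (hRM hx₀) h1)
  have hrp : r ≠ p := by
    rintro rfl
    apply h.cop
    have h1 : x₀ ≠ 1 := by rintro rfl; exact hx₀N (one_mem _)
    obtain ⟨k, hk⟩ := (IsPGroup.iff_orderOf.1 hRr) ⟨x₀, hx₀⟩
    rw [Subgroup.orderOf_mk] at hk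
    have hk0 : k ≠ 0 := by
      rintro rfl
      rw [pow_zero, orderOf_eq_one_iff] at hk
      exact h1 hk
    have h3 : orderOf x₀ ∣ Nat.card M := Subgroup.orderOf_dvd_natCard M (hRM hx₀)
    rw [hk] at h3
    exact (dvd_pow_self r hk0).trans h3
  -- `P` does not commute with `ρ x₀`
  have hP0 : ¬ ∀ s ∈ (P : Subgroup X), Commute (ρ s) (ρ x₀) := by
    intro hcom
    obtain ⟨a₀, ha₀⟩ := exists_ne (1 : A)
    obtain ⟨Q, hQ, -⟩ := hu a₀ ha₀
    obtain ⟨g, hg⟩ := MulAction.exists_smul_eq X Q P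
    have ha : ρ g a₀ ∈ Fx ρ (P : Subgroup X) := by
      rw [← hg, Fx_smul]
      exact ⟨a₀, hQ, rfl⟩
    have ha1 : ρ g a₀ ≠ 1 := fun h => ha₀ ((map_eq_one_iff _ (ρ g).injective).1 h)
    set a := ρ g a₀ with ha'
    have h1 : ρ x₀ a ∈ Fx ρ (P : Subgroup X) := by
      intro s hs
      rw [← MulAut.mul_apply, (hcom s hs).eq, MulAut.mul_apply, ha s hs]
    have h3 : ρ x₀ a ∈ Fx ρ ((x₀ • P : Sylow p X) : Subgroup X) := by
      rw [Fx_smul]
      exact ⟨a, ha, rfl⟩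
    have h4 : ρ x₀ a ≠ 1 := fun h => ha1 ((map_eq_one_iff _ (ρ x₀).injective).1 h)
    have h5 := (hu _ h4).unique h3 h1
    exact hx₀N (h.inf P x₀ (hRM hx₀) (Sylow.smul_eq_iff_mem_normalizer.1 h5))
  -- `N ⊓ R` acts trivially
  have hz0 : ∀ z ∈ N, z ∈ R → ρ z = 1 := by
    intro z hzN hzR
    by_contra hz1
    apply hP0
    obtain ⟨k, hk⟩ := (IsPGroup.iff_orderOf.1 (hRr.map ρ)) ⟨ρ x₀, Subgroup.mem_map_of_mem ρ hx₀⟩
    rw [Subgroup.orderOf_mk] at hk
    have hyr : ρ x₀ ^ r ≠ 1 := by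
      intro h1
      obtain ⟨i, hi⟩ := hgen z hzR
      have hri : ¬ (r : ℤ) ∣ i := by
        rintro ⟨t, rfl⟩
        apply hz1
        rw [hi, map_zpow, zpow_mul, zpow_natCast, h1, one_zpow]
      have hcop : IsCoprime (i : ℤ) (r : ℤ) := by
        rw [isCoprime_comm]
        exact (Nat.prime_iff_prime_int.1 hr).coprime_iff_not_dvd.2 hri
      obtain ⟨a, b, hab⟩ := hcop
      have h3 : ρ x₀ = ρ (z ^ a) := by
        calc ρ x₀ = ρ x₀ ^ (a * i + b * r) := by rw [hab, zpow_one]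
          _ = (ρ x₀ ^ i) ^ a := by
            rw [zpow_add, mul_comm b, zpow_mul (ρ x₀) (r : ℤ) b, zpow_natCast, h1, one_zpow, mul_one, mul_comm a,
              zpow_mul]
          _ = ρ (z ^ a) := by rw [← map_zpow, ← hi, ← map_zpow]
      have h4 : x₀ * (z ^ a)⁻¹ ∈ N := by
        apply hker _ (mul_mem (hRM hx₀) (inv_mem (zpow_mem (h.le hzN) a)))
        rw [map_mul, h3, map_inv, mul_inv_cancel]
      have h5 := mul_mem h4 (zpow_mem hzN a)
      rw [inv_mul_cancel_right] at h5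
      exact hx₀N h5
    have hk2 : 2 ≤ k := by
      by_contra hcon
      apply hyr
      have h1 : orderOf (ρ x₀) ∣ r := by
        rw [hk]
        exact (pow_dvd_pow r (show k ≤ 1 by omega)).trans (by rw [pow_one])
      exact orderOf_dvd_iff_pow_eq_one.1 h1
    have hxrN : x₀ ^ r ∈ N := h.pow x₀ (hRM hx₀)
    intro s hs
    obtain ⟨t, ht⟩ := hgen (s * x₀ * s⁻¹) (hRn.conj_mem x₀ hx₀ s)
    have h1 : ρ x₀ ^ ((t - 1) * r) = 1 := by
      have h3 : (s * x₀ * s⁻¹) ^ r = x₀ ^ r := by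
        rw [← MulAut.conj_apply, ← map_pow, MulAut.conj_apply, ← (h.comm P _ hxrN s hs).eq, mul_inv_cancel_right]
      have h4 : ρ x₀ ^ (t * r) = ρ x₀ ^ (r : ℤ) := by
        rw [zpow_mul, ← map_zpow, ← ht, zpow_natCast, zpow_natCast, ← map_pow, ← map_pow, h3]
      rw [sub_mul, one_mul, zpow_sub, h4, mul_inv_cancel]
    have h3 : (r : ℤ) ∣ t - 1 := by
      have h4 : ((r ^ k : ℕ) : ℤ) ∣ (t - 1) * r := by
        rw [← hk]
        exact orderOf_dvd_iff_zpow_eq_one.2 h1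
      obtain ⟨l, rfl⟩ := Nat.exists_eq_add_of_le hk2
      obtain ⟨w, hw⟩ := h4
      have hr0 : (r : ℤ) ≠ 0 := by exact_mod_cast hr.ne_zero
      refine ⟨r ^ l * w, ?_⟩
      apply mul_right_cancel₀ hr0
      rw [hw]
      push_cast
      ring
    obtain ⟨w, hw⟩ := h3
    set c' := ρ x₀ ^ (t - 1) with hc'
    have hcs : Commute (ρ s) c' := by
      have h4 : c' = ρ ((x₀ ^ r) ^ w) := by
        rw [hc', hw, zpow_mul, zpow_natCast, ← map_pow, ← map_zpow]
      rw [h4]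
      exact ((h.comm P _ (zpow_mem hxrN w) s hs).symm).map ρ
    have hcr : c' ^ r = 1 := by
      rw [hc', ← zpow_natCast, ← zpow_mul]
      exact h1
    have hsx : ρ s * ρ x₀ * (ρ s)⁻¹ = c' * ρ x₀ := by
      rw [← map_inv, ← map_mul, ← map_mul, ht, map_zpow, hc']
      nth_rewrite 3 [← zpow_one (ρ x₀)]
      rw [← zpow_add, sub_add_cancel]
    have hit : ∀ i : ℕ, ρ s ^ i * ρ x₀ * (ρ s ^ i)⁻¹ = c' ^ i * ρ x₀ := by
      intro i
      induction i with
      | zero => simp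
      | succ i ih =>
        have e1 : ρ s ^ (i + 1) * ρ x₀ * (ρ s ^ (i + 1))⁻¹ = ρ s * (ρ s ^ i * ρ x₀ * (ρ s ^ i)⁻¹) * (ρ s)⁻¹ := by
          rw [pow_succ']; group
        rw [e1, ih]
        have e2 : ρ s * (c' ^ i * ρ x₀) * (ρ s)⁻¹ = c' ^ i * (ρ s * ρ x₀ * (ρ s)⁻¹) := by
          rw [← mul_assoc (ρ s), (hcs.pow_right i).eq]; group
        rw [e2, hsx, pow_succ, mul_assoc]
    obtain ⟨j, hj⟩ := P.isPGroup' ⟨s, hs⟩
    have hj' : s ^ p ^ j = 1 := congrArg Subtype.val hj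
    have hcp : c' ^ p ^ j = 1 := by
      have h4 := hit (p ^ j)
      rw [← map_pow, hj', map_one, one_mul, inv_one, mul_one] at h4
      exact (mul_eq_right.1 h4.symm)
    have hc1 : c' = 1 := by
      rw [← orderOf_eq_one_iff]
      exact Nat.eq_one_of_dvd_coprimes (Nat.Coprime.pow_left _ ((Nat.coprime_primes hp.out hr).2 hrp.symm))
        (orderOf_dvd_of_pow_eq_one hcp) (orderOf_dvd_of_pow_eq_one hcr)
    rw [hc1, one_mul] at hsx
    exact mul_inv_eq_iff_eq_mul.1 hsx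
  have hyr : ρ x₀ ^ r = 1 := by
    rw [← map_pow]
    exact hz0 _ (h.pow x₀ (hRM hx₀)) (pow_mem hx₀ r)
  have hord : orderOf (ρ x₀) = r := orderOf_eq_prime hyr hρ1
  have hidx : N.relIndex M = r := by
    rw [hrel]
    have h1 : N.subgroupOf R = (ρ.comp R.subtype).ker := by
      ext x
      rw [Subgroup.mem_subgroupOf, MonoidHom.mem_ker]
      constructor
      · intro hx; exact hz0 x hx x.2
      · intro hx; exact hker x (hRM x.2) hx
    show (N.subgroupOf R).index = r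
    rw [h1, Subgroup.index_ker, MonoidHom.range_comp, Subgroup.range_subtype, ← hord, ← hxy.symm]
    have h3 := orderOf_eq_card_of_forall_mem_zpowers hyg
    rw [← Subgroup.orderOf_coe] at h3
    exact h3.symm
  -- the end
  have hrn : r - 1 ≤ n := by
    refine H273.S61.le_of_conj hq hr hrq.symm hA hcA hn.ne' (ρ x₀) hyr (hF1 x₀ (hRM hx₀) hx₀N) ?_
    intro j hj hjr
    obtain ⟨g, hg⟩ := hG hidx x₀ (hRM hx₀) hx₀N j hj hjr
    refine ⟨ρ g, ?_⟩
    have h1 : ρ (g * x₀ * g⁻¹ * (x₀ ^ j)⁻¹) = 1 :=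
      hz0 _ hg (mul_mem (hRn.conj_mem x₀ hx₀ g) (inv_mem (pow_mem hx₀ j)))
    rw [map_mul, map_inv, mul_inv_eq_one, map_mul, map_mul, map_inv, map_pow] at h1
    exact h1
  rw [hidx] at hpart hmod
  exact H273.S61.arith_odd hp.out hq hr hr2 hpq hn hrn hpart hmod

end

end Cfsg.Agent.H596.MaxE
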