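import Cfsg.Agent.H596.MaxD
import Cfsg.Agent.H596.MaxE
import Cfsg.Agent.Lib.SubnormalJoin
import Cfsg.Agent.Lib.PSolvable

/-!
# Normalisers of Sylow subgroups: the critical situation does not occur (helper596, for S4761)

* `comm_of_eq` : `r ≠ q`;
* `conj_pow` : the generators of a normal subgroup of prime order are conjugate;
* `step_B` : the critical situation does not occur.
-/

set_option autoImplicit false

open Cfsg

namespace Cfsg.Agent.H596.MaxF

open Cfsg.Agent.Characters.Core Cfsg.Agent.OddOrderCharacters.IndRes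
  Cfsg.Agent.OddOrderCharacters.PF9.CliffGen
open Cfsg.Agent.H670.PSing Cfsg.Agent.H596.MaxA Cfsg.Agent.H596.OneSing Cfsg.Agent.H596.OneCtx
open Cfsg.Agent.H596.MaxC Cfsg.Agent.H596.MaxB Cfsg.Agent.H596.Fld
open scoped Pointwise

universe u

variable {G : Type u} [Group G] [Finite G] {p : ℕ} [hp : Fact p.Prime]

/-- **The case `r = q`**. -/
theorem comm_of_eq {q : ℕ} (hq : q.Prime) {N₁ : Subgroup G} [hN₁ : N₁.Normal] (h : Ctx p q N₁)
    {N M : Subgroup (G ⧸ N₁)} (hs : Sit p q N M) (P : Sylow p G) :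
    ∀ s ∈ (P : Subgroup G), ∀ n ∈ N₁, s * n = n * s := by
  have hqF : Fact q.Prime := ⟨hq⟩
  obtain ⟨R, L, hRn, hLn, hRq, -, -, hPL, hLP, -⟩ := hs.exists_R hq
  set Rt : Subgroup G := R.comap (QuotientGroup.mk' N₁) with hRt
  have hRtn : Rt.Normal := hRn.comap _
  have hRtq : IsPGroup q Rt := by
    apply hRq.comap_of_ker_isPGroup
    rw [QuotientGroup.ker_mk']
    exact h.pgr
  have hle : N₁ ≤ Rt := by
    intro n hn
    show QuotientGroup.mk' N₁ n ∈ R
    rw [show QuotientGroup.mk' N₁ n = 1 from (QuotientGroup.eq_one_iff n).2 hn]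
    exact one_mem _
  have hnil : Group.IsNilpotent Rt := hRtq.isNilpotent
  have h1 : N₁.subgroupOf Rt ≠ ⊥ := by
    intro h0
    apply h.ne
    have h2 := congrArg (Subgroup.map Rt.subtype) h0
    rwa [Subgroup.subgroupOf_map_subtype, Subgroup.map_bot, inf_eq_left.2 hle] at h2
  have h2 := Lib.NormalAbelian.normal_inf_center_ne_bot (G := Rt) (N₁.subgroupOf Rt) h1
  have hZ : N₁ ≤ Subgroup.centralizer (Rt : Set G) := by
    have hcn : (N₁ ⊓ Subgroup.centralizer (Rt : Set G)).Normal := inferInstance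
    rcases h.min _ hcn inf_le_left with h3 | h3
    · exfalso
      apply h2
      rw [eq_bot_iff]
      rintro x ⟨hx1, hx2⟩
      rw [Subgroup.mem_bot]
      apply Subtype.ext
      have h4 : (x : G) ∈ N₁ ⊓ Subgroup.centralizer (Rt : Set G) := by
        refine ⟨Subgroup.mem_subgroupOf.1 hx1, ?_⟩
        show (x : G) ∈ Subgroup.centralizer (Rt : Set G)
        rw [Subgroup.mem_centralizer_iff]
        intro y hy
        exact congrArg Subtype.val (Subgroup.mem_center_iff.1 hx2 ⟨y, hy⟩)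
      rw [h3, Subgroup.mem_bot] at h4
      exact h4
    · rw [← h3]; exact inf_le_right
  have hR : ∀ lam : N₁ →* ℂˣ, R ≤ St (act N₁ h.comm) lam := by
    intro lam x hx
    obtain ⟨g, rfl⟩ := QuotientGroup.mk'_surjective N₁ x
    show act N₁ h.comm (QuotientGroup.mk' N₁ g) lam = lam
    ext n
    rw [act_mk]
    have h4 : (MulAut.conjNormal g : MulAut N₁).symm n = n := by
      apply Subtype.ext
      rw [MulAut.conjNormal_symm_apply]
      have h5 := Subgroup.mem_centralizer_iff.1 (hZ n.2) g hx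
      rw [mul_assoc, ← h5]
      group
    rw [h4]
  have hL : ∀ lam : N₁ →* ℂˣ, L ≤ St (act N₁ h.comm) lam := by
    intro lam
    by_cases hl : lam = 1
    · intro x _
      show act N₁ h.comm x lam = lam
      rw [hl, map_one]
    · obtain ⟨Q, hQ⟩ := exists_sylow_le N₁ h.comm h.prm hl
      exact (hLP Q).trans (sup_le (hR lam) hQ)
  intro s hs
  apply OneV.comm_of_act h.comm
  intro lam
  apply hL lam
  apply hPL (P.mapSurjective (QuotientGroup.mk'_surjective N₁))
  rw [Sylow.coe_mapSurjective]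
  exact Subgroup.mem_map_of_mem _ hs

omit hp in
/-- `p` divides the index of the inertia group, so it divides the degrees above. -/
theorem dvd_of_index (N : Subgroup G) [hN : N.Normal] [Fintype G] [Fintype N] {θ : N → ℂ}
    (hθ : IsIrrCharacter N θ) (hd : p ∣ (inertia N θ).index) {χ : G → ℂ} (hχ : IsIrrCharacter G χ)
    (h : classInner (res N χ) θ ≠ 0) : p ∣ charDegree χ := by
  have : Fintype (inertia N θ) := Fintype.ofFinite _
  obtain ⟨ψ, hψ, -, hψχ⟩ := exists_ind hθ (T := inertia N θ) (fun g => Iff.rfl)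
    (le_inertia (isIrr_isClassFunction hθ)) hχ h
  rw [hψχ, charDegree_ind _ hψ]
  exact Dvd.dvd.mul_right hd _

/-- **The elements of a normal subgroup of prime order are conjugate.** -/
theorem conj_pow {r : ℕ} (hr : r.Prime) (V : Subgroup G) [hVn : V.Normal] (hV : Nat.card V = r)
    (hinf : ∀ Q : Sylow p G, ∀ v ∈ V, v ∈ Subgroup.normalizer ((Q : Subgroup G) : Set G) → v = 1)
    (hn : nSing p G ≤ 1) {y : G} (hy : y ∈ V) (hy1 : y ≠ 1) {j : ℕ} (hj : 0 < j) (hjr : j < r) :
    ∃ g : G, g * y * g⁻¹ = y ^ j := by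
  have hrF : Fact r.Prime := ⟨hr⟩
  have : Fintype G := Fintype.ofFinite G
  have : Fintype V := Fintype.ofFinite V
  have hcyc : IsCyclic V := isCyclic_of_prime_card hV
  have hc : ∀ a ∈ V, ∀ b ∈ V, a * b = b * a := by
    intro a ha b hb
    obtain ⟨g, hg⟩ := hcyc.exists_generator
    obtain ⟨i, hi⟩ := Subgroup.mem_zpowers_iff.1 (hg ⟨a, ha⟩)
    obtain ⟨k, hk⟩ := Subgroup.mem_zpowers_iff.1 (hg ⟨b, hb⟩)
    have h1 : (⟨a, ha⟩ : V) * ⟨b, hb⟩ = ⟨b, hb⟩ * ⟨a, ha⟩ := by
      rw [← hi, ← hk, ← zpow_add, ← zpow_add, add_comm]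
    exact congrArg Subtype.val h1
  -- the linear characters
  obtain ⟨lam, hlam⟩ := OneV.separates hc (n := ⟨y, hy⟩) (fun h => hy1 (congrArg Subtype.val h))
  have hinj : Function.Injective lam := by
    rw [← MonoidHom.ker_eq_bot_iff]
    have h1 : Nat.card lam.ker ∣ r := by rw [← hV]; exact Subgroup.card_subgroup_dvd_card _
    rcases (Nat.dvd_prime hr).1 h1 with h2 | h2
    · exact Subgroup.card_eq_one.1 h2
    · exfalso
      have h3 : lam.ker = ⊤ := Subgroup.eq_top_of_card_eq _ (h2.trans hV.symm)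
      apply hlam
      have h4 : (⟨y, hy⟩ : V) ∈ lam.ker := by rw [h3]; trivial
      exact h4
  have hord : orderOf (⟨y, hy⟩ : V) = r := by
    have h1 : orderOf (⟨y, hy⟩ : V) ∣ r := by rw [← hV]; exact orderOf_dvd_natCard _
    rcases (Nat.dvd_prime hr).1 h1 with h2 | h2
    · exact absurd (congrArg Subtype.val (orderOf_eq_one_iff.1 h2)) hy1
    · exact h2
  have hcopj : j.Coprime r := (Nat.Coprime.symm ((Nat.Prime.coprime_iff_not_dvd hr).2
    (Nat.not_dvd_of_pos_of_lt hj hjr)))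
  have hpowinj : Function.Injective (fun v : V => v ^ j) := by
    have h1 := (powCoprime (G := V) (n := j) (by rw [hV]; exact hcopj.symm)).injective
    exact h1
  -- the inertia groups
  have hd : ∀ mu : V →* ℂˣ, Function.Injective mu → p ∣ (inertia V (fn mu)).index := by
    intro mu hmu
    by_contra hnd
    obtain ⟨Q, hQ⟩ := exists_sylow_le_of_index _ hnd
    apply hy1
    apply hinf Q y hy
    rw [Subgroup.mem_normalizer_iff]
    have key : ∀ s ∈ (Q : Subgroup G), y * s * y⁻¹ = s := by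
      intro s hs
      have h1 := (mem_inertia'.1 (hQ hs)) ⟨y, hy⟩
      have h2 : mu ⟨s * y * s⁻¹, hVn.conj_mem y hy s⟩ = mu ⟨y, hy⟩ := Units.ext h1
      have h3 : s * y * s⁻¹ = y := congrArg Subtype.val (hmu h2)
      have h4 : s * y = y * s := mul_inv_eq_iff_eq_mul.1 h3
      rw [← h4, mul_inv_cancel_right]
    intro s
    constructor
    · intro hs
      rw [key s hs]; exact hs
    · intro hs
      have h1 := key _ hs
      have h2 : y * s * y⁻¹ = s := by
        have h3 : y * (y * s * y⁻¹) * y⁻¹ = y * s * y⁻¹ := h1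
        have h4 : y * s * y⁻¹ = s := by
          calc y * s * y⁻¹ = y⁻¹ * (y * (y * s * y⁻¹) * y⁻¹) * y := by group
            _ = y⁻¹ * (y * s * y⁻¹) * y := by rw [h3]
            _ = s := by group
        exact h4
      rwa [h2] at hs
  have hθ : IsIrrCharacter V (fn lam) := Characters.Linear.isIrrCharacter_hom lam
  have hφ : IsIrrCharacter V (fn (lam ^ j)) := Characters.Linear.isIrrCharacter_hom _
  have hinj2 : Function.Injective (lam ^ j : V →* ℂˣ) := by
    intro a b hab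
    have h1 : lam (a ^ j) = lam (b ^ j) := by rw [map_pow, map_pow]; exact hab
    exact hpowinj (hinj h1)
  obtain ⟨χ, hχ⟩ := Blocks.Over.exists_over V ⟨fn lam, hθ⟩
  obtain ⟨ψ, hψ⟩ := Blocks.Over.exists_over V ⟨fn (lam ^ j), hφ⟩
  have hχp := dvd_of_index V hθ (hd lam hinj) χ.2 hχ
  have hψp := dvd_of_index V hφ (hd _ hinj2) ψ.2 hψ
  have heq : (χ : G → ℂ) = ψ := by
    by_contra hne
    have := OneNonab.two_le_nSing χ.2 ψ.2 hχp hψp hne
    omega
  obtain ⟨g, hg⟩ := OneNonab.conj_of_over V hφ hθ ψ.2 hψ (by rw [← heq]; exact hχ)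
  refine ⟨g, ?_⟩
  have h1 := congrFun hg ⟨y, hy⟩
  have h2 : lam ⟨g * y * g⁻¹, hVn.conj_mem y hy g⟩ = lam (⟨y, hy⟩ ^ j) := by
    rw [map_pow]
    exact Units.ext h1
  exact congrArg Subtype.val (hinj h2)

/-- `Q K` is normal for one Sylow subgroup `Q` if and only if it is for all. -/
theorem sup_normal {X : Type*} [Group X] [Finite X] (P Q : Sylow p X) (K : Subgroup X) [hK : K.Normal]
    (h : ((P : Subgroup X) ⊔ K).Normal) : ((Q : Subgroup X) ⊔ K).Normal := by
  obtain ⟨g, rfl⟩ := MulAction.exists_smul_eq X P Q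
  have h1 : ((g • P : Sylow p X) : Subgroup X) ⊔ K = (P : Subgroup X) ⊔ K := by
    apply le_antisymm
    · refine sup_le ?_ le_sup_right
      rw [Sylow.coe_subgroup_smul]
      rintro _ ⟨x, hx, rfl⟩
      exact h.conj_mem x (Subgroup.mem_sup_left hx) g
    · refine sup_le ?_ le_sup_right
      intro x hx
      have h2 : g⁻¹ * x * g ∈ (P : Subgroup X) ⊔ K := by
        have := h.conj_mem x (Subgroup.mem_sup_left hx) g⁻¹
        rwa [inv_inv] at this
      obtain ⟨a, ha, b, hb, hab⟩ := Subgroup.mem_sup_of_normal_right.1 h2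
      have h3 : x = (g * a * g⁻¹) * (g * b * g⁻¹) := by
        have h4 : x = g * (g⁻¹ * x * g) * g⁻¹ := by group
        rw [h4, ← hab]; group
      rw [h3]
      refine mul_mem (Subgroup.mem_sup_left ?_) (Subgroup.mem_sup_right (hK.conj_mem b hb g))
      rw [Sylow.coe_subgroup_smul]
      exact ⟨a, ha, rfl⟩
  rw [h1]; exact h

/-- **The critical situation does not occur.** -/
theorem step_B (hT7 : ConjMoved.{u}) (hMoved : FactMoved.{u}) (hIM : AllIM.{u} p) {q : ℕ} (hq : q.Prime)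
    (hqp : q ≠ p) {N₁ : Subgroup G} [hN₁ : N₁.Normal] (h : Ctx p q N₁)
    (hO : ∀ R : Subgroup G, R.Normal → IsPGroup p R → R = ⊥) (hn : nSing p G ≤ 1) (hG : IsPSolvable p G)
    (P : Sylow p G) (hnn : ¬ ((P : Subgroup G) ⊔ N₁).Normal)
    (hco : ∀ Q : Sylow p (G ⧸ N₁), IsCoatom (Subgroup.normalizer ((Q : Subgroup (G ⧸ N₁)) : Set (G ⧸ N₁))))
    (hcomm : ¬ ∀ s ∈ (P : Subgroup G), ∀ n ∈ N₁, s * n = n * s) : False := by
  have hqF : Fact q.Prime := ⟨hq⟩
  set Pb : Sylow p (G ⧸ N₁) := P.mapSurjective (QuotientGroup.mk'_surjective N₁) with hPb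
  have hPbn : ¬ (Pb : Subgroup (G ⧸ N₁)).Normal := by
    rw [hPb, Sylow.coe_mapSurjective, normal_iff_sup]
    exact hnn
  have hOX := core_quot (G := G) hq hqp h hO
  have hnX : nSing p (G ⧸ N₁) ≤ 1 := (nSing_quotient_le N₁).trans hn
  have hGX : IsPSolvable p (G ⧸ N₁) := PLocal.PSolvable.isPSolvable_quotient hG N₁
  -- the choice of `N`
  obtain ⟨N, hNmax⟩ := (Set.toFinite {K : Subgroup (G ⧸ N₁) | K.Normal ∧
    ¬ ((Pb : Subgroup (G ⧸ N₁)) ⊔ K).Normal}).exists_maximal ⟨⊥, inferInstance, by rwa [sup_bot_eq]⟩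
  obtain ⟨hNn, hNb⟩ := hNmax.prop
  have hbig : ∀ K : Subgroup (G ⧸ N₁), K.Normal → N < K → ∀ Q : Sylow p (G ⧸ N₁),
      ((Q : Subgroup (G ⧸ N₁)) ⊔ K).Normal := by
    intro K hK hNK Q
    apply sup_normal Pb
    by_contra hcon
    exact hNK.not_ge (hNmax.le_of_ge ⟨hK, hcon⟩ hNK.le)
  have hNb' : ∀ Q : Sylow p (G ⧸ N₁), ¬ ((Q : Subgroup (G ⧸ N₁)) ⊔ N).Normal := fun Q hQ =>
    hNb (sup_normal Q Pb N hQ)
  have hNN : ∀ Q : Sylow p (G ⧸ N₁),
      N ≤ Subgroup.normalizer ((Q : Subgroup (G ⧸ N₁)) : Set (G ⧸ N₁)) := by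
    intro Q
    have h1 : Subgroup.normalizer ((Q : Subgroup (G ⧸ N₁)) : Set (G ⧸ N₁)) ≤
        Subgroup.normalizer (((Q : Subgroup (G ⧸ N₁)) ⊔ N : Subgroup (G ⧸ N₁)) : Set (G ⧸ N₁)) := by
      intro g hg
      have key : ∀ k ∈ Subgroup.normalizer ((Q : Subgroup (G ⧸ N₁)) : Set (G ⧸ N₁)),
          ∀ x ∈ (Q : Subgroup (G ⧸ N₁)) ⊔ N, k * x * k⁻¹ ∈ (Q : Subgroup (G ⧸ N₁)) ⊔ N := by
        intro k hk x hx
        obtain ⟨y, hy, z, hz, rfl⟩ := Subgroup.mem_sup_of_normal_right.1 hx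
        have h1 : k * (y * z) * k⁻¹ = (k * y * k⁻¹) * (k * z * k⁻¹) := by group
        rw [h1]
        exact mul_mem (Subgroup.mem_sup_left ((Subgroup.mem_normalizer_iff.1 hk y).1 hy))
          (Subgroup.mem_sup_right (hNn.conj_mem z hz k))
      rw [Subgroup.mem_normalizer_iff]
      intro x
      constructor
      · exact key g hg x
      · intro hx
        have := key g⁻¹ (inv_mem hg) _ hx
        have h1 : g⁻¹ * (g * x * g⁻¹) * g⁻¹⁻¹ = x := by group
        rwa [h1] at this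
    rcases (hco Q).le_iff.1 h1 with h2 | h2
    · exfalso
      exact hNb' Q (Subgroup.normalizer_eq_top_iff.1 h2)
    · rw [← h2]
      exact le_sup_right.trans Subgroup.le_normalizer
  have hcN : ∀ Q : Sylow p (G ⧸ N₁), (∀ x ∈ N, ∀ s ∈ (Q : Subgroup (G ⧸ N₁)), Commute x s) ∧
      ¬ p ∣ Nat.card N := fun Q => comm_of_core Q N (hNN Q) hOX
  -- the quotient
  have hntY : Nontrivial ((G ⧸ N₁) ⧸ N) := by
    rw [QuotientGroup.nontrivial_iff]
    intro h1
    apply hNb
    rw [h1, sup_top_eq]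
    infer_instance
  obtain ⟨Mb, hMbn, hMb, hMbmin⟩ := Lib.SubnormalJoin.exists_minimal_normal ((G ⧸ N₁) ⧸ N)
  set f := QuotientGroup.mk' N with hf
  have hfs : Function.Surjective f := QuotientGroup.mk'_surjective N
  have hfk : f.ker = N := QuotientGroup.ker_mk' N
  set M : Subgroup (G ⧸ N₁) := Mb.comap f with hM
  have hMn : M.Normal := hMbn.comap _
  have hNM : N ≤ M := by
    rw [← hfk]
    exact MonoidHom.ker_le_comap _ _
  have hMmap : M.map f = Mb := Subgroup.map_comap_eq_self_of_surjective hfs Mb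
  have hne : N ≠ M := by
    intro h1
    apply hMb
    rw [← hMmap, ← h1, Subgroup.map_eq_bot_iff, hfk]
  have hlt : N < M := lt_of_le_of_ne hNM hne
  have hnY : nSing p ((G ⧸ N₁) ⧸ N) ≤ 1 := (nSing_quotient_le N).trans hnX
  have hP2 : ∀ Q : Sylow p (G ⧸ N₁), ¬ ((Q.mapSurjective hfs : Sylow p ((G ⧸ N₁) ⧸ N)) :
      Subgroup ((G ⧸ N₁) ⧸ N)).Normal := by
    intro Q hQ
    rw [Sylow.coe_mapSurjective] at hQ
    exact hNb' Q ((normal_iff_sup _ _).1 hQ)
  have hP2M : ∀ Q : Sylow p (G ⧸ N₁), (((Q.mapSurjective hfs : Sylow p ((G ⧸ N₁) ⧸ N)) :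
      Subgroup ((G ⧸ N₁) ⧸ N)) ⊔ Mb).Normal := by
    intro Q
    rw [Sylow.coe_mapSurjective, ← hMmap, ← Subgroup.map_sup]
    exact (hbig M hMn hlt Q).map _ hfs
  -- `Mb` is a `p'`-group
  have hMbp : ¬ p ∣ Nat.card Mb := by
    obtain ⟨L, hLn, hL1, hL2, hL3⟩ := Lib.PSolvable.sep_of_pSolvable p
      (PLocal.PSolvable.isPSolvable_quotient hGX N) ⊥ Mb inferInstance hMbn (bot_lt_iff_ne_bot.2 hMb)
    have hLM : L = Mb := (hMbmin L hLn hL2).resolve_left hL1.ne'
    subst hLM
    rw [Subgroup.relIndex_bot_left] at hL3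
    rcases hL3 with ⟨m, hm⟩ | hL3
    · exfalso
      have h1 : IsPGroup p L := IsPGroup.of_card hm
      have h2 := h1.le_sylow_of_normal (Pb.mapSurjective hfs)
      have h3 := hP2M Pb
      rw [sup_eq_left.2 h2] at h3
      exact hP2 Pb h3
    · intro hd
      exact hp.out.one_lt.ne' (Nat.eq_one_of_dvd_coprimes hL3.symm dvd_rfl hd)
  by_cases hab : ∀ x ∈ Mb, ∀ y ∈ Mb, Commute x y
  swap
  · exact nonab_false hT7 hMoved Mb hMbmin hab hMbp (Pb.mapSurjective hfs) (hP2M Pb) (hP2 Pb) hnY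
  obtain ⟨r, hr, hMbr, hMbpow⟩ := Lib.MinNormalNonabelian.abelian_structure Mb hMb hMbmin hab
  have hrF : Fact r.Prime := ⟨hr⟩
  have hinfY : ∀ Q : Sylow p (G ⧸ N₁), Mb ⊓ Subgroup.normalizer (((Q.mapSurjective hfs :
      Sylow p ((G ⧸ N₁) ⧸ N)) : Subgroup ((G ⧸ N₁) ⧸ N)) : Set ((G ⧸ N₁) ⧸ N)) = ⊥ := fun Q =>
    (abelian_case Mb hMbmin hab (Q.mapSurjective hfs) (hP2M Q) (hP2 Q)).1
  have hs : Sit p r N M :=
    { normN := hNn
      normM := hMn
      le := hNM
      cop := by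
        intro hd
        have h1 := Subgroup.relIndex_mul_relIndex ⊥ N M bot_le hNM
        rw [Subgroup.relIndex_bot_left, Subgroup.relIndex_bot_left] at h1
        have h2 : N.relIndex M = Nat.card Mb := by
          have h3 := Subgroup.relIndex_map_map (H := N) (K := M) f
          rw [hMmap, hfk, sup_idem, sup_eq_left.2 hNM] at h3
          have h4 : N.map f = ⊥ := by rw [Subgroup.map_eq_bot_iff, hfk]
          rw [h4, Subgroup.relIndex_bot_left] at h3
          exact h3.symm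
        rw [h2] at h1
        rw [← h1] at hd
        rcases (hp.out.dvd_mul).1 hd with h3 | h3
        · exact (hcN Pb).2 h3
        · exact hMbp h3
      comm := fun Q => (hcN Q).1
      sup := fun Q => hbig M hMn hlt Q
      inf := by
        intro Q x hx hxn
        have h1 : f x ∈ Mb ⊓ Subgroup.normalizer (((Q.mapSurjective hfs :
            Sylow p ((G ⧸ N₁) ⧸ N)) : Subgroup ((G ⧸ N₁) ⧸ N)) : Set ((G ⧸ N₁) ⧸ N)) := by
          refine ⟨hx, ?_⟩
          rw [Sylow.coe_mapSurjective]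
          exact Subgroup.le_normalizer_map f ⟨x, hxn, rfl⟩
        rw [hinfY Q, Subgroup.mem_bot] at h1
        rw [← hfk]
        exact h1
      ne := hne
      min := by
        intro K hK hNK hKM
        have h1 : K.map f ≤ Mb := by rw [← hMmap]; exact Subgroup.map_mono hKM
        have h2 : (K.map f).comap f = K := by
          rw [Subgroup.comap_map_eq, hfk, sup_eq_left.2 hNK]
        rcases hMbmin (K.map f) (hK.map _ hfs) h1 with h3 | h3
        · left
          apply le_antisymm _ hNK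
          rw [Subgroup.map_eq_bot_iff, hfk] at h3
          exact h3
        · right
          rw [← h2, h3]
      ab := by
        intro a ha b hb
        rw [← hfk, MonoidHom.mem_ker, map_mul, map_mul, map_mul, map_inv, map_inv, mul_inv_eq_one]
        have h1 := hab (f a) ha (f b) hb
        rw [h1.eq, mul_inv_cancel_right]
      pow := by
        intro a ha
        rw [← hfk, MonoidHom.mem_ker, map_pow]
        exact hMbpow _ ha }
  have hrq : r ≠ q := by
    rintro rfl
    exact hcomm (comm_of_eq hq h hs P)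
  -- uniqueness
  obtain ⟨R, L, -, hLn, -, -, -, hPL, -, hLq⟩ := hs.exists_R hr
  have hLq' : ¬ q ∣ Nat.card L := by
    intro hd
    rcases hLq q hq hd with h1 | h1
    · exact hqp h1
    · exact hrq h1.symm
  have := finite_hom h.comm
  obtain ⟨m, hm, hcard⟩ := h.card
  refine MaxE.contra (ρ := act N₁ h.comm) hq ?_ ((card_hom h.comm).trans hcard) hm
    (fun a ha => MaxD.unique hq h hIM L hLq' hPL a ha) hs hr hrq hqp.symm ?_
  · intro a
    ext n
    have h1 : n ^ q = 1 := Subtype.ext (h.pow n n.2)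
    show ((a n ^ q : ℂˣ) : ℂ) = _
    rw [← map_pow, h1, map_one]
    rfl
  · intro hidx x hx hxN j hj hjr
    have hcV : Nat.card Mb = r := by
      have h3 := Subgroup.relIndex_map_map (H := N) (K := M) f
      rw [hMmap, hfk, sup_idem, sup_eq_left.2 hNM] at h3
      have h4 : N.map f = ⊥ := by rw [Subgroup.map_eq_bot_iff, hfk]
      rw [h4, Subgroup.relIndex_bot_left] at h3
      rw [h3, hidx]
    obtain ⟨g, hg⟩ := conj_pow hr Mb hcV (by
      intro Q v hv hvn
      obtain ⟨Q', rfl⟩ := Sylow.mapSurjective_surjective hfs p Q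
      have h1 : v ∈ Mb ⊓ Subgroup.normalizer (((Q'.mapSurjective hfs :
            Sylow p ((G ⧸ N₁) ⧸ N)) : Subgroup ((G ⧸ N₁) ⧸ N)) : Set ((G ⧸ N₁) ⧸ N)) := ⟨hv, hvn⟩
      rw [hinfY Q', Subgroup.mem_bot] at h1
      exact h1) hnY (y := f x) hx (by
        intro h1
        apply hxN
        rw [← hfk]
        exact h1) hj hjr
    obtain ⟨g', rfl⟩ := hfs g
    refine ⟨g', ?_⟩
    rw [← hfk, MonoidHom.mem_ker, map_mul, map_mul, map_mul, map_inv, map_inv, map_pow, hg, mul_inv_cancel]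

end Cfsg.Agent.H596.MaxF
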