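import Cfsg.Agent.H596.OneSLfive
import Cfsg.Agent.TwoGenCore.IsoMEleven
import Cfsg.Agent.KFacts.MulSpor.NoDbl
import Cfsg.Agent.SporadicA.M11Facts2
import Cfsg.Agent.FooteOdd.SporMEleven

/-!
# The quotient `M11` (helper596, for S4764)

`N` is an abelian minimal normal subgroup of `G`, `G ⧸ N = M11`, and the irreducible characters of `G` not
trivial on `N` have degree prime to 3: impossible (`Ctx.m11_false`).
-/

set_option autoImplicit false

open Cfsg

namespace Cfsg.Agent.H596.OneM11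

open Cfsg.Agent.H596.OneSing Cfsg.Agent.H596.OnePart Cfsg.Agent.H596.OneL2 Cfsg.Agent.H670.PSing
  Cfsg.Agent.H596.OneCtx Cfsg.Agent.H596.OneKlein Cfsg.Agent.H596.OneV

universe u

section sylow

variable {X : Type u} [Group X] [Finite X]

theorem card_sylow (hX : IsM11 X) : Nat.card (Sylow 3 X) = 55 := by
  have : Fact (Nat.Prime 3) := ⟨Nat.prime_three⟩
  obtain ⟨P⟩ : Nonempty (Sylow 3 X) := inferInstance
  have h1 := Subgroup.card_mul_index (Subgroup.normalizer ((P : Subgroup X) : Set X))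
  rw [SporadicA.M11Norm3.card_normalizer_three hX P, hX.2] at h1
  have h2 : (Subgroup.normalizer ((P : Subgroup X) : Set X)).index = 55 := by omega
  rw [P.card_eq_index_normalizer]
  exact h2

end sylow

section action

variable {X : Type u} [Group X] [Finite X] {A : Type*} [CommGroup A] [Finite A] (ρ : X →* MulAut A)

/-- The fixed points of an element. -/
def Fe (x : X) : Subgroup A := Fx ρ (Subgroup.zpowers x)

omit [Finite X] [Finite A] in
theorem mem_Fe {x : X} {a : A} : a ∈ Fe ρ x ↔ ρ x a = a := by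
  constructor
  · intro h
    exact h x (Subgroup.mem_zpowers x)
  · intro h
    have h1 : Subgroup.zpowers x ≤ St ρ a := Subgroup.zpowers_le.2 h
    exact h1

omit [Finite X] [Finite A] in
theorem Fe_conj (g x : X) : Fe ρ (g * x * g⁻¹) = (Fe ρ x).map (ρ g).toMonoidHom := by
  ext a
  rw [mem_Fe]
  constructor
  · intro h
    refine ⟨ρ g⁻¹ a, ?_, ?_⟩
    · show ρ g⁻¹ a ∈ Fe ρ x
      rw [mem_Fe]
      calc ρ x (ρ g⁻¹ a) = ρ g⁻¹ (ρ (g * x * g⁻¹) a) := by
            rw [← MulAut.mul_apply, ← MulAut.mul_apply, ← map_mul, ← map_mul]; congr 2; group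
        _ = ρ g⁻¹ a := by rw [h]
    · show ρ g (ρ g⁻¹ a) = a
      rw [← MulAut.mul_apply, ← map_mul, mul_inv_cancel, map_one]; rfl
  · rintro ⟨b, hb, rfl⟩
    have hb' : ρ x b = b := (mem_Fe ρ).1 hb
    show ρ (g * x * g⁻¹) (ρ g b) = ρ g b
    rw [← MulAut.mul_apply, ← map_mul, inv_mul_cancel_right, map_mul, MulAut.mul_apply, hb']

omit [Finite X] [Finite A] in
theorem Fx_conj (g : X) (P : Subgroup X) (hg : g ∈ Subgroup.normalizer (P : Set X)) :
    (Fx ρ P).map (ρ g).toMonoidHom = Fx ρ P := by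
  have key : ∀ g ∈ Subgroup.normalizer (P : Set X), ∀ a ∈ Fx ρ P, ρ g a ∈ Fx ρ P := by
    intro g hg a ha x hx
    have h1 : g⁻¹ * x * g ∈ P := by
      have h2 := (Subgroup.mem_normalizer_iff.1 (inv_mem hg) x).1 hx
      rwa [inv_inv] at h2
    have h2 := ha _ h1
    calc ρ x (ρ g a) = ρ g (ρ (g⁻¹ * x * g) a) := by
          rw [← MulAut.mul_apply, ← MulAut.mul_apply, ← map_mul, ← map_mul]; congr 2; group
      _ = ρ g a := by rw [h2]
  apply le_antisymm
  · rintro _ ⟨a, ha, rfl⟩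
    exact key g hg a ha
  · intro a ha
    refine ⟨ρ g⁻¹ a, key _ (inv_mem hg) a ha, ?_⟩
    show ρ g (ρ g⁻¹ a) = a
    rw [← MulAut.mul_apply, ← map_mul, mul_inv_cancel, map_one]; rfl

omit [Finite X] [Finite A] in
/-- If `ρ y b = b * d` with `d` fixed by `y`, `y ^ 3 = 1` and `A` of exponent two, then `ρ y b = b`. -/
theorem fixed_of_mul (h2 : ∀ a : A, a * a = 1) {y : X} (hy : y * y * y = 1) {b d : A}
    (hb : ρ y b = b * d) (hd : ρ y d = d) : ρ y b = b := by
  have h3 : ρ (y * y) b = b := by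
    rw [map_mul, MulAut.mul_apply, hb, map_mul, hb, hd, mul_assoc, h2, mul_one]
  have h4 : ρ (y * y * y) b = b := by rw [hy, map_one]; rfl
  rw [mul_assoc, map_mul, MulAut.mul_apply, h3] at h4
  exact h4

/-- The data: an elementary abelian group of order nine. -/
structure E9 (P : Subgroup X) (x y : X) : Prop where
  hx : x ∈ P
  hy : y ∈ P
  comm : x * y = y * x
  x3 : x * x * x = 1
  y3 : y * y * y = 1
  gen : ∀ z ∈ P, z ∈ Subgroup.closure {x, y}

variable {ρ}

omit [Finite X] [Finite A] in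
theorem E9.mem_Fx {P : Subgroup X} {x y : X} (h : E9 P x y) {a : A} (h1 : ρ x a = a) (h2 : ρ y a = a) :
    a ∈ Fx ρ P := by
  intro z hz
  have h3 : Subgroup.closure {x, y} ≤ St ρ a := by
    rw [Subgroup.closure_le]
    rintro w (rfl | rfl)
    · exact h1
    · exact h2
  exact h3 (h.gen z hz)

omit [Finite X] [Finite A] in
theorem Fx_le_Fe {P : Subgroup X} {x : X} (hx : x ∈ P) : Fx ρ P ≤ Fe ρ x := by
  intro a ha
  rw [mem_Fe]
  exact ha x hx

omit [Finite X] [Finite A] in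
theorem E9.inf {P : Subgroup X} {x y : X} (h : E9 P x y) : Fe ρ x ⊓ Fe ρ y = Fx ρ P := by
  apply le_antisymm
  · rintro a ⟨h1, h2⟩
    exact h.mem_Fx ((mem_Fe ρ).1 h1) ((mem_Fe ρ).1 h2)
  · exact le_inf (Fx_le_Fe h.hx) (Fx_le_Fe h.hy)

omit [Finite X] [Finite A] in
theorem E9.inf₃ {P : Subgroup X} {x y : X} (h : E9 P x y) (h2 : ∀ a : A, a * a = 1) :
    (Fe ρ x ⊔ Fe ρ y) ⊓ Fe ρ (x * y) = Fx ρ P := by
  apply le_antisymm
  · rintro a ⟨h1, h3⟩
    obtain ⟨b, hb, c, hc, rfl⟩ := Subgroup.mem_sup.1 h1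
    have hb : ρ x b = b := (mem_Fe ρ).1 hb
    have hc : ρ y c = c := (mem_Fe ρ).1 hc
    have h3 : ρ (x * y) (b * c) = b * c := (mem_Fe ρ).1 h3
    have e1 : ρ (x * y) b = ρ y b := by rw [h.comm, map_mul, MulAut.mul_apply, hb]
    have e2 : ρ (x * y) c = ρ x c := by rw [map_mul, MulAut.mul_apply, hc]
    rw [map_mul, e1, e2] at h3
    -- the common element
    obtain ⟨d, hd⟩ : ∃ d, d = b⁻¹ * ρ y b := ⟨_, rfl⟩
    have hbd : ρ y b = b * d := by rw [hd, mul_inv_cancel_left]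
    have hcd : ρ x c = c * d⁻¹ := by
      rw [hbd] at h3
      have h4 : b * d * ρ x c = b * c := h3
      calc ρ x c = d⁻¹ * (b⁻¹ * (b * d * ρ x c)) := by group
        _ = d⁻¹ * (b⁻¹ * (b * c)) := by rw [h4]
        _ = c * d⁻¹ := by rw [inv_mul_cancel_left, mul_comm]
    have hdx : ρ x d = d := by
      rw [hd, map_mul, map_inv, hb, ← MulAut.mul_apply, ← map_mul, h.comm, map_mul, MulAut.mul_apply, hb]
    have hdy : ρ y d = d := by
      have h5 : d⁻¹ = c⁻¹ * ρ x c := by rw [hcd, inv_mul_cancel_left]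
      have h6 : ρ y d⁻¹ = d⁻¹ := by
        rw [h5, map_mul, map_inv, hc, ← MulAut.mul_apply, ← map_mul, ← h.comm, map_mul,
          MulAut.mul_apply, hc]
      rw [map_inv] at h6
      exact inv_injective h6
    have hby : ρ y b = b := fixed_of_mul ρ h2 h.y3 hbd hdy
    have hcx : ρ x c = c := fixed_of_mul ρ h2 h.x3 hcd (by rw [map_inv, hdx])
    exact mul_mem (h.mem_Fx hb hby) (h.mem_Fx hcx hc)
  · exact le_inf ((Fx_le_Fe h.hx).trans le_sup_left) (Fx_le_Fe (mul_mem h.hx h.hy))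

/-- If the fixed points of `x` are more than those of `P`, they are at least four times as many. -/
theorem E9.four {P : Subgroup X} {x y : X} (h : E9 P x y) (h2 : ∀ a : A, a * a = 1)
    (hne : Fe ρ x ≠ Fx ρ P) : 4 ≤ (Fx ρ P).relIndex (Fe ρ x) := by
  have : Fact (Nat.Prime 2) := ⟨Nat.prime_two⟩
  have hp : IsPGroup 2 (Fe ρ x) := by
    intro a
    refine ⟨1, ?_⟩
    rw [pow_one, pow_two]
    exact Subtype.ext (h2 a)
  have hle : Fx ρ P ≤ Fe ρ x := Fx_le_Fe h.hx
  obtain ⟨k, hk⟩ := hp.index ((Fx ρ P).subgroupOf (Fe ρ x))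
  have hk' : (Fx ρ P).relIndex (Fe ρ x) = 2 ^ k := hk
  rw [hk']
  by_contra hlt
  push Not at hlt
  have hk2 : k < 2 := by
    by_contra h5
    push Not at h5
    have : 2 ^ 2 ≤ 2 ^ k := Nat.pow_le_pow_right (by norm_num) h5
    omega
  interval_cases k
  · apply hne
    rw [pow_zero, Subgroup.relIndex_eq_one] at hk'
    exact le_antisymm hk' hle
  · -- index two
    rw [pow_one] at hk'
    apply hne
    apply le_antisymm _ hle
    intro b hb
    by_contra hbC
    have hbx : ρ x b = b := (mem_Fe ρ).1 hb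
    have hyb : ρ y b ∈ Fe ρ x := by
      rw [mem_Fe, ← MulAut.mul_apply, ← map_mul, h.comm, map_mul, MulAut.mul_apply, hbx]
    have hybC : ρ y b ∉ Fx ρ P := by
      intro h5
      apply hbC
      have h6 : ρ y (ρ y b) = ρ y b := h5 y h.hy
      have h7 : ρ y b = b := (ρ y).injective h6
      rw [← h7]; exact h5
    have h8 : b⁻¹ * ρ y b ∈ Fx ρ P := by
      have h9 := Subgroup.mul_mem_iff_of_index_two (H := (Fx ρ P).subgroupOf (Fe ρ x)) hk'
        (a := ⟨b, hb⟩⁻¹) (b := ⟨ρ y b, hyb⟩)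
      have h10 : (⟨b, hb⟩ : Fe ρ x)⁻¹ * ⟨ρ y b, hyb⟩ ∈ (Fx ρ P).subgroupOf (Fe ρ x) := by
        rw [h9, Subgroup.inv_mem_iff, Subgroup.mem_subgroupOf, Subgroup.mem_subgroupOf]
        exact iff_of_false hbC hybC
      exact Subgroup.mem_subgroupOf.1 h10
    apply hbC
    apply h.mem_Fx hbx
    exact fixed_of_mul ρ h2 h.y3 (d := b⁻¹ * ρ y b) (by rw [mul_inv_cancel_left]) (h8 y h.hy)

omit [Finite X] in
theorem card_sup (H K C : Subgroup A) (hC : H ⊓ K = C) :
    Nat.card (H ⊔ K : Subgroup A) = Nat.card K * C.relIndex H := by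
  have h1 : K.relIndex (H ⊔ K) = K.relIndex H := Subgroup.relIndex_sup_right H K
  have h2 : (H ⊓ K).relIndex H = K.relIndex H := by rw [inf_comm]; exact Subgroup.inf_relIndex_right K H
  have h3 := Subgroup.card_mul_index (K.subgroupOf (H ⊔ K))
  have h4 : Nat.card (K.subgroupOf (H ⊔ K)) = Nat.card K :=
    Nat.card_congr (Subgroup.subgroupOfEquivOfLe (le_sup_right : K ≤ H ⊔ K)).toEquiv
  rw [h4] at h3
  rw [← h3, ← hC, h2, ← h1]
  rfl

theorem E9.bound {P : Subgroup X} {x y : X} (h : E9 P x y) (h2 : ∀ a : A, a * a = 1)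
    (hall : ∀ z ∈ P, z ≠ 1 → ∃ w, E9 P z w) (hx1 : x ≠ 1) (hy1 : y ≠ 1) (hxy1 : x * y ≠ 1)
    (hne : ∀ z ∈ P, z ≠ 1 → Fe ρ z ≠ Fx ρ P) : 64 * Nat.card (Fx ρ P) ≤ Nat.card A := by
  have key : ∀ z ∈ P, z ≠ 1 → 4 ≤ (Fx ρ P).relIndex (Fe ρ z) := by
    intro z hz hz1
    obtain ⟨w, hw⟩ := hall z hz hz1
    exact hw.four h2 (hne z hz hz1)
  have e1 := card_sup (Fe ρ x) (Fe ρ y) (Fx ρ P) h.inf
  have e2 := card_sup (Fe ρ x ⊔ Fe ρ y) (Fe ρ (x * y)) (Fx ρ P) (h.inf₃ h2)
  have e3 : ∀ z ∈ P, Nat.card (Fe ρ z) = Nat.card (Fx ρ P) * (Fx ρ P).relIndex (Fe ρ z) := by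
    intro z hz
    have h3 := Subgroup.card_mul_index ((Fx ρ P).subgroupOf (Fe ρ z))
    rw [Nat.card_congr (Subgroup.subgroupOfEquivOfLe (Fx_le_Fe hz : Fx ρ P ≤ Fe ρ z)).toEquiv] at h3
    exact h3.symm
  have e4 : Nat.card (Fe ρ x ⊔ Fe ρ y : Subgroup A) =
      Nat.card (Fx ρ P) * (Fx ρ P).relIndex (Fe ρ x ⊔ Fe ρ y) := by
    have hle : Fx ρ P ≤ Fe ρ x ⊔ Fe ρ y := (Fx_le_Fe h.hx).trans le_sup_left
    have h3 := Subgroup.card_mul_index ((Fx ρ P).subgroupOf (Fe ρ x ⊔ Fe ρ y))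
    rw [Nat.card_congr (Subgroup.subgroupOfEquivOfLe hle).toEquiv] at h3
    exact h3.symm
  have hpos : 0 < Nat.card (Fx ρ P) := Nat.card_pos
  have k1 := key x h.hx hx1
  have k2 := key y h.hy hy1
  have k3 := key (x * y) (mul_mem h.hx h.hy) hxy1
  rw [e3 y h.hy] at e1
  rw [e4] at e1
  -- `|F₁ F₂ : C| ≥ 16`
  have k4 : 16 ≤ (Fx ρ P).relIndex (Fe ρ x ⊔ Fe ρ y) := by
    have h5 : (Fx ρ P).relIndex (Fe ρ x ⊔ Fe ρ y) =
        (Fx ρ P).relIndex (Fe ρ y) * (Fx ρ P).relIndex (Fe ρ x) := by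
      apply Nat.eq_of_mul_eq_mul_left hpos
      rw [e1, mul_assoc]
    rw [h5]
    calc 16 = 4 * 4 := rfl
      _ ≤ _ := Nat.mul_le_mul k2 k1
  have k5 : Nat.card ((Fe ρ x ⊔ Fe ρ y) ⊔ Fe ρ (x * y) : Subgroup A) ≤ Nat.card A :=
    Subgroup.card_le_card_group _
  rw [e2, e3 (x * y) (mul_mem h.hx h.hy), mul_assoc] at k5
  refine le_trans ?_ k5
  rw [mul_comm 64]
  apply Nat.mul_le_mul_left
  calc 64 = 4 * 16 := rfl
    _ ≤ _ := Nat.mul_le_mul k3 k4

omit [Finite X] [Finite A] in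
/-- If all nontrivial elements of `P` have the same fixed points, `P` acts trivially. -/
theorem E9.trivial {P : Subgroup X} {x y : X} (h : E9 P x y) (h2 : ∀ a : A, a * a = 1)
    (hall : ∀ z ∈ P, z ≠ 1 → Fe ρ z = Fx ρ P) (hx1 : x ≠ 1) (hy1 : y ≠ 1) (hxy1 : x * y ≠ 1)
    (hxyy1 : x * (y * y) ≠ 1) (a : A) : a ∈ Fx ρ P := by
  have key : ∀ z ∈ P, z * z * z = 1 → z ≠ 1 → ∀ a : A, a * ρ z a * ρ (z * z) a ∈ Fx ρ P := by
    intro z hz hz3 hz1 a
    rw [← hall z hz hz1, mem_Fe, map_mul, map_mul, ← MulAut.mul_apply, ← MulAut.mul_apply, ← map_mul,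
      ← map_mul, ← mul_assoc, hz3, map_one]
    show ρ z a * ρ (z * z) a * a = a * ρ z a * ρ (z * z) a
    rw [mul_assoc a, mul_comm a]
  have hc := h.comm
  have c3 : ∀ z w : X, z * w = w * z → z * z * z = 1 → w * w * w = 1 → z * w * (z * w) * (z * w) = 1 := by
    intro z w hzw hz hw
    have h5 : (z * w) ^ 3 = z ^ 3 * w ^ 3 := (show Commute z w from hzw).mul_pow 3
    have h6 : ∀ t : X, t ^ 3 = t * t * t := fun t => by rw [pow_succ, pow_two]
    rw [h6, h6, h6, hz, hw, one_mul] at h5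
    exact h5
  have hyy3 : (y * y) * (y * y) * (y * y) = 1 := by
    have : (y * y) * (y * y) * (y * y) = (y * y * y) * (y * y * y) := by group
    rw [this, h.y3, one_mul]
  have hyy : y * y ∈ P := mul_mem h.hy h.hy
  -- the four products
  have p1 := key x h.hx h.x3 hx1 a
  have p2 := key y h.hy h.y3 hy1 a
  have p3 := key (x * y) (mul_mem h.hx h.hy) (c3 x y hc h.x3 h.y3) hxy1 a
  have hcyy : x * (y * y) = (y * y) * x := by
    rw [← mul_assoc, hc, mul_assoc, hc, ← mul_assoc]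
  have p4 := key (x * (y * y)) (mul_mem h.hx hyy) (c3 x (y * y) hcyy h.x3 hyy3) hxyy1 a
  -- the norm
  have p5 := key y h.hy h.y3 hy1 (a * ρ x a * ρ (x * x) a)
  simp only [map_mul, MulAut.mul_apply] at p1 p2 p3 p4 p5
  -- powers of `y` and `x`
  have hxxx : ∀ b, ρ x (ρ x (ρ x b)) = b := by
    intro b
    rw [← MulAut.mul_apply, ← MulAut.mul_apply, ← map_mul, ← map_mul, h.x3, map_one]; rfl
  have hyyy : ∀ b, ρ y (ρ y (ρ y b)) = b := by
    intro b
    rw [← MulAut.mul_apply, ← MulAut.mul_apply, ← map_mul, ← map_mul, h.y3, map_one]; rfl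
  have hyx : ∀ b, ρ y (ρ x b) = ρ x (ρ y b) := by
    intro b
    rw [← MulAut.mul_apply, ← MulAut.mul_apply, ← map_mul, ← map_mul, hc]
  simp only [hyx, hyyy, hxxx] at p1 p2 p3 p4 p5
  have q := mul_mem (mul_mem (mul_mem (mul_mem p1 p2) p3) p4) p5
  have hEq : a * ρ x a * ρ x (ρ x a) * (a * ρ y a * ρ y (ρ y a)) *
      (a * ρ x (ρ y a) * ρ x (ρ x (ρ y (ρ y a)))) * (a * ρ x (ρ y (ρ y a)) * ρ x (ρ x (ρ y a))) *
      (a * ρ x a * ρ x (ρ x a) * (ρ y a * ρ x (ρ y a) * ρ x (ρ x (ρ y a))) *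
        (ρ y (ρ y a) * ρ x (ρ y (ρ y a)) * ρ x (ρ x (ρ y (ρ y a))))) = a := by
    generalize ρ x a = b1 at *
    generalize ρ x b1 = b2 at *
    generalize ρ y a = b3 at *
    generalize ρ y b3 = b4 at *
    generalize ρ x b3 = b5 at *
    generalize ρ x b5 = b6 at *
    generalize ρ x b4 = b7 at *
    generalize ρ x b7 = b8 at *
    have : a * b1 * b2 * (a * b3 * b4) * (a * b5 * b8) * (a * b7 * b6) *
        (a * b1 * b2 * (b3 * b5 * b6) * (b4 * b7 * b8)) =
        (a * a) * (a * a) * a * (b1 * b1) * (b2 * b2) * (b3 * b3) * (b4 * b4) * (b5 * b5) *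
          (b6 * b6) * (b7 * b7) * (b8 * b8) := by
      simp only [mul_assoc, mul_comm, mul_left_comm]
    rw [this]
    simp only [h2, one_mul, mul_one]
  rw [hEq] at q
  exact q

end action

section main

variable {X : Type u} [Group X] [Finite X]

/-- Generators of a Sylow 3-subgroup. -/
theorem exists_E9 (hX : IsM11 X) (P : Sylow 3 X) {z : X} (hz : z ∈ P) (hz1 : z ≠ 1) :
    ∃ w, E9 (P : Subgroup X) z w ∧ w ≠ 1 ∧ z * w ≠ 1 ∧ z * (w * w) ≠ 1 := by
  have h3 : Fact (Nat.Prime 3) := ⟨Nat.prime_three⟩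
  have hc3 : ∀ t ∈ P, t * t * t = 1 := by
    intro t ht
    have := SporadicA.M11Facts2.pow_three_eq_one hX P ht
    rwa [pow_succ, pow_two] at this
  have hzo : orderOf z = 3 := orderOf_eq_prime (SporadicA.M11Facts2.pow_three_eq_one hX P hz) hz1
  have h9 : Nat.card (P : Subgroup X) = 9 := SporadicA.M11Three.card_P hX P
  obtain ⟨w, hw, hwz⟩ : ∃ w ∈ (P : Subgroup X), w ∉ Subgroup.zpowers z := by
    by_contra hcon
    push Not at hcon
    have h4 : Nat.card (P : Subgroup X) ≤ Nat.card (Subgroup.zpowers z) :=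
      Subgroup.card_le_of_le hcon
    rw [h9, Nat.card_zpowers, hzo] at h4
    omega
  have hzz : z ∈ Subgroup.zpowers z := Subgroup.mem_zpowers z
  refine ⟨w, ⟨hz, hw, ?_, hc3 z hz, hc3 w hw, ?_⟩, ?_, ?_, ?_⟩
  · exact congrArg Subtype.val (SporadicA.M11Three.comm_P hX P ⟨z, hz⟩ ⟨w, hw⟩)
  · intro t ht
    have hle : Subgroup.closure {z, w} ≤ (P : Subgroup X) := by
      rw [Subgroup.closure_le]
      rintro s (rfl | rfl)
      · exact hz
      · exact hw
    have hzle : Subgroup.zpowers z ≤ Subgroup.closure {z, w} :=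
      Subgroup.zpowers_le.2 (Subgroup.subset_closure (by simp))
    have hwc : w ∈ Subgroup.closure {z, w} := Subgroup.subset_closure (by simp)
    have hd : Nat.card (Subgroup.closure {z, w}) ∣ 9 := h9 ▸ Subgroup.card_dvd_of_le hle
    have hd3 : 3 ∣ Nat.card (Subgroup.closure {z, w}) := by
      have := Subgroup.card_dvd_of_le hzle
      rwa [Nat.card_zpowers, hzo] at this
    have hne : Nat.card (Subgroup.closure {z, w}) ≠ 3 := by
      intro h4
      apply hwz
      have h5 : Subgroup.zpowers z = Subgroup.closure {z, w} :=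
        Subgroup.eq_of_le_of_card_ge hzle (by rw [Nat.card_zpowers, hzo, h4])
      rw [h5]; exact hwc
    have h4 : Nat.card (Subgroup.closure {z, w}) = 9 := by
      have h5 : Nat.card (Subgroup.closure {z, w}) ∣ 3 ^ 2 := hd
      obtain ⟨k, hk, hk'⟩ := (Nat.dvd_prime_pow Nat.prime_three).1 h5
      rw [hk'] at hd3 hne ⊢
      interval_cases k
      · norm_num at hd3
      · norm_num at hne
      · norm_num
    have h5 : Subgroup.closure {z, w} = (P : Subgroup X) :=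
      Subgroup.eq_of_le_of_card_ge hle (by rw [h9, h4])
    rw [h5]; exact ht
  · rintro rfl
    exact hwz (one_mem _)
  · intro h4
    apply hwz
    rw [← inv_eq_of_mul_eq_one_right h4]
    exact inv_mem hzz
  · intro h4
    apply hwz
    have h5 : z * (w * w) * w = w := by rw [h4, one_mul]
    rw [mul_assoc, hc3 w hw, mul_one] at h5
    rw [← h5]; exact hzz

/-- **`M11` on a 2-group.** -/
theorem exists_fixed (hX : IsM11 X) {A : Type*} [CommGroup A] [Finite A] (ρ : X →* MulAut A)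
    (h2 : ∀ a : A, a * a = 1)
    (hfix : ∀ a : A, a ≠ 1 → ∃ Q : Sylow 3 X, (Q : Subgroup X) ≤ St ρ a) (hnt : ∃ a : A, a ≠ 1) :
    ∃ a : A, a ≠ 1 ∧ ∀ g : X, ρ g a = a := by
  have h3 : Fact (Nat.Prime 3) := ⟨Nat.prime_three⟩
  obtain ⟨a₀, ha₀⟩ := hnt
  obtain ⟨P⟩ : Nonempty (Sylow 3 X) := inferInstance
  have h9 : Nat.card (P : Subgroup X) = 9 := SporadicA.M11Three.card_P hX P
  have : Nontrivial (P : Subgroup X) := Finite.one_lt_card_iff_nontrivial.1 (by rw [h9]; norm_num)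
  obtain ⟨⟨z, hz⟩, hz1⟩ := exists_ne (1 : (P : Subgroup X))
  have hz1 : z ≠ 1 := fun h => hz1 (Subtype.ext h)
  obtain ⟨w, hE, hw1, hzw1, hzww1⟩ := exists_E9 hX P hz hz1
  have hdich : (∃ t ∈ (P : Subgroup X), t ≠ 1 ∧ Fe ρ t = Fx ρ (P : Subgroup X)) →
      ∀ s ∈ (P : Subgroup X), s ≠ 1 → Fe ρ s = Fx ρ (P : Subgroup X) := by
    rintro ⟨t, ht, ht1, htE⟩ s hs hs1
    obtain ⟨g, hg, hgt⟩ := SporadicA.M11Facts2.exists_conj_of_mem_sylow_three hX P hs hs1 ht ht1
    rw [← hgt, Fe_conj, htE, Fx_conj ρ g _ hg]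
  by_cases hc : ∃ t ∈ (P : Subgroup X), t ≠ 1 ∧ Fe ρ t = Fx ρ (P : Subgroup X)
  · have hall := hdich hc
    have h4 := hE.trivial h2 hall hz1 hw1 hzw1 hzww1
    have := hX.1
    have h5 : ρ.ker = ⊤ := by
      rcases (inferInstance : ρ.ker.Normal).eq_bot_or_eq_top with h6 | h6
      · exfalso
        apply hz1
        have h7 : z ∈ ρ.ker := by
          rw [MonoidHom.mem_ker]
          ext a
          exact h4 a z hz
        rw [h6, Subgroup.mem_bot] at h7
        exact h7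
      · exact h6
    refine ⟨a₀, ha₀, fun g => ?_⟩
    have h6 : g ∈ ρ.ker := by rw [h5]; trivial
    rw [MonoidHom.mem_ker] at h6
    rw [h6]; rfl
  · exfalso
    push Not at hc
    have h4 := hE.bound h2 (fun s hs hs1 => (exists_E9 hX P hs hs1).imp fun _ h => h.1) hz1 hw1 hzw1 hc
    have h5 := card_union ρ hfix P
    rw [card_sylow hX] at h5
    have hpos : 0 < Nat.card (Fx ρ (P : Subgroup X)) := Nat.card_pos
    omega

variable {G : Type u} [Group G] [Finite G] {N : Subgroup G}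

theorem Ctx.m11_eq_two {r : ℕ} (h : Ctx 3 r N) [N.Normal] (hr : r.Prime) (hIM : AllIM.{u} 3)
    (hX : IsM11 (G ⧸ N)) : r = 2 := by
  by_contra hr2
  have hrF := Fact.mk hr
  have h3F : Fact (Nat.Prime 3) := ⟨Nat.prime_three⟩
  have := finite_hom h.comm
  have hpart : ∀ b : N →* ℂˣ, b ≠ 1 →
      ∃! Q : Sylow 3 (G ⧸ N), (Q : Subgroup (G ⧸ N)) ≤ St (act N h.comm) b := by
    intro b hb
    by_cases hr3 : r = 3
    · subst hr3
      exact partD h hIM b hb
    · obtain ⟨F, hF⟩ := ext_of_sq' N h.pgr (by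
        have hidx : N.index = 7920 := hX.2
        rw [hidx]
        intro hd
        have h5 : r ∣ 7920 := (dvd_pow_self r two_ne_zero).trans hd
        have h6 : (7920 : ℕ) = 2 ^ 4 * 3 ^ 2 * 5 * 11 := by norm_num
        rw [h6] at h5
        have h7 : r = 5 ∨ r = 11 := by
          rcases (Nat.Prime.dvd_mul hr).1 h5 with h8 | h8
          · rcases (Nat.Prime.dvd_mul hr).1 h8 with h9 | h9
            · rcases (Nat.Prime.dvd_mul hr).1 h9 with h10 | h10
              · exact absurd ((Nat.prime_dvd_prime_iff_eq hr Nat.prime_two).1 (hr.dvd_of_dvd_pow h10)) hr2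
              · exact absurd ((Nat.prime_dvd_prime_iff_eq hr Nat.prime_three).1 (hr.dvd_of_dvd_pow h10)) hr3
            · exact Or.inl ((Nat.prime_dvd_prime_iff_eq hr Nat.prime_five).1 h9)
          · exact Or.inr ((Nat.prime_dvd_prime_iff_eq hr (by norm_num)).1 h8)
        rcases h7 with h7 | h7 <;> subst h7 <;> norm_num at hd) b
      exact (unique_of_ext N h.comm h.prm (fun T => hIM T) hb F hF).1
  obtain ⟨m, hm, hcard⟩ := h.card
  have hA : Nat.card (N →* ℂˣ) = r ^ m := by rw [card_hom h.comm, hcard]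
  obtain ⟨Q⟩ : Nonempty (Sylow 3 (G ⧸ N)) := inferInstance
  have h2 := card_partition (A := N →* ℂˣ) (act N h.comm) hpart Q
  rw [hA, card_sylow hX] at h2
  have h3 : Nat.card (Fx (A := N →* ℂˣ) (act N h.comm) (Q : Subgroup (G ⧸ N))) ∣ r ^ m := by
    rw [← hA]; exact Subgroup.card_subgroup_dvd_card _
  obtain ⟨c, -, hc⟩ := (Nat.dvd_prime_pow hr).1 h3
  rw [hc] at h2
  exact arith_fiftyfive hr hm h2

/-- **`G ⧸ N = M11` is impossible.** -/
theorem Ctx.m11_false {r : ℕ} (h : Ctx 3 r N) [hNn : N.Normal] (hr : r.Prime) (hIM : AllIM.{u} 3)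
    (hX : IsM11 (G ⧸ N)) : False := by
  have h3F : Fact (Nat.Prime 3) := ⟨Nat.prime_three⟩
  have hr2 := Ctx.m11_eq_two h hr hIM hX
  subst hr2
  have := finite_hom h.comm
  have hsq : ∀ b : N →* ℂˣ, b * b = 1 := by
    intro b
    ext n
    have h1 : n * n = 1 := Subtype.ext (by
      have := h.pow n n.2
      rwa [pow_two] at this)
    rw [MonoidHom.mul_apply, ← map_mul, h1, map_one]
    rfl
  have hnt : ∃ b : N →* ℂˣ, b ≠ 1 := by
    have : Nontrivial N := (Subgroup.nontrivial_iff_ne_bot N).2 h.ne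
    exact exists_linear_ne_one h.pgr
  obtain ⟨b, hb, hfix'⟩ := exists_fixed (A := N →* ℂˣ) hX (act N h.comm) hsq
    (fun b hb => exists_sylow_le N h.comm h.prm hb) hnt
  have hfix : St (act N h.comm) b = ⊤ := eq_top_iff.2 fun x _ => hfix' x
  obtain ⟨hz, -⟩ := central_of_fixed N h.min h.comm hb hfix
  have hcard := h.card_eq hr hz
  obtain ⟨e⟩ := TwoGenCore.IsoMEleven.isoM11 hX
  have hperf : commutator (G ⧸ N) = ⊤ :=
    perfect_of_surj e.symm.toMonoidHom e.symm.surjective FooteOdd.SporMEleven.perfect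
  have hn : (N ⊓ commutator G).Normal := inferInstance
  rcases h.min _ hn inf_le_left with h0 | h0
  · obtain ⟨F, hF⟩ := OneSfive.exists_ext_abel N h0 b
    have h1 := OneSfive.card_of_ext h.comm h.prm hIM hb hfix F hF
    rw [card_sylow hX] at h1
    omega
  · have h1 : N ≤ commutator G := by rw [← h0]; exact inf_le_right
    have h2 := perfect_sup N hperf
    rw [sup_eq_right.2 h1] at h2
    -- the centre
    have hZ : Subgroup.center G = N := by
      apply le_antisymm _ hz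
      intro x hx
      have hs := hX.1
      have h3 : QuotientGroup.mk' N x ∈ Subgroup.center (G ⧸ N) := by
        rw [Subgroup.mem_center_iff]
        intro g
        obtain ⟨g, rfl⟩ := QuotientGroup.mk'_surjective N g
        rw [← map_mul, ← map_mul, Subgroup.mem_center_iff.1 hx g]
      rcases (inferInstance : (Subgroup.center (G ⧸ N)).Normal).eq_bot_or_eq_top with h4 | h4
      · rw [h4, Subgroup.mem_bot] at h3
        exact (QuotientGroup.eq_one_iff x).1 h3
      · exfalso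
        have h5 : commutator (G ⧸ N) = ⊥ := by
          rw [commutator_def, Subgroup.commutator_eq_bot_iff_le_centralizer]
          intro y _
          rw [Subgroup.mem_centralizer_iff]
          intro w _
          have : y ∈ Subgroup.center (G ⧸ N) := by rw [h4]; trivial
          exact Subgroup.mem_center_iff.1 this w
        rw [hperf] at h5
        have h6 : Nat.card (G ⧸ N) = 1 := by
          rw [← Subgroup.card_top, h5, Subgroup.card_bot]
        rw [hX.2] at h6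
        omega
    have e' : G ⧸ Subgroup.center G ≃* G ⧸ N := QuotientGroup.quotientMulEquivOfEq hZ
    apply KFacts.MulM11.odd_center h2 ⟨e'.trans e⟩
    rw [hZ, hcard]

end main

end Cfsg.Agent.H596.OneM11
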