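import Cfsg.Agent.H596.OneSfiveC
import Cfsg.Agent.S2306
import Cfsg.Agent.H981.CentAlt5

/-!
# Central extensions of `S5` (helper596, for S4764)

* `exists_six` : a faithful irreducible character of degree 6 of `SL(2,5)`;
* `Ctx.s5_false` : `G ⧸ N = S5` is impossible.
-/

set_option autoImplicit false
set_option maxRecDepth 100000

open Cfsg

namespace Cfsg.Agent.H596.OneSfive

open Cfsg.Agent.H596.OneSing Cfsg.Agent.H596.OnePart Cfsg.Agent.H596.OneL2 Cfsg.Agent.H670.PSing
  Cfsg.Agent.H596.OneCtx Cfsg.Agent.H596.OneKlein Cfsg.Agent.H596.OneV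
open Cfsg.Agent.OddOrderCharacters.PF9.CliffGen
open Matrix

universe u

instance : Fact (Nat.Prime 5) := ⟨Nat.prime_five⟩

/-- A faithful character of degree 6 of `SL(2,5)`. -/
theorem exists_six : ∃ θ : SpecialLinearGroup (Fin 2) (ZMod 5) → ℂ,
    IsIrrCharacter (SpecialLinearGroup (Fin 2) (ZMod 5)) θ ∧ θ 1 = 6 ∧ θ (-1) = -6 := by
  classical
  obtain ⟨α, hα⟩ := MulChar.exists_mulChar_orderOf (R := ℂ) (ZMod 5) (n := 4) (by
    rw [ZMod.card]) (Complex.isPrimitiveRoot_exp 4 (by norm_num))
  have hα2 : α ^ 2 ≠ 1 := by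
    intro h
    have := orderOf_dvd_of_pow_eq_one h
    rw [hα] at this
    omega
  have hirr := (S2306.result α).2 hα2
  have hfun : (fun b : ↥((Cfsg.upperTriangularGL 2 (ZMod 5)).comap Matrix.SpecialLinearGroup.toGL) =>
      α (((b : Matrix.SpecialLinearGroup (Fin 2) (ZMod 5)) : Matrix (Fin 2) (Fin 2) (ZMod 5)) 0 0)) =
      fun b => H113.BorelInd.slLin α b :=
    funext fun b => (H113.BorelInd.slLin_apply α b).symm
  rw [hfun] at hirr
  have hm1 : α (-1) = -1 := by
    have h1 : α (-1) * α (-1) = 1 := by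
      rw [← map_mul, neg_mul_neg, one_mul, map_one]
    rcases mul_self_eq_one_iff.1 h1 with h2 | h2
    · exfalso
      apply hα2
      have h3 : α 2 * α 2 = 1 := by
        rw [← map_mul, show (2 : ZMod 5) * 2 = -1 by decide, h2]
      have h4 : α 3 * α 3 = 1 := by
        rw [← map_mul, show (3 : ZMod 5) * 3 = -1 by decide, h2]
      ext a
      rw [MulChar.one_apply_coe, MulChar.pow_apply_coe]
      have ha : ∀ x : ZMod 5, x ≠ 0 → x = 1 ∨ x = 2 ∨ x = 3 ∨ x = -1 := by decide
      rw [pow_two]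
      rcases ha a a.ne_zero with h | h | h | h <;> rw [h]
      · rw [map_one, one_mul]
      · exact h3
      · exact h4
      · rw [h2, one_mul]
    · exact h2
  refine ⟨_, hirr, ?_, ?_⟩
  · rw [H113.BorelInd.indFun_sl]
    have h0 : ∀ t : ZMod 5, (if t * (((1 : SpecialLinearGroup (Fin 2) (ZMod 5)) : Matrix (Fin 2) (Fin 2) (ZMod 5)) 1 0 * t +
        ((1 : SpecialLinearGroup (Fin 2) (ZMod 5)) : Matrix (Fin 2) (Fin 2) (ZMod 5)) 1 1) =
          ((1 : SpecialLinearGroup (Fin 2) (ZMod 5)) : Matrix (Fin 2) (Fin 2) (ZMod 5)) 0 0 * t +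
            ((1 : SpecialLinearGroup (Fin 2) (ZMod 5)) : Matrix (Fin 2) (Fin 2) (ZMod 5)) 0 1 then
        α (((1 : SpecialLinearGroup (Fin 2) (ZMod 5)) : Matrix (Fin 2) (Fin 2) (ZMod 5)) 1 0 * t +
          ((1 : SpecialLinearGroup (Fin 2) (ZMod 5)) : Matrix (Fin 2) (Fin 2) (ZMod 5)) 1 1) else 0) = (1 : ℂ) := by
      intro t
      simp
    rw [Finset.sum_congr rfl (fun t _ => h0 t)]
    simp
    norm_num
  · rw [H113.BorelInd.indFun_sl]
    have h0 : ∀ t : ZMod 5, (if t * (((-1 : SpecialLinearGroup (Fin 2) (ZMod 5)) : Matrix (Fin 2) (Fin 2) (ZMod 5)) 1 0 * t +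
        ((-1 : SpecialLinearGroup (Fin 2) (ZMod 5)) : Matrix (Fin 2) (Fin 2) (ZMod 5)) 1 1) =
          ((-1 : SpecialLinearGroup (Fin 2) (ZMod 5)) : Matrix (Fin 2) (Fin 2) (ZMod 5)) 0 0 * t +
            ((-1 : SpecialLinearGroup (Fin 2) (ZMod 5)) : Matrix (Fin 2) (Fin 2) (ZMod 5)) 0 1 then
        α (((-1 : SpecialLinearGroup (Fin 2) (ZMod 5)) : Matrix (Fin 2) (Fin 2) (ZMod 5)) 1 0 * t +
          ((-1 : SpecialLinearGroup (Fin 2) (ZMod 5)) : Matrix (Fin 2) (Fin 2) (ZMod 5)) 1 1) else 0) = (-1 : ℂ) := by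
      intro t
      simp [hm1]
    rw [Finset.sum_congr rfl (fun t _ => h0 t)]
    simp [hm1]
    norm_num

/-- A linear character of a subgroup meeting `G'` trivially extends to `G`. -/
theorem exists_ext_abel {G : Type*} [Group G] [Finite G] (N : Subgroup G)
    (h0 : N ⊓ commutator G = ⊥) (lam : N →* ℂˣ) : ∃ F : G →* ℂˣ, ∀ n : N, F n = lam n := by
  let ι : N →* Abelianization G := Abelianization.of.comp N.subtype
  have hι : Function.Injective ι := by
    rw [← MonoidHom.ker_eq_bot_iff, eq_bot_iff]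
    intro n hn
    have h1 : (n : G) ∈ (Abelianization.of : G →* Abelianization G).ker := hn
    rw [Abelianization.ker_of] at h1
    have h2 : (n : G) ∈ N ⊓ commutator G := ⟨n.2, h1⟩
    rw [h0, Subgroup.mem_bot] at h2
    rw [Subgroup.mem_bot]
    exact Subtype.ext h2
  let e := MonoidHom.ofInjective hι
  obtain ⟨φ, hφ⟩ := MonoidHom.domRestrict_surjective (G := Abelianization G) (M := ℂ) ι.range
    (lam.comp e.symm.toMonoidHom)
  refine ⟨φ.comp Abelianization.of, fun n => ?_⟩
  have h1 := DFunLike.congr_fun hφ (e n)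
  have h2 : (lam.comp e.symm.toMonoidHom) (e n) = lam n := by
    show lam (e.symm (e n)) = lam n
    rw [e.symm_apply_apply]
  rw [h2] at h1
  exact h1

open Cfsg.Agent.Characters.Core Cfsg.Agent.OddOrderCharacters.IndRes Cfsg.Agent.Blocks.Knorr

variable {G : Type u} [Group G] [Finite G] {N : Subgroup G}

/-- If `b` is invariant and extends to `G`, then `G ⧸ N` has just one Sylow `p`-subgroup. -/
theorem card_of_ext {p : ℕ} [hp : Fact p.Prime] [N.Normal] (hc : ∀ a ∈ N, ∀ b ∈ N, a * b = b * a)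
    (hprm : Prm p N) (hIM : AllIM.{u} p)
    {b : N →* ℂˣ} (hb : b ≠ 1) (hfix : St (act N hc) b = ⊤) (F : G →* ℂˣ)
    (hF : ∀ n : N, F n = b n) : Nat.card (Sylow p (G ⧸ N)) = 1 := by
  obtain ⟨⟨Q, -, hQ⟩, -⟩ := unique_of_ext N hc hprm (fun T => hIM T) hb
    (F.comp (inertia N (fn b)).subtype) (fun n => hF n)
  rw [Nat.card_eq_one_iff_unique]
  refine ⟨⟨fun P R => ?_⟩, inferInstance⟩
  rw [hQ P (by show (P : Subgroup (G ⧸ N)) ≤ _; rw [hfix]; exact le_top),
    hQ R (by show (R : Subgroup (G ⧸ N)) ≤ _; rw [hfix]; exact le_top)]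

theorem card_sylow_S5_ne : Nat.card (Sylow 3 S5) ≠ 1 := by
  have h3F : Fact (Nat.Prime 3) := ⟨Nat.prime_three⟩
  intro h1
  obtain ⟨Q, hQ⟩ := exists_sylow_mem (x := c) (by decide +kernel)
  obtain ⟨R, hR⟩ := exists_sylow_mem (x := Equiv.swap 0 1 * Equiv.swap 1 3) (by decide +kernel)
  have := (Nat.card_eq_one_iff_unique.1 h1).1
  have hQR : Q = R := Subsingleton.elim _ _
  subst hQR
  obtain ⟨y, hy, hy3, hy1, hall⟩ := exists_gen Q
  have e1 := hall _ hQ
  have e2 := hall _ hR
  have key : ∀ y : S5, y * y * y = 1 → (c = 1 ∨ c = y ∨ c = y * y) →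
      (Equiv.swap 0 1 * Equiv.swap 1 3 = (1 : S5) ∨ Equiv.swap 0 1 * Equiv.swap 1 3 = y ∨
        Equiv.swap 0 1 * Equiv.swap 1 3 = y * y) → False := by decide +kernel
  exact key y hy3 e1 e2

/-- **`G ⧸ N = S5` is impossible.** -/
theorem Ctx.s5_false {r : ℕ} (h : Ctx 3 r N) [hNn : N.Normal] (hr : r.Prime) (hIM : AllIM.{u} 3)
    (e : G ⧸ N ≃* S5) : False := by
  classical
  have h3F : Fact (Nat.Prime 3) := ⟨Nat.prime_three⟩
  have hr2 := Ctx.s5_eq_two h hr hIM e
  subst hr2
  obtain ⟨b, hb, hfix⟩ := Ctx.s5_two h hIM e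
  obtain ⟨hz, -⟩ := central_of_fixed N h.min h.comm hb hfix
  have hcard := h.card_eq hr hz
  let f : G →* S5 := e.toMonoidHom.comp (QuotientGroup.mk' N)
  have hf : Function.Surjective f := e.surjective.comp (QuotientGroup.mk'_surjective N)
  have hk : ∀ x, f x = 1 ↔ x ∈ N := by
    intro x
    show e (QuotientGroup.mk' N x) = 1 ↔ _
    rw [map_eq_one_iff e e.injective]
    exact QuotientGroup.eq_one_iff x
  have h5 : 5 ≤ Nat.card (Fin 5) := by rw [Nat.card_fin]
  have hDf : (commutator G).map f = alternatingGroup (Fin 5) := by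
    rw [← alternatingGroup.commutator_perm_eq h5, commutator_def, commutator_def,
      Subgroup.map_commutator, Subgroup.map_top_of_surjective _ hf]
  have hn : (N ⊓ commutator G).Normal := inferInstance
  rcases h.min _ hn inf_le_left with h0 | h0
  · obtain ⟨F, hF⟩ := exists_ext_abel N h0 b
    have h1 := card_of_ext h.comm h.prm hIM hb hfix F hF
    rw [H571.SylowNumber.card_sylow_congr e] at h1
    exact card_sylow_S5_ne h1
  -- `N ≤ G'`
  have hND : N ≤ commutator G := by rw [← h0]; exact inf_le_right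
  set D := commutator G with hD
  have hidx : D.index = 2 := by
    have h1 : D.index = (alternatingGroup (Fin 5)).index := by
      rw [← hDf, Subgroup.index_map_eq _ hf]
      intro x hx
      exact hND ((hk x).1 hx)
    rw [h1]
    exact alternatingGroup.index_eq_two
  -- the second derived subgroup
  let D₂ := (commutator D).map D.subtype
  have hD₂n : D₂.Normal := by
    have : (commutator D).Characteristic := inferInstance
    exact ConjAct.normal_of_characteristic_of_normal
  -- `f` on `D`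
  let fD : D →* alternatingGroup (Fin 5) := (f.comp D.subtype).codRestrict (alternatingGroup (Fin 5))
    (fun x => by rw [← hDf]; exact ⟨x, x.2, rfl⟩)
  have hfD : Function.Surjective fD := by
    rintro ⟨y, hy⟩
    rw [← hDf] at hy
    obtain ⟨x, hx, rfl⟩ := hy
    exact ⟨⟨x, hx⟩, rfl⟩
  have hkD : ∀ x : D, fD x = 1 ↔ (x : G) ∈ N := by
    intro x
    rw [← hk]
    exact ⟨fun h => congrArg Subtype.val h, fun h => Subtype.ext h⟩
  have hcomm : (commutator D).map fD = ⊤ := by
    rw [commutator_def, Subgroup.map_commutator, Subgroup.map_top_of_surjective _ hfD, ← commutator_def]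
    exact commutator_alternatingGroup_eq_top h5
  have hDsup : ∀ x ∈ D, ∃ y ∈ D₂, ∃ n ∈ N, x = y * n := by
    intro x hx
    have h1 : fD ⟨x, hx⟩ ∈ (commutator D).map fD := by rw [hcomm]; trivial
    obtain ⟨y, hy, hyx⟩ := h1
    refine ⟨y, ⟨y, hy, rfl⟩, (y : G)⁻¹ * x, ?_, by group⟩
    have h2 : fD (y⁻¹ * ⟨x, hx⟩) = 1 := by rw [map_mul, map_inv, hyx, inv_mul_cancel]
    exact (hkD _).1 h2
  have hperf : commutator D = ⊤ := by
    have hn₂ : (N ⊓ D₂).Normal := inferInstance
    rcases h.min _ hn₂ inf_le_left with h1 | h1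
    · exfalso
      -- `G ⧸ D₂` is abelian
      have hcent : D.map (QuotientGroup.mk' D₂) ≤ Subgroup.center (G ⧸ D₂) := by
        rintro _ ⟨x, hx, rfl⟩
        obtain ⟨y, hy, n, hn, rfl⟩ := hDsup x hx
        rw [map_mul, show QuotientGroup.mk' D₂ y = 1 from (QuotientGroup.eq_one_iff y).2 hy, one_mul,
          Subgroup.mem_center_iff]
        intro g
        obtain ⟨g, rfl⟩ := QuotientGroup.mk'_surjective D₂ g
        rw [← map_mul, ← map_mul, Subgroup.mem_center_iff.1 (hz hn) g]
      have hab : ∀ a b : G ⧸ D₂, a * b = b * a := by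
        have hnD : (D.map (QuotientGroup.mk' D₂)).Normal :=
          (inferInstance : D.Normal).map _ (QuotientGroup.mk'_surjective D₂)
        have hcyc : IsCyclic ((G ⧸ D₂) ⧸ D.map (QuotientGroup.mk' D₂)) := by
          apply isCyclic_of_prime_card (p := 2)
          show (D.map (QuotientGroup.mk' D₂)).index = 2
          rw [Subgroup.index_map_eq _ (QuotientGroup.mk'_surjective D₂), hidx]
          rw [QuotientGroup.ker_mk']
          exact Subgroup.map_subtype_le _
        intro a b
        exact commutative_of_cyclic_center_quotient (QuotientGroup.mk' (D.map (QuotientGroup.mk' D₂)))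
          (by rw [QuotientGroup.ker_mk']; exact hcent) a b
      have hDD : D ≤ D₂ := by
        rw [hD, commutator_def, Subgroup.commutator_le]
        intro x _ y _
        rw [← QuotientGroup.eq_one_iff]
        show QuotientGroup.mk' D₂ (x * y * x⁻¹ * y⁻¹) = 1
        rw [map_mul, map_mul, map_mul, hab (QuotientGroup.mk' D₂ x), ← map_mul, ← map_mul, ← map_mul]
        rw [mul_inv_cancel_right, mul_inv_cancel, map_one]
      apply h.ne
      rw [← h1]
      exact (inf_eq_left.2 (hND.trans hDD)).symm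
    · have hN₂ : N ≤ D₂ := by rw [← h1]; exact inf_le_right
      rw [eq_top_iff]
      rintro ⟨x, hx⟩ -
      obtain ⟨y, hy, n, hn, rfl⟩ := hDsup x hx
      obtain ⟨z, hz', hzx⟩ : y * n ∈ D₂ := mul_mem hy (hN₂ hn)
      have : z = ⟨y * n, hx⟩ := Subtype.ext hzx
      rw [← this]; exact hz'
  -- the centre of `D`
  have hZ : Subgroup.center D = fD.ker := by
    apply le_antisymm
    · intro x hx
      rw [MonoidHom.mem_ker]
      have h1 : fD x ∈ Subgroup.center (alternatingGroup (Fin 5)) := by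
        rw [Subgroup.mem_center_iff]
        intro g
        obtain ⟨y, rfl⟩ := hfD g
        rw [← map_mul, ← map_mul, Subgroup.mem_center_iff.1 hx y]
      have h2 : Subgroup.center (alternatingGroup (Fin 5)) = ⊥ :=
        alternatingGroup.center_eq_bot (by rw [Nat.card_fin]; norm_num)
      rw [h2] at h1
      exact h1
    · intro x hx
      rw [Subgroup.mem_center_iff]
      intro g
      apply Subtype.ext
      have h1 : (x : G) ∈ N := (hkD x).1 hx
      exact Subgroup.mem_center_iff.1 (hz h1) g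
  have e₁ : D ⧸ Subgroup.center D ≃* alternatingGroup (Fin 5) :=
    (QuotientGroup.quotientMulEquivOfEq hZ).trans
      (QuotientGroup.quotientKerEquivOfSurjective fD hfD)
  rcases H981.CentAlt5.alt5 hperf e₁ with h1 | ⟨⟨η⟩⟩
  · -- `N = 1`
    apply h.ne
    rw [eq_bot_iff]
    intro x hx
    have h2 : (⟨x, hND hx⟩ : D) ∈ Subgroup.center D := by
      rw [hZ]; exact (hkD _).2 hx
    rw [h1, Subgroup.mem_bot] at h2
    exact congrArg Subtype.val h2
  · -- the character of degree 6
    obtain ⟨θ, hθ, hθ1, hθm⟩ := exists_six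
    have : Fintype G := Fintype.ofFinite G
    have : Fintype D := Fintype.ofFinite D
    have hθ' : IsIrrCharacter D (θ ∘ η) := isIrr_comp η.toMonoidHom η.surjective hθ
    obtain ⟨χ, hχ⟩ := Blocks.Over.exists_over D ⟨θ ∘ η, hθ'⟩
    have hd := degree_dvd_of_over D hθ' χ.2 hχ
    have hdeg : charDegree (θ ∘ η) = 6 := by
      apply charDegree_eq_of
      show θ (η 1) = _
      rw [map_one, hθ1]; norm_num
    -- the central element
    set z : D := η.symm (-1) with hzd
    have hzN : (z : G) ∈ N := by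
      rw [← hkD]
      have h2 : z ∈ Subgroup.center D := by
        rw [Subgroup.mem_center_iff]
        intro g
        apply η.injective
        rw [map_mul, map_mul, hzd, η.apply_symm_apply]
        have h3 := neg_one_conj (η g)
        rw [mul_inv_eq_iff_eq_mul] at h3
        exact h3.symm
      rw [hZ] at h2
      exact h2
    refine h.prm _ χ.2 ⟨z, hzN, fun h3 => ?_⟩ ?_
    · have h4 := constituent_ker (isCharacter_res D (isIrr_isCharacter χ.2)) hθ' hχ
        (y := z) (by
          show (χ : G → ℂ) z = (χ : G → ℂ) 1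
          exact h3)
      have h5 : θ (η z) = θ (η 1) := h4
      rw [hzd, η.apply_symm_apply, map_one, hθm, hθ1] at h5
      norm_num at h5
    · rw [hdeg] at hd
      exact (by norm_num : (3 : ℕ) ∣ 6).trans hd

end Cfsg.Agent.H596.OneSfive
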