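import Cfsg.Agent.H596.OneASB
import Cfsg.Agent.H596.OneM11
import Cfsg.Agent.H596.OneV
import Cfsg.Agent.H596.OneSLfive
import Cfsg.Agent.H596.DerLen

/-!
# Groups with exactly one irreducible character of degree divisible by `p` (helper596, for S4764)

The reduction of S4764 to the facts on simple groups.
-/

set_option autoImplicit false

open Cfsg

namespace Cfsg.Agent.H596.OneMain

open Cfsg.Agent.H596.OneSing Cfsg.Agent.H670.PSing Cfsg.Agent.H596.OneL2 Cfsg.Agent.H596.OneNonab
open Cfsg.Agent.H596.OneFacts Cfsg.Agent.H596.OneCtx Cfsg.Agent.H596.OneAS Cfsg.Agent.H596.OneKlein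
open Cfsg.Agent.H596.OneV Cfsg.Agent.H671.H5

universe u

/-- A group without irreducible characters of degree divisible by `p` is `p`-solvable. -/
theorem pSolvable_of_zero {p : ℕ} [hp : Fact p.Prime] (hIM : AllIM.{u} p) {X : Type u} [Group X]
    [Finite X] (h : nSing p X = 0) : IsPSolvable p X := by
  have h1 := hIM X (forall_of_nSing_eq_zero h)
  obtain ⟨P⟩ : Nonempty (Sylow p X) := inferInstance
  have hP := (h1 P).1
  obtain ⟨m, hm⟩ := (IsPGroup.iff_card (p := p)).1 P.isPGroup'
  refine Lib.PSolvable.IsPSolvable_of_quotient p (P : Subgroup X) (Or.inl ⟨m, hm⟩) ?_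
  apply PLocal.PSolvable.isPSolvable_of_coprime
  have h2 : ¬ p ∣ Nat.card (X ⧸ (P : Subgroup X)) := by
    rw [← Subgroup.index_eq_card]
    exact P.not_dvd_index
  exact ((Nat.Prime.coprime_iff_not_dvd hp.out).2 h2).symm

variable {p : ℕ} [hp : Fact p.Prime]

/-- An abelian minimal normal subgroup. -/
theorem step_abelian (hIM : AllIM.{u} p) {G : Type u} [Group G] [Finite G] {N : Subgroup G} {r : ℕ}
    (hr : r.Prime) (h : Ctx p r N) [hN : N.Normal] (hn : nSing p (G ⧸ N) ≤ 1)
    (hc : Concl p (G ⧸ N)) : Concl p G := by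
  have hel : r = p → IsElementaryAbelian p N := by
    rintro rfl
    exact ⟨⟨⟨fun a b => Subtype.ext (h.comm a a.2 b b.2)⟩⟩, h.pow⟩
  have hSL : r = p → ∀ (F : Type) [Field F] [Fintype F], CharP F p → 4 ≤ Fintype.card F →
      ∀ e : G ⧸ N ≃* Matrix.SpecialLinearGroup (Fin 2) F, Concl p G := by
    rintro rfl F _ _ hF h4 e
    obtain ⟨a, ha, hFa⟩ := exists_pow (p := r) (F := F)
    have hL : LL r (r ^ a) (G ⧸ N) := (hFa ▸ ll_SL (F := F) (p := r)).of_equiv e.symm
    have h1 := caseD_card h hIM ha hL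
    rw [← hFa] at h1
    exact Or.inl ⟨F, _, _, hF, h4, Or.inr (Or.inr ⟨N, hN, hel rfl, h1, ⟨e⟩⟩)⟩
  rcases hc with ⟨F, _, _, hF, h4, ⟨⟨e⟩⟩ | ⟨⟨e⟩⟩ | ⟨V, hVn, hVe, hVc, ⟨e⟩⟩⟩ | ⟨rfl, ⟨e⟩⟩ | ⟨rfl, hM⟩
  · by_cases hrp : r = p
    · rcases Nat.even_or_odd (Fintype.card F) with he | ho
      · have hp2 : p = 2 := by
          obtain ⟨a, ha, hFa⟩ := exists_pow (p := p) (F := F)
          rw [hFa] at he
          have h1 : Even p := (Nat.even_pow.1 he).1
          exact (Nat.Prime.even_iff hp.out).1 h1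
        subst hp2
        obtain ⟨i⟩ := psl_equiv_sl (F := F)
        exact hSL hrp F hF h4 (e.trans i)
      · subst hrp
        exact (caseD_PSL_odd h hIM ho e).elim
    · exact Or.inl ⟨F, _, _, hF, h4, Or.inr (Or.inl (h.caseC_PSL hr hrp hIM h4 e))⟩
  · by_cases hrp : r = p
    · exact hSL hrp F hF h4 e
    · exact (h.caseC_SL hr hrp hIM h4 e).elim
  · have hVp : IsPGroup p V := by
      rw [IsPGroup.iff_card]
      obtain ⟨a, ha, hFa⟩ := exists_pow (p := p) (F := F)
      exact ⟨a * 2, by rw [hVc, hFa, pow_mul]⟩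
    by_cases hrp : r = p
    · subst hrp
      refine (caseD_V h hIM hn V hVp ?_ e).elim
      rintro rfl
      rw [Subgroup.card_bot] at hVc
      nlinarith
    · exact (Ctx.caseC_V h hr hrp hIM h4 V hVp e).elim
  · exact (OneSfive.Ctx.s5_false h hr hIM e).elim
  · exact (OneM11.Ctx.m11_false h hr hIM hM).elim

/-- **The reduction of S4764 to the facts on simple groups.** -/
theorem main (hIM : FactIM.{u}) (hExt : FactExt.{u}) (hTwo : FactTwo.{u}) (n : ℕ) :
    ∀ (G : Type u) [Group G] [Finite G], Nat.card G ≤ n → ¬ IsPSolvable p G → nSing p G ≤ 1 →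
      Concl p G := by
  have hAll : AllIM.{u} p := fun X _ _ => DerLen.IM_of_fact hIM X
  induction n with
  | zero =>
    intro G _ _ hG
    have : 0 < Nat.card G := Nat.card_pos
    omega
  | succ n ih =>
    intro G _ _ hG hns hn
    have hnt : Nontrivial G := by
      by_contra hcon
      rw [not_nontrivial_iff_subsingleton] at hcon
      apply hns
      apply PLocal.PSolvable.isPSolvable_of_coprime
      rw [Nat.card_unique]
      exact Nat.coprime_one_left p
    obtain ⟨N, hN, hne, hmin⟩ := Lib.SubnormalJoin.exists_minimal_normal G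
    by_cases hab : ∀ x ∈ N, ∀ y ∈ N, Commute x y
    · obtain ⟨r, hr, hpg, hpow⟩ := Lib.MinNormalNonabelian.abelian_structure N hne hmin hab
      have hns' : ¬ IsPSolvable p (G ⧸ N) := by
        intro h
        apply hns
        refine Lib.PSolvable.IsPSolvable_of_quotient p N ?_ h
        have hrF := Fact.mk hr
        obtain ⟨m, hm⟩ := (IsPGroup.iff_card (p := r)).1 hpg
        by_cases hrp : r = p
        · subst hrp
          exact Or.inl ⟨m, hm⟩
        · right
          rw [hm]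
          exact Nat.Coprime.pow_left m ((Nat.coprime_primes hr hp.out).2 hrp)
      have hq0 : nSing p (G ⧸ N) ≠ 0 := fun h => hns' (pSolvable_of_zero hAll h)
      have hq1 : nSing p (G ⧸ N) ≤ 1 := (nSing_quotient_le N).trans hn
      have hcard : Nat.card (G ⧸ N) ≤ n := by
        have h1 := Subgroup.card_eq_card_quotient_mul_card_subgroup N
        have h2 : 1 < Nat.card N := by
          rw [Subgroup.one_lt_card_iff_ne_bot]; exact hne
        have h3 : 0 < Nat.card (G ⧸ N) := Nat.card_pos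
        nlinarith
      have hctx : Ctx p r N := ⟨hN, hne, hmin, fun a ha b hb => hab a ha b hb, hpg, hpow,
        prm_of_le N hn hq0⟩
      exact step_abelian hAll hr hctx hq1 (ih (G ⧸ N) hcard hns' hq1)
    · have hq0 := quot_zero hExt hn N hmin hab
      have hpN : p ∣ Nat.card N := by
        by_contra hpN
        apply hns
        refine Lib.PSolvable.IsPSolvable_of_quotient p N (Or.inr ?_) (pSolvable_of_zero hAll hq0)
        exact ((Nat.Prime.coprime_iff_not_dvd hp.out).2 hpN).symm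
      obtain ⟨hs, hna, hC⟩ := simple_of_minimal hIM hn N hmin hab hpN
      exact almost_simple hAll hn N hC hq0 (hTwo N hna p hp.out hpN)

/-- **S4764 from the facts on simple groups.** -/
theorem red (hIM : FactIM.{u}) (hExt : FactExt.{u}) (hTwo : FactTwo.{u}) {G : Type u} [Group G]
    [Finite G] (p : ℕ) [Fact p.Prime] (hns : ¬ Cfsg.IsPSolvable p G)
    (hone : Nat.card {χ : Cfsg.IrrCharacter G // p ∣ Cfsg.charDegree (χ : G → ℂ)} = 1) :
    (∃ (F : Type) (_ : Field F) (_ : Fintype F), CharP F p ∧ 4 ≤ Fintype.card F ∧ (Nonempty (G ≃* Matrix.ProjectiveSpecialLinearGroup (Fin 2) F) ∨ Nonempty (G ≃* Matrix.SpecialLinearGroup (Fin 2) F) ∨ ∃ (V : Subgroup G) (_ : V.Normal), Cfsg.IsElementaryAbelian p V ∧ Nat.card V = Fintype.card F ^ 2 ∧ Nonempty (G ⧸ V ≃* Matrix.SpecialLinearGroup (Fin 2) F))) ∨ (p = 3 ∧ Nonempty (G ≃* Equiv.Perm (Fin 5))) ∨ (p = 3 ∧ Cfsg.IsM11 G) :=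
  main hIM hExt hTwo _ G le_rfl hns (le_of_eq hone)

end Cfsg.Agent.H596.OneMain
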