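import Cfsg.Agent.H596.MaxF
import Cfsg.Agent.H596.OneMain
import Cfsg.Agent.H61.S4761.Coatom
import Cfsg.Agent.H887.Glaub.Moved

/-!
# Normalisers of Sylow subgroups of groups with one irreducible character of degree divisible by `p` (helper596)

* `conjMoved` : T7;
* `main` : the reduction of S4761 to the facts on simple groups.
-/

set_option autoImplicit false

open Cfsg

namespace Cfsg.Agent.H596.MaxG

open Cfsg.Agent.H670.PSing Cfsg.Agent.H596.MaxA Cfsg.Agent.H596.OneSing Cfsg.Agent.H596.OneCtx
open Cfsg.Agent.H596.MaxC Cfsg.Agent.H596.MaxB Cfsg.Agent.H596.Fld Cfsg.Agent.H596.OneFacts Cfsg.Agent.H671.H5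

universe u

theorem conjMoved : ConjMoved.{u} := by
  intro G _ _ p _ W _ hW P hPW hn x y hx hy
  exact H887.Glaub.conj_of_moved W hW P hPW hn hx hy

variable {p : ℕ} [hp : Fact p.Prime]

/-- **`p`-solvable groups.** -/
theorem pSolv (hMoved : FactMoved.{u}) (hIM : AllIM.{u} p) (hExt : FactExt.{u}) (n : ℕ) :
    ∀ (G : Type u) [Group G] [Finite G], Nat.card G ≤ n → IsPSolvable p G → nSing p G ≤ 1 →
      ∀ P : Sylow p G, ¬ (P : Subgroup G).Normal →
        IsCoatom (Subgroup.normalizer ((P : Subgroup G) : Set G)) := by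
  induction n with
  | zero =>
    intro G _ _ hG
    have : 0 < Nat.card G := Nat.card_pos
    omega
  | succ n ih =>
    intro G _ _ hG hps hn P hP
    have hcard : ∀ N : Subgroup G, N.Normal → N ≠ ⊥ → Nat.card (G ⧸ N) ≤ n := by
      intro N _ hne
      have h1 := Subgroup.card_eq_card_quotient_mul_card_subgroup N
      have h2 : 1 < Nat.card N := by
        rw [Subgroup.one_lt_card_iff_ne_bot]; exact hne
      have h3 : 0 < Nat.card (G ⧸ N) := Nat.card_pos
      nlinarith
    have hquot : ∀ (N : Subgroup G) (_ : N.Normal), N ≠ ⊥ →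
        ¬ ((P : Subgroup G) ⊔ N).Normal → N ≤ Subgroup.normalizer ((P : Subgroup G) : Set G) →
        IsCoatom (Subgroup.normalizer ((P : Subgroup G) : Set G)) := by
      intro N hN hne hnn hle
      apply coatom_of_quot P N hle
      apply ih (G ⧸ N) (hcard N hN hne) (PLocal.PSolvable.isPSolvable_quotient hps N)
        ((nSing_quotient_le N).trans hn)
      rw [Sylow.coe_mapSurjective, normal_iff_sup]
      exact hnn
    by_cases hO : ∀ R : Subgroup G, R.Normal → IsPGroup p R → R = ⊥
    swap
    · push Not at hO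
      obtain ⟨R, hRn, hRp, hR⟩ := hO
      have h1 := hRp.le_sylow_of_normal P
      apply hquot R hRn hR
      · rw [sup_eq_left.2 h1]; exact hP
      · exact h1.trans Subgroup.le_normalizer
    have hnt : Nontrivial G := by
      by_contra hcon
      rw [not_nontrivial_iff_subsingleton] at hcon
      apply hP
      rw [Subsingleton.elim (P : Subgroup G) ⊥]
      infer_instance
    obtain ⟨N, hN, hne, hmin⟩ := Lib.SubnormalJoin.exists_minimal_normal G
    have hNp : ¬ p ∣ Nat.card N := by
      obtain ⟨L, hLn, hL1, hL2, hL3⟩ := Lib.PSolvable.sep_of_pSolvable p hps ⊥ N inferInstance hN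
        (bot_lt_iff_ne_bot.2 hne)
      have hLM : L = N := (hmin L hLn hL2).resolve_left hL1.ne'
      subst hLM
      rw [Subgroup.relIndex_bot_left] at hL3
      rcases hL3 with ⟨m, hm⟩ | hL3
      · exact absurd (hO L hLn (IsPGroup.of_card hm)) hne
      · intro hd
        exact hp.out.one_lt.ne' (Nat.eq_one_of_dvd_coprimes hL3.symm dvd_rfl hd)
    by_cases hPN : ((P : Subgroup G) ⊔ N).Normal
    · by_cases hab : ∀ x ∈ N, ∀ y ∈ N, Commute x y
      · exact (abelian_case N hmin hab P hPN hP).2
      · exact (nonab_false conjMoved hMoved N hmin hab hNp P hPN hP hn).elim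
    have hPbn : ¬ ((P.mapSurjective (QuotientGroup.mk'_surjective N) : Sylow p (G ⧸ N)) :
        Subgroup (G ⧸ N)).Normal := by
      rw [Sylow.coe_mapSurjective, normal_iff_sup]
      exact hPN
    have hq0 : nSing p (G ⧸ N) ≠ 0 := fun h0 => hPbn (hIM (G ⧸ N) (forall_of_nSing_eq_zero h0) _).1
    by_cases hab : ∀ x ∈ N, ∀ y ∈ N, Commute x y
    swap
    · exact absurd (OneNonab.quot_zero hExt hn N hmin hab) hq0
    obtain ⟨q, hq, hNq, hNpow⟩ := Lib.MinNormalNonabelian.abelian_structure N hne hmin hab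
    have hqp : q ≠ p := by
      rintro rfl
      exact hne (hO N hN hNq)
    have hctx : Ctx p q N := ⟨hN, hne, hmin, fun a ha b hb => hab a ha b hb, hNq, hNpow,
      prm_of_le N hn hq0⟩
    have hco : ∀ Q : Sylow p (G ⧸ N), IsCoatom (Subgroup.normalizer ((Q : Subgroup (G ⧸ N)) : Set (G ⧸ N))) := by
      intro Q
      apply ih (G ⧸ N) (hcard N hN hne) (PLocal.PSolvable.isPSolvable_quotient hps N)
        ((nSing_quotient_le N).trans hn)
      intro hQ
      apply hPbn
      have h1 := MaxF.sup_normal Q (P.mapSurjective (QuotientGroup.mk'_surjective N)) ⊥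
        (by rwa [sup_bot_eq])
      rwa [sup_bot_eq] at h1
    by_cases hcomm : ∀ s ∈ (P : Subgroup G), ∀ n ∈ N, s * n = n * s
    · apply hquot N hN hne hPN
      intro x hx
      rw [Subgroup.mem_normalizer_iff]
      have key : ∀ y ∈ N, ∀ s ∈ (P : Subgroup G), y * s * y⁻¹ ∈ (P : Subgroup G) := by
        intro y hy s hs
        rw [← hcomm s hs y hy, mul_inv_cancel_right]
        exact hs
      intro s
      constructor
      · exact key x hx s
      · intro hs
        have := key _ (inv_mem hx) _ hs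
        have h3 : x⁻¹ * (x * s * x⁻¹) * x⁻¹⁻¹ = s := by group
        rwa [h3] at this
    · exact (MaxF.step_B conjMoved hMoved hIM hq hqp hctx hO hn hps P hPN hco hcomm).elim

/-- **S4761 from the facts on simple groups.** -/
theorem main (hMoved : FactMoved.{u}) (hIM : FactIM.{u}) (hExt : FactExt.{u}) (hTwo : FactTwo.{u})
    {G : Type u} [Group G] [Finite G] (p : ℕ) [Fact p.Prime]
    (hone : Nat.card {χ : Cfsg.IrrCharacter G // p ∣ Cfsg.charDegree (χ : G → ℂ)} = 1) (P : Sylow p G)
    (hP : ¬ (P : Subgroup G).Normal) : IsCoatom (Subgroup.normalizer ((P : Subgroup G) : Set G)) := by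
  have hn : nSing p G ≤ 1 := le_of_eq hone
  by_cases hps : IsPSolvable p G
  · exact pSolv hMoved (fun X _ _ => DerLen.IM_of_fact hIM X) hExt _ G le_rfl hps hn P hP
  · exact H61.S4761.coatom_of_concl (OneMain.main hIM hExt hTwo _ G le_rfl hps hn) P

end Cfsg.Agent.H596.MaxG
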