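import Cfsg.Agent.H596.CoverRed

/-!
# The correspondence for an abelian section of odd order
-/

set_option autoImplicit false

open scoped commutatorElement ComplexConjugate

namespace Cfsg.Agent.H596.OddMain

open Cfsg Module
open Cfsg.Agent.Characters.Core
open Cfsg.Agent.H593.GlaubermanP (Setup Inv)
open Cfsg.Agent.H595.Solv
open Cfsg.Agent.H594.Glau (autPerm autPerm_apply autPerm_apply_apply perm_fixed exists_irr over_trans)
open Cfsg.Agent.OddOrderCharacters.PF9.CliffGen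
open Cfsg.Agent.OddOrderCharacters.IndRes (res classInner_indFun_right)
open Cfsg.Agent.OddOrderCharacters.NormalInduced (conjFn)
open Cfsg.Agent.Classification.BGIsometry (classInner_comp')
open Cfsg.Agent.H596.OddConf (inv_of_conj exists_exp)

universe u v

variable {G : Type u} [Group G] {S : Type*} [Group S] [MulDistribMulAction S G]

/-- The action on an invariant subgroup. -/
@[instance_reducible]
def subAct (T : Subgroup G) (hT : ∀ (s : S), ∀ t ∈ T, s • t ∈ T) : MulDistribMulAction S T where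
  smul s t := ⟨s • (t : G), hT s t t.2⟩
  one_smul t := Subtype.ext (one_smul S (t : G))
  mul_smul s s' t := Subtype.ext (mul_smul s s' (t : G))
  smul_mul s x y := Subtype.ext (smul_mul' s (x : G) (y : G))
  smul_one s := Subtype.ext (smul_one s)

/-- Fixed points in an invariant coset. -/
theorem exists_fixed_coset [Finite G] [Finite S] (T : Subgroup G)
    (hTS : ∀ (s : S), ∀ t ∈ T, s • t ∈ T) (hcop : (Nat.card T).Coprime (Nat.card S))
    (hsolv : Group.IsSolvable T) (g : G) (hg : ∀ s : S, s • g * g⁻¹ ∈ T) :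
    ∃ t ∈ T, ∀ s : S, s • (t * g) = t * g := by
  obtain ⟨t, ht⟩ := perm_fixed (MulAction.toPermHom S G) (MulAction.toPermHom T G) (by
      intro s t
      refine ⟨⟨s • (t : G), hTS s t t.2⟩, ?_⟩
      ext x
      show s • ((t : G) * s⁻¹ • x) = s • (t : G) * x
      rw [smul_mul', smul_inv_smul])
    (Nat.Coprime.coprime_dvd_left (Subgroup.card_range_dvd _)
      (Nat.Coprime.coprime_dvd_right (Subgroup.card_range_dvd _) hcop.symm))
    (by
      right
      have := hsolv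
      exact Group.isSolvable_of_surjective (f := (MulAction.toPermHom T G).rangeRestrict)
        (MonoidHom.rangeRestrict_surjective _)) g (by
      intro s
      refine ⟨⟨_, hg s⟩, ?_⟩
      show s • g = s • g * g⁻¹ * g
      rw [inv_mul_cancel_right])
  exact ⟨t, t.2, fun s => ht s⟩

/-- An invariant constituent on a normal subgroup. -/
theorem exists_below [Fintype G] [Finite S] (L : Subgroup G) [hL : L.Normal] [Fintype L]
    (hLS : ∀ (s : S), ∀ l ∈ L, s • l ∈ L) (hcop : (Nat.card G).Coprime (Nat.card S))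
    (hsolv : Group.IsSolvable G) (χ : IrrCharacter G) (hχ : Inv S (χ : G → ℂ)) :
    ∃ φ : IrrCharacter L, classInner (fun l : L => (χ : G → ℂ) l) (φ : L → ℂ) ≠ 0 ∧
      ∀ (s : S) (x y : L), (y : G) = s • (x : G) → (φ : L → ℂ) y = (φ : L → ℂ) x := by
  classical
  have hfin : Finite (IrrCharacter L) := finite_irr
  let act : MulDistribMulAction S L := subAct L hLS
  have hact : ∀ (s : S) (x : L), ((s • x : L) : G) = s • (x : G) := fun s x => rfl
  set f : S →* Equiv.Perm (IrrCharacter L) :=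
    (autPerm L).comp (MulDistribMulAction.toMulAut S L) with hf
  set h : G →* Equiv.Perm (IrrCharacter L) := (autPerm L).comp MulAut.conjNormal with hh
  have hcf : IsClassFunction L (fun n : L => (χ : G → ℂ) n) :=
    isCharacter_isClassFunction (Cfsg.Agent.Characters.Clifford.isCharacter_restrict L
      (isIrr_isCharacter χ.2))
  obtain ⟨θ0, hθ0⟩ := exists_irr hcf (fun h0 => by
    have := congrFun h0 1
    exact isIrr_apply_one_ne_zero χ.2 this)
  have hinner : ∀ (e : MulAut L), (∀ n : L, (χ : G → ℂ) (e n : L) = (χ : G → ℂ) n) →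
      ∀ θ : IrrCharacter L, classInner (fun n : L => (χ : G → ℂ) n) (autPerm L e θ : L → ℂ) =
        classInner (fun n : L => (χ : G → ℂ) n) (θ : L → ℂ) := by
    intro e he θ
    have h1 := Cfsg.Agent.Characters.Clifford.classInner_comp_mulEquiv e
      (fun n : L => (χ : G → ℂ) n) (autPerm L e θ : L → ℂ)
    rw [← h1]
    congr 1
    · funext n; exact he n
    · funext n; exact autPerm_apply_apply _ _ _
  obtain ⟨g, hg⟩ := perm_fixed f h (fun s g => ⟨s • g, by
      rw [hf, hh]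
      simp only [MonoidHom.comp_apply]
      rw [← map_mul, ← map_inv, ← map_mul]
      congr 1
      ext x
      show ((s • (MulAut.conjNormal g (s⁻¹ • x)) : L) : G) = ((MulAut.conjNormal (s • g) x : L) : G)
      rw [hact, MulAut.conjNormal_apply, MulAut.conjNormal_apply, hact, smul_mul', smul_mul',
        smul_inv_smul, smul_inv']⟩)
    (Nat.Coprime.coprime_dvd_left (Subgroup.card_range_dvd f)
      (Nat.Coprime.coprime_dvd_right (Subgroup.card_range_dvd h) hcop.symm))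
    (by
      right
      have := hsolv
      exact Group.isSolvable_of_surjective (f := h.rangeRestrict) h.rangeRestrict_surjective) θ0 (by
      intro s
      have h1 : classInner (fun n : L => (χ : G → ℂ) n) (f s θ0 : L → ℂ) ≠ 0 := by
        rw [hf]
        show classInner _ (autPerm L (MulDistribMulAction.toMulAut S L s) θ0 : L → ℂ) ≠ 0
        rw [hinner _ (fun n => hχ s (n : G))]
        exact hθ0
      obtain ⟨g, hg⟩ := Cfsg.Agent.Characters.Clifford.exists_conj_of_constituents L χ.2 θ0.2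
        (f s θ0).2 hθ0 h1
      refine ⟨g⁻¹, ?_⟩
      apply Subtype.ext
      rw [hg]
      funext n
      show (θ0 : L → ℂ) (MulAut.conjNormal g n) = (θ0 : L → ℂ) ((MulAut.conjNormal g⁻¹)⁻¹ n)
      rw [map_inv, inv_inv])
  refine ⟨h g θ0, ?_, ?_⟩
  · rw [hh]
    show classInner _ (autPerm L (MulAut.conjNormal g) θ0 : L → ℂ) ≠ 0
    rw [hinner _ (fun n => by
      rw [MulAut.conjNormal_apply]
      exact isIrr_isClassFunction χ.2 _ _)]
    exact hθ0
  · intro s x y hxy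
    have h1 := hg s
    have h2 : y = s • x := Subtype.ext hxy
    rw [h2]
    conv_lhs => rw [← h1]
    exact autPerm_apply_apply (MulDistribMulAction.toMulAut S L s) (h g θ0) x

/-- Induction commutes with automorphisms. -/
theorem indFun_smul [Fintype G] (T : Subgroup G) (hTS : ∀ (s : S), ∀ t ∈ T, s • t ∈ T)
    (ζ : T → ℂ) (s : S) (g : G) :
    indFun T ζ (s • g) = indFun T (fun t : T => ζ ⟨s • (t : G), hTS s t t.2⟩) g := by
  rw [indFun_apply, indFun_apply]
  congr 1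
  symm
  refine Fintype.sum_bijective (fun x : G => s • x) (MulAction.bijective s) _ _ fun x => ?_
  have e1 : (s • x)⁻¹ * s • g * s • x = s • (x⁻¹ * g * x) := by
    rw [smul_mul', smul_mul', smul_inv']
  rw [e1]
  by_cases h : x⁻¹ * g * x ∈ T
  · rw [extendByZero_of_mem T _ h, extendByZero_of_mem T _ (hTS s _ h)]
  · have h' : s • (x⁻¹ * g * x) ∉ T := by
      intro h'
      have := hTS s⁻¹ _ h'
      rw [inv_smul_smul] at this
      exact h this
    rw [extendByZero_of_notMem T _ h, extendByZero_of_notMem T _ h']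

/-- **The correspondence over an invariant character of `L`.** -/
theorem over_main [Fintype G] [Finite S] {D : Type v} [Group D] [Fintype D] (ι : D →* G)
    (hι : Function.Injective ι) (L K : Subgroup G) [hL : L.Normal] [hK : K.Normal] [Fintype L]
    (hodd : Odd (Nat.card G)) (hcop : (Nat.card G).Coprime (Nat.card S))
    (hsolv : Group.IsSolvable G) (hLK : L ≤ K)
    (hLS : ∀ (s : S), ∀ l ∈ L, s • l ∈ L) (hKS : ∀ (s : S), ∀ k ∈ K, s • k ∈ K)
    (hab : ∀ a ∈ K, ∀ b ∈ K, ⁅a, b⁆ ∈ L) (hfix : ∀ g : G, (∀ s : S, s • g * g⁻¹ ∈ L) ↔ ∃ d, ι d = g)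
    (hgen : ∀ g, ∃ k ∈ K, ∃ d, g = k * ι d) (i : L →* D) (hi : ∀ l, ι (i l) = l)
    (φ : IrrCharacter L)
    (hS : ∀ (s : S) (x y : L), (y : G) = s • (x : G) → (φ : L → ℂ) y = (φ : L → ℂ) x) :
    (∀ χ : IrrCharacter G, Inv S (χ : G → ℂ) →
      classInner (fun l : L => (χ : G → ℂ) l) (φ : L → ℂ) ≠ 0 →
      ∃ ψ : IrrCharacter D, classInner (fun l : L => (ψ : D → ℂ) (i l)) (φ : L → ℂ) ≠ 0 ∧
        Cor ι 2 χ ψ) ∧
    (∀ (χ : IrrCharacter G) (ψ ψ' : IrrCharacter D), Inv S (χ : G → ℂ) →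
      classInner (fun l : L => (χ : G → ℂ) l) (φ : L → ℂ) ≠ 0 →
      classInner (fun l : L => (ψ : D → ℂ) (i l)) (φ : L → ℂ) ≠ 0 →
      classInner (fun l : L => (ψ' : D → ℂ) (i l)) (φ : L → ℂ) ≠ 0 →
      Cor ι 2 χ ψ → Cor ι 2 χ ψ' → ψ = ψ') ∧
    (∀ (χ χ' : IrrCharacter G) (ψ : IrrCharacter D), Inv S (χ : G → ℂ) → Inv S (χ' : G → ℂ) →
      classInner (fun l : L => (χ : G → ℂ) l) (φ : L → ℂ) ≠ 0 →
      classInner (fun l : L => (χ' : G → ℂ) l) (φ : L → ℂ) ≠ 0 →
      classInner (fun l : L => (ψ : D → ℂ) (i l)) (φ : L → ℂ) ≠ 0 →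
      Cor ι 2 χ ψ → Cor ι 2 χ' ψ → χ = χ') ∧
    (∀ ψ : IrrCharacter D, classInner (fun l : L => (ψ : D → ℂ) (i l)) (φ : L → ℂ) ≠ 0 →
      ∃ χ : IrrCharacter G, Inv S (χ : G → ℂ) ∧
        classInner (fun l : L => (χ : G → ℂ) l) (φ : L → ℂ) ≠ 0 ∧ Cor ι 2 χ ψ) := by
  classical
  -- the inertia group
  let T : Subgroup G := inertia L φ.1
  have hT : ∀ g, g ∈ T ↔ conjFn L φ.1 g = φ.1 := fun g => mem_inertia
  have hT' : ∀ g, g ∈ T ↔ ∀ l : L, φ.1 ⟨g * l * g⁻¹, hL.conj_mem l l.2 g⟩ = φ.1 l :=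
    fun g => mem_inertia'
  have hLT : L ≤ T := le_inertia (isIrr_isClassFunction φ.2)
  have hTS : ∀ (s : S), ∀ t ∈ T, s • t ∈ T := by
    intro s t ht
    rw [hT'] at ht ⊢
    intro l
    have e1 := hS s ⟨t * (s⁻¹ • (l : G)) * t⁻¹, hL.conj_mem _ (hLS s⁻¹ l l.2) t⟩
      ⟨s • t * l * (s • t)⁻¹, hL.conj_mem l l.2 _⟩ (by
        rw [smul_mul', smul_mul', smul_inv_smul, smul_inv'])
    have e2 := hS s ⟨s⁻¹ • (l : G), hLS s⁻¹ l l.2⟩ l (by rw [smul_inv_smul])
    rw [e1, e2]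
    exact ht ⟨s⁻¹ • (l : G), hLS s⁻¹ l l.2⟩
  let actT : MulDistribMulAction S T := subAct T hTS
  have hactT : ∀ (s : S) (t : T), ((s • t : T) : G) = s • (t : G) := fun s t => rfl
  have hfT : Fintype T := Fintype.ofFinite T
  let TD : Subgroup D := T.comap ι
  have hfTD : Fintype TD := Fintype.ofFinite TD
  have hTD : ∀ d, d ∈ TD ↔ ι d ∈ T := fun d => Iff.rfl
  let ND : Subgroup D := L.comap ι
  have hND : ND.Normal := hL.comap ι
  have hfND : Fintype ND := Fintype.ofFinite ND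
  let φD : ND → ℂ := fun n => φ.1 ⟨ι n, n.2⟩
  let eN : L →* ND := i.codRestrict ND fun l => by
    show ι (i l) ∈ L
    rw [hi]; exact l.2
  have heN : Function.Surjective eN := by
    rintro ⟨n, hn⟩
    refine ⟨⟨ι n, hn⟩, Subtype.ext (hι ?_)⟩
    show ι (i ⟨ι n, hn⟩) = ι n
    rw [hi]
  have hφDe : φD ∘ eN = φ.1 := by
    funext l
    show φ.1 ⟨ι (i l), _⟩ = φ.1 l
    exact congrArg φ.1 (Subtype.ext (hi l))
  have hφD : IsIrrCharacter ND φD :=
    isIrr_comp (ι.subgroupComap L) (by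
      rintro ⟨l, hl⟩
      refine ⟨eN ⟨l, hl⟩, Subtype.ext ?_⟩
      exact hi ⟨l, hl⟩) φ.2
  have hTD' : ∀ d, d ∈ TD ↔ conjFn ND φD d = φD := by
    intro d
    rw [hTD, hT']
    constructor
    · intro h
      funext n
      have h1 := h ⟨ι n, n.2⟩
      refine Eq.trans ?_ h1
      show φ.1 ⟨ι (d * n * d⁻¹), _⟩ = φ.1 ⟨ι d * ι n * (ι d)⁻¹, _⟩
      exact congrArg φ.1 (Subtype.ext (by
        show ι (d * n * d⁻¹) = ι d * ι n * (ι d)⁻¹
        rw [map_mul, map_mul, map_inv]))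
    · intro h l
      have h1 := congrFun h (eN l)
      have h2 : φD (eN l) = φ.1 l := congrFun hφDe l
      rw [h2] at h1
      refine Eq.trans ?_ h1
      show φ.1 ⟨ι d * l * (ι d)⁻¹, _⟩ = φ.1 ⟨ι (d * i l * d⁻¹), _⟩
      exact congrArg φ.1 (Subtype.ext (by
        show ι d * l * (ι d)⁻¹ = ι (d * i l * d⁻¹)
        rw [map_mul, map_mul, map_inv, hi]))
  have hNTD : ND ≤ TD := fun d hd => hLT hd
  let ιT : TD →* T := ι.subgroupComap T
  have hιTc : ∀ d : TD, ((ιT d : T) : G) = ι d := fun d => rfl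
  have hιT : Function.Injective ιT := by
    intro a b hab
    apply Subtype.ext
    apply hι
    exact congrArg Subtype.val hab
  let j : L.subgroupOf T ≃* L := Subgroup.subgroupOfEquivOfLe hLT
  have hjc : ∀ x : L.subgroupOf T, ((j x : L) : G) = ((x : T) : G) := fun x => rfl
  let φT : IrrCharacter (L.subgroupOf T) := ⟨φ.1 ∘ j, isIrr_comp j.toMonoidHom j.surjective φ.2⟩
  have hiTD : ∀ x : L.subgroupOf T, i (j x) ∈ TD := by
    intro x
    show ι (i (j x)) ∈ T
    rw [hi]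
    exact hLT (j x).2
  let iT : L.subgroupOf T →* TD := (i.comp j.toMonoidHom).codRestrict TD hiTD
  have hiT : ∀ x, ιT (iT x) = x := by
    intro x
    apply Subtype.ext
    exact hi (j x)
  have hfLT : Fintype (L.subgroupOf T) := Fintype.ofFinite _
  -- arithmetic
  have hTG : Nat.card T ∣ Nat.card G := Subgroup.card_subgroup_dvd_card T
  have hoddT : Odd (Nat.card T) := by
    obtain ⟨m, hm⟩ := hTG
    rw [hm] at hodd
    exact (Nat.odd_mul.1 hodd).1
  have hcopT : (Nat.card T).Coprime (Nat.card S) := Nat.Coprime.coprime_dvd_left hTG hcop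
  have hfixT : ∀ g : T, (∀ s : S, s • g * g⁻¹ ∈ L.subgroupOf T) ↔ ∃ d, ιT d = g := by
    intro g
    have h1 := hfix g
    constructor
    · intro h
      obtain ⟨d, hd⟩ := h1.1 (fun s => h s)
      have hd' : d ∈ TD := by
        rw [hTD, hd]; exact g.2
      exact ⟨⟨d, hd'⟩, Subtype.ext hd⟩
    · rintro ⟨d, rfl⟩ s
      exact h1.2 ⟨d, rfl⟩ s
  have hgenT : ∀ g : T, ∃ k ∈ K.subgroupOf T, ∃ d, g = k * ιT d := by
    intro g
    have hKT : ∀ s : S, s • (g : G) * (g : G)⁻¹ ∈ K ⊓ T := by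
      intro s
      refine ⟨?_, T.mul_mem (hTS s g g.2) (T.inv_mem g.2)⟩
      obtain ⟨k, hk, d, hkd⟩ := hgen g
      have h1 : s • ι d * (ι d)⁻¹ ∈ K := hLK ((hfix (ι d)).2 ⟨d, rfl⟩ s)
      have e1 : s • (g : G) * (g : G)⁻¹ = s • k * (s • ι d * (ι d)⁻¹) * k⁻¹ := by
        rw [hkd, smul_mul']; group
      rw [e1]
      exact K.mul_mem (K.mul_mem (hKS s k hk) h1) (K.inv_mem hk)
    obtain ⟨t, ht, ht'⟩ := exists_fixed_coset (S := S) (K ⊓ T)
      (fun s t ht => ⟨hKS s t ht.1, hTS s t ht.2⟩)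
      (Nat.Coprime.coprime_dvd_left (Subgroup.card_subgroup_dvd_card _) hcop)
      (by have := hsolv; infer_instance)
      g hKT
    obtain ⟨d, hd⟩ := (hfix (t * g)).1 (fun s => by
      rw [ht' s, mul_inv_cancel]; exact L.one_mem)
    have hd' : d ∈ TD := by
      rw [hTD, hd]
      exact T.mul_mem ht.2 g.2
    refine ⟨⟨t⁻¹, T.inv_mem ht.2⟩, K.inv_mem ht.1, ⟨d, hd'⟩, Subtype.ext ?_⟩
    show (g : G) = t⁻¹ * ι d
    rw [hd]
    group
  obtain ⟨A, B, C', D'⟩ := CoverRed.main (S := S) ιT hιT (L.subgroupOf T) (K.subgroupOf T) hoddT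
    hcopT (fun x hx => hLK hx) (fun s l hl => hLS s l hl) (fun s l hl => hKS s l hl)
    (fun a ha b hb => hab a ha b hb) hfixT hgenT iT hiT φT (by
      intro g l
      show φ.1 (j (MulAut.conjNormal g l)) = φ.1 (j l)
      rw [← (hT' (g : G)).1 g.2 (j l)]
      exact congrArg φ.1 (Subtype.ext (by
        rw [hjc, MulAut.conjNormal_apply]
        rfl))) (by
      intro s x y hxy
      exact hS s (j x) (j y) (by rw [hjc, hjc, hxy, hactT]))
  -- the two forms of "over `φ`"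
  have hovG : ∀ ζ : T → ℂ, classInner (fun l : L.subgroupOf T => ζ l) φT.1 =
      classInner (resTo hLT ζ) φ.1 := by
    intro ζ
    exact classInner_comp_equiv j (resTo hLT ζ) φ.1
  have hovD : ∀ ψ : D → ℂ, classInner (res ND ψ) φD = classInner (fun l : L => ψ (i l)) φ.1 := by
    intro ψ
    rw [← classInner_comp' eN heN, hφDe]
    rfl
  have hovTD : ∀ ψ : TD → ℂ, classInner (fun l : L.subgroupOf T => ψ (iT l)) φT.1 =
      classInner (resTo hNTD ψ) φD := by
    intro ψ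
    rw [← classInner_comp' eN heN, hφDe]
    exact classInner_comp_equiv j (resTo hNTD ψ ∘ eN) φ.1
  -- Clifford correspondence
  have hupG : ∀ χ : IrrCharacter G, classInner (fun l : L => (χ : G → ℂ) l) φ.1 ≠ 0 →
      ∃ ζ : IrrCharacter T, classInner (fun l : L.subgroupOf T => ζ.1 l) φT.1 ≠ 0 ∧
        χ.1 = indFun T ζ.1 := by
    intro χ hχ
    obtain ⟨ζ, hζ, h1, h2⟩ := exists_ind φ.2 hT hLT χ.2 hχ
    exact ⟨⟨ζ, hζ⟩, by rw [hovG]; exact h1, h2⟩
  have hupD : ∀ ψ : IrrCharacter D, classInner (fun l : L => (ψ : D → ℂ) (i l)) φ.1 ≠ 0 →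
      ∃ ξ : IrrCharacter TD, classInner (fun l : L.subgroupOf T => ξ.1 (iT l)) φT.1 ≠ 0 ∧
        ψ.1 = indFun TD ξ.1 := by
    intro ψ hψ
    obtain ⟨ξ, hξ, h1, h2⟩ := exists_ind hφD hTD' hNTD ψ.2 (by rw [hovD]; exact hψ)
    exact ⟨⟨ξ, hξ⟩, by rw [hovTD]; exact h1, h2⟩
  have hirrG : ∀ ζ : IrrCharacter T, classInner (fun l : L.subgroupOf T => ζ.1 l) φT.1 ≠ 0 →
      IsIrrCharacter G (indFun T ζ.1) := fun ζ hζ =>
    irr_ind φ.2 hT hLT ζ.2 (by rw [← hovG]; exact hζ)
  have hirrD : ∀ ξ : IrrCharacter TD, classInner (fun l : L.subgroupOf T => ξ.1 (iT l)) φT.1 ≠ 0 →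
      IsIrrCharacter D (indFun TD ξ.1) := fun ξ hξ =>
    irr_ind hφD hTD' hNTD ξ.2 (by rw [← hovTD]; exact hξ)
  have hoverG : ∀ ζ : IrrCharacter T, classInner (fun l : L.subgroupOf T => ζ.1 l) φT.1 ≠ 0 →
      classInner (fun l : L => indFun T ζ.1 l) φ.1 ≠ 0 := by
    intro ζ hζ
    have h1 : classInner (res T (indFun T ζ.1)) ζ.1 ≠ 0 := by
      rw [← classInner_indFun_right T ζ.1 (isIrr_isClassFunction (hirrG ζ hζ)),
        classInner_irr_self (hirrG ζ hζ)]
      exact one_ne_zero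
    exact over_trans (Subgroup.inclusion hLT)
      (Cfsg.Agent.Characters.Clifford.isCharacter_restrict T (isIrr_isCharacter (hirrG ζ hζ)))
      ζ.2 φ.2 h1 (by
        have h2 := hovG ζ.1
        rw [h2] at hζ
        exact hζ)
  have hoverD : ∀ ξ : IrrCharacter TD,
      classInner (fun l : L.subgroupOf T => ξ.1 (iT l)) φT.1 ≠ 0 →
      classInner (fun l : L => indFun TD ξ.1 (i l)) φ.1 ≠ 0 := by
    intro ξ hξ
    have h1 : classInner (res TD (indFun TD ξ.1)) ξ.1 ≠ 0 := by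
      rw [← classInner_indFun_right TD ξ.1 (isIrr_isClassFunction (hirrD ξ hξ)),
        classInner_irr_self (hirrD ξ hξ)]
      exact one_ne_zero
    rw [← hovD]
    exact over_trans (Subgroup.inclusion hNTD)
      (Cfsg.Agent.Characters.Clifford.isCharacter_restrict TD (isIrr_isCharacter (hirrD ξ hξ)))
      ξ.2 hφD h1 (by
        have h2 := hovTD ξ.1
        rw [h2] at hξ
        exact hξ)
  -- invariance
  have hinv : ∀ (χ : IrrCharacter G) (ζ : IrrCharacter T),
      classInner (fun l : L.subgroupOf T => ζ.1 l) φT.1 ≠ 0 → χ.1 = indFun T ζ.1 →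
      (Inv S (χ : G → ℂ) ↔ Inv S ζ.1) := by
    intro χ ζ hζ hind
    constructor
    · intro h s t
      let ζs : IrrCharacter T := twist (aut S T s) ζ
      have h1 : classInner (resTo hLT ζs.1) φ.1 ≠ 0 := by
        let a : L ≃* L :=
          { toFun := fun x => ⟨s • (x : G), hLS s x x.2⟩
            invFun := fun x => ⟨s⁻¹ • (x : G), hLS s⁻¹ x x.2⟩
            left_inv := fun x => Subtype.ext (inv_smul_smul s (x : G))
            right_inv := fun x => Subtype.ext (smul_inv_smul s (x : G))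
            map_mul' := fun x y => Subtype.ext (smul_mul' s (x : G) (y : G)) }
        have e1 : φ.1 = φ.1 ∘ a := funext fun x => (hS s x (a x) rfl).symm
        have e2 : resTo hLT ζs.1 = resTo hLT ζ.1 ∘ a := rfl
        rw [e2]
        conv_lhs => rw [e1]
        rw [classInner_comp_equiv, ← hovG]
        exact hζ
      have h2 : indFun T ζ.1 = indFun T ζs.1 := by
        funext g
        have h3 := indFun_smul T hTS ζ.1 s g
        rw [← hind, h s g, hind] at h3
        exact h3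
      have h3 := ind_inj φ.2 hT hLT ζ.2 ζs.2 (by rw [← hovG]; exact hζ) h1 h2
      have h4 := congrFun h3 t
      exact h4.symm
    · intro h s g
      rw [hind, indFun_smul T hTS ζ.1 s g]
      congr 1
      funext t
      exact h s t
  -- multiplicities
  have hmult : ∀ (χ : IrrCharacter G) (ζ : IrrCharacter T) (ψ : IrrCharacter D)
      (ξ : IrrCharacter TD), classInner (fun l : L.subgroupOf T => ζ.1 l) φT.1 ≠ 0 →
      χ.1 = indFun T ζ.1 → classInner (fun l : L.subgroupOf T => ξ.1 (iT l)) φT.1 ≠ 0 →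
      ψ.1 = indFun TD ξ.1 → (Cor ι 2 χ ψ ↔ Cor ιT 2 ζ ξ) := by
    intro χ ζ ψ ξ hζ hχζ hξ hψξ
    have hfin : Finite (IrrCharacter T) := finite_irr
    have hfin' : Fintype (IrrCharacter T) := Fintype.ofFinite _
    have key : classInner (χ.1 ∘ ι) ψ.1 = classInner (ζ.1 ∘ ιT) ξ.1 := by
      have hcf : IsClassFunction D (χ.1 ∘ ι) :=
        isCharacter_isClassFunction (isCharacter_comp ι (isIrr_isCharacter χ.2))
      rw [hψξ, classInner_indFun_right TD ξ.1 hcf]
      have e1 : res TD (χ.1 ∘ ι) = (fun t : T => χ.1 t) ∘ ιT := rfl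
      obtain ⟨m, hm, hm'⟩ := Cfsg.Agent.CharDeep.CliffordCorr.exists_nat_coeffs
        (Cfsg.Agent.Characters.Clifford.isCharacter_restrict T (isIrr_isCharacter χ.2))
      have e2 : (fun t : T => χ.1 t) ∘ ιT =
          ∑ η : IrrCharacter T, ((m η : ℂ) • (η.1 ∘ ιT)) := by
        funext d
        have := congrFun hm (ιT d)
        rw [Function.comp_apply, this]
        simp only [Finset.sum_apply, Pi.smul_apply, Function.comp_apply]
      rw [e1, e2, classInner_sum_left, Finset.sum_eq_single ζ]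
      · rw [classInner_smul_left]
        have h1 : (m ζ : ℂ) = 1 := by
          rw [← hm' ζ]
          have h2 := classInner_indFun_right T ζ.1 (isIrr_isClassFunction χ.2)
          rw [← hχζ, classInner_irr_self χ.2] at h2
          exact h2.symm
        rw [h1, one_mul]
      · intro η _ hne
        rw [classInner_smul_left]
        by_contra h0
        obtain ⟨h1, h2⟩ := mul_ne_zero_iff.1 h0
        have h3 : classInner (fun l : L.subgroupOf T => η.1 l) φT.1 ≠ 0 := by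
          have h4 := over_trans iT (X := η.1 ∘ ιT)
            (isCharacter_comp ιT (isIrr_isCharacter η.2)) ξ.2 φT.2 h2 hξ
          have e3 : (fun n : L.subgroupOf T => (η.1 ∘ ιT) (iT n)) =
              fun l : L.subgroupOf T => η.1 (l : T) := by
            funext l
            rw [Function.comp_apply, hiT]
          rw [e3] at h4
          exact h4
        have h4 : χ.1 = indFun T η.1 := by
          by_contra h5
          have h6 := classInner_irr_ne χ.2 (hirrG η h3) h5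
          rw [classInner_indFun_right T η.1 (isIrr_isClassFunction χ.2)] at h6
          have h7 := hm' η
          rw [show (fun h : T => χ.1 h) = res T χ.1 from rfl, h6] at h7
          exact h1 h7.symm
        have h5 := ind_inj φ.2 hT hLT η.2 ζ.2 (by rw [← hovG]; exact h3)
          (by rw [← hovG]; exact hζ) (h4.symm.trans hχζ)
        exact hne (Subtype.ext h5)
      · intro h; exact absurd (Finset.mem_univ _) h
    unfold Cor
    rw [key]
  refine ⟨?_, ?_, ?_, ?_⟩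
  · intro χ hχ hne
    obtain ⟨ζ, hζ, hχζ⟩ := hupG χ hne
    obtain ⟨ξ, hξ, hc⟩ := A ζ ((hinv χ ζ hζ hχζ).1 hχ) hζ
    exact ⟨⟨_, hirrD ξ hξ⟩, hoverD ξ hξ, (hmult χ ζ ⟨_, hirrD ξ hξ⟩ ξ hζ hχζ hξ rfl).2 hc⟩
  · intro χ ψ ψ' hχ hne hψ hψ' hc hc'
    obtain ⟨ζ, hζ, hχζ⟩ := hupG χ hne
    obtain ⟨ξ, hξ, hψξ⟩ := hupD ψ hψ
    obtain ⟨ξ', hξ', hψξ'⟩ := hupD ψ' hψ'
    have h1 := B ζ ξ ξ' ((hinv χ ζ hζ hχζ).1 hχ) hζ hξ hξ' ((hmult χ ζ ψ ξ hζ hχζ hξ hψξ).1 hc)
      ((hmult χ ζ ψ' ξ' hζ hχζ hξ' hψξ').1 hc')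
    apply Subtype.ext
    rw [hψξ, hψξ', h1]
  · intro χ χ' ψ hχ hχ' hne hne' hψ hc hc'
    obtain ⟨ζ, hζ, hχζ⟩ := hupG χ hne
    obtain ⟨ζ', hζ', hχζ'⟩ := hupG χ' hne'
    obtain ⟨ξ, hξ, hψξ⟩ := hupD ψ hψ
    have h1 := C' ζ ζ' ξ ((hinv χ ζ hζ hχζ).1 hχ) ((hinv χ' ζ' hζ' hχζ').1 hχ') hζ hζ' hξ
      ((hmult χ ζ ψ ξ hζ hχζ hξ hψξ).1 hc) ((hmult χ' ζ' ψ ξ hζ' hχζ' hξ hψξ).1 hc')
    apply Subtype.ext
    rw [hχζ, hχζ', h1]
  · intro ψ hψ
    obtain ⟨ξ, hξ, hψξ⟩ := hupD ψ hψ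
    obtain ⟨ζ, hζi, hζ, hc⟩ := D' ξ hξ
    exact ⟨⟨_, hirrG ζ hζ⟩, (hinv ⟨_, hirrG ζ hζ⟩ ζ hζ rfl).2 hζi, hoverG ζ hζ,
      (hmult ⟨_, hirrG ζ hζ⟩ ζ ψ ξ hζ rfl hξ hψξ).2 hc⟩

theorem inertia_smul {L : Subgroup G} [hL : L.Normal] (hLS : ∀ (s : S), ∀ l ∈ L, s • l ∈ L)
    {φ : L → ℂ} (hS : ∀ (s : S) (x y : L), (y : G) = s • (x : G) → φ y = φ x) (s : S) {t : G}
    (ht : t ∈ inertia L φ) : s • t ∈ inertia L φ := by
  rw [mem_inertia'] at ht ⊢
  intro l
  have e1 := hS s ⟨t * (s⁻¹ • (l : G)) * t⁻¹, hL.conj_mem _ (hLS s⁻¹ l l.2) t⟩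
    ⟨s • t * l * (s • t)⁻¹, hL.conj_mem l l.2 _⟩ (by
      rw [smul_mul', smul_mul', smul_inv_smul, smul_inv'])
  have e2 := hS s ⟨s⁻¹ • (l : G), hLS s⁻¹ l l.2⟩ l (by rw [smul_inv_smul])
  rw [e1, e2]
  exact ht ⟨s⁻¹ • (l : G), hLS s⁻¹ l l.2⟩

/-- The action on the source of an injective homomorphism with invariant range. -/
@[instance_reducible]
noncomputable def pullAct {D : Type v} [Group D] (ι : D →* G) (hι : Function.Injective ι)
    (h : ∀ (s : S) (d : D), ∃ d', ι d' = s • ι d) : MulDistribMulAction S D where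
  smul s d := (h s d).choose
  one_smul d := hι ((h 1 d).choose_spec.trans (one_smul S (ι d)))
  mul_smul s t d := hι (by
    refine (h (s * t) d).choose_spec.trans ?_
    refine Eq.trans ?_ (h s (h t d).choose).choose_spec.symm
    rw [(h t d).choose_spec, mul_smul])
  smul_mul s x y := hι (by
    refine (h s (x * y)).choose_spec.trans ?_
    show s • ι (x * y) = ι ((h s x).choose * (h s y).choose)
    rw [map_mul, map_mul, (h s x).choose_spec, (h s y).choose_spec, smul_mul'])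
  smul_one s := hι ((h s 1).choose_spec.trans (by rw [map_one, smul_one]))

/-- Constituents over `L` of an irreducible character of `D` are conjugate. -/
theorem exists_conj_D [Fintype G] {D : Type v} [Group D] [Fintype D] (ι : D →* G)
    (hι : Function.Injective ι) (L : Subgroup G) [hL : L.Normal] [Fintype L]
    (i : L →* D) (hi : ∀ l, ι (i l) = l) (ψ : IrrCharacter D) (φ φ' : IrrCharacter L)
    (h : classInner (fun l : L => (ψ : D → ℂ) (i l)) (φ : L → ℂ) ≠ 0)
    (h' : classInner (fun l : L => (ψ : D → ℂ) (i l)) (φ' : L → ℂ) ≠ 0) :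
    ∃ d : D, ∀ l : L, φ'.1 l = φ.1 (MulAut.conjNormal (ι d) l) := by
  let ND : Subgroup D := L.comap ι
  have hND : ND.Normal := hL.comap ι
  have hfND : Fintype ND := Fintype.ofFinite ND
  let eN : L →* ND := i.codRestrict ND fun l => by
    show ι (i l) ∈ L
    rw [hi]; exact l.2
  have heN : Function.Surjective eN := by
    rintro ⟨n, hn⟩
    refine ⟨⟨ι n, hn⟩, Subtype.ext (hι ?_)⟩
    show ι (i ⟨ι n, hn⟩) = ι n
    rw [hi]
  have hsur : Function.Surjective (ι.subgroupComap L) := by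
    rintro ⟨l, hl⟩
    refine ⟨eN ⟨l, hl⟩, Subtype.ext ?_⟩
    exact hi ⟨l, hl⟩
  have hcomp : ∀ f : L → ℂ, (f ∘ (ι.subgroupComap L)) ∘ eN = f := by
    intro f
    funext l
    exact congrArg f (Subtype.ext (hi l))
  have hne : ∀ φ : IrrCharacter L, classInner (fun l : L => (ψ : D → ℂ) (i l)) (φ : L → ℂ) ≠ 0 →
      classInner (fun n : ND => (ψ : D → ℂ) n) (φ.1 ∘ (ι.subgroupComap L)) ≠ 0 := by
    intro φ h
    rw [← classInner_comp' eN heN, hcomp]
    exact h
  obtain ⟨d, hd⟩ := Cfsg.Agent.Characters.Clifford.exists_conj_of_constituents ND ψ.2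
    (isIrr_comp (ι.subgroupComap L) hsur φ.2) (isIrr_comp (ι.subgroupComap L) hsur φ'.2)
    (hne φ h) (hne φ' h')
  refine ⟨d, fun l => ?_⟩
  have h1 := congrFun hd (eN l)
  have h2 := congrFun (hcomp φ'.1) l
  rw [← h2]
  refine h1.trans ?_
  show φ.1 (ι.subgroupComap L (MulAut.conjNormal d (eN l))) = _
  refine congrArg φ.1 (Subtype.ext ?_)
  show ι ((MulAut.conjNormal d (eN l) : ND) : D) = _
  rw [MulAut.conjNormal_apply, MulAut.conjNormal_apply, map_mul, map_mul, map_inv]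
  show ι d * ι (i l) * (ι d)⁻¹ = _
  rw [hi]

/-- **The correspondence.** -/
theorem main [Fintype G] [Finite S] {D : Type v} [Group D] [Fintype D] (ι : D →* G)
    (hι : Function.Injective ι) (L K : Subgroup G) [hL : L.Normal] [hK : K.Normal]
    (hodd : Odd (Nat.card G)) (hcop : (Nat.card G).Coprime (Nat.card S))
    (hsolv : Group.IsSolvable G) (hLK : L ≤ K)
    (hLS : ∀ (s : S), ∀ l ∈ L, s • l ∈ L) (hKS : ∀ (s : S), ∀ k ∈ K, s • k ∈ K)
    (hab : ∀ a ∈ K, ∀ b ∈ K, ⁅a, b⁆ ∈ L) (hfix : ∀ g : G, (∀ s : S, s • g * g⁻¹ ∈ L) ↔ ∃ d, ι d = g)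
    (hgen : ∀ g, ∃ k ∈ K, ∃ d, g = k * ι d) :
    (∀ χ : IrrCharacter G, Inv S (χ : G → ℂ) →
      ∃! ψ : IrrCharacter D, (∀ (s : S) (d d' : D), ι d' = s • ι d → ψ.1 d' = ψ.1 d) ∧
        Cor ι 2 χ ψ) ∧
    (∀ (χ χ' : IrrCharacter G) (ψ : IrrCharacter D), Inv S (χ : G → ℂ) → Inv S (χ' : G → ℂ) →
      (∀ (s : S) (d d' : D), ι d' = s • ι d → ψ.1 d' = ψ.1 d) →
      Cor ι 2 χ ψ → Cor ι 2 χ' ψ → χ = χ') ∧
    (∀ ψ : IrrCharacter D, (∀ (s : S) (d d' : D), ι d' = s • ι d → ψ.1 d' = ψ.1 d) →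
      ∃ χ : IrrCharacter G, Inv S (χ : G → ℂ) ∧ Cor ι 2 χ ψ) := by
  classical
  have hfL : Fintype L := Fintype.ofFinite L
  have hcpL : (Nat.card L).Coprime (Nat.card S) :=
    Nat.Coprime.coprime_dvd_left (Subgroup.card_subgroup_dvd_card L) hcop
  have hsolvL : Group.IsSolvable L := by have := hsolv; infer_instance
  have hi0 : ∀ l : L, ∃ d, ι d = l := fun l =>
    (hfix l).1 fun s => L.mul_mem (hLS s l l.2) (L.inv_mem l.2)
  obtain ⟨i, hi⟩ : ∃ i : L →* D, ∀ l, ι (i l) = l := by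
    choose f hf using hi0
    exact ⟨{ toFun := f
             map_one' := hι (by rw [hf, map_one]; rfl)
             map_mul' := fun x y => hι (by rw [map_mul, hf, hf, hf]; rfl) }, hf⟩
  have hSD : ∀ (s : S) (d : D), ∃ d', ι d' = s • ι d := by
    intro s d
    rw [← hfix]
    intro t
    have h1 := (hfix (ι d)).2 ⟨d, rfl⟩
    have e1 : t • s • ι d * (s • ι d)⁻¹ = (t * s) • ι d * (ι d)⁻¹ * (s • ι d * (ι d)⁻¹)⁻¹ := by
      rw [mul_smul]; group
    rw [e1]
    exact L.mul_mem (h1 _) (L.inv_mem (h1 s))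
  let actD : MulDistribMulAction S D := pullAct ι hι hSD
  have hactD : ∀ (s : S) (d : D), ι (s • d) = s • ι d := fun s d => (hSD s d).choose_spec
  have hInvD : ∀ ψ : D → ℂ, (∀ (s : S) (d d' : D), ι d' = s • ι d → ψ d' = ψ d) ↔ Inv S ψ := by
    intro ψ
    constructor
    · intro h s d
      exact h s d _ (hactD s d)
    · intro h s d d' hd
      have : d' = s • d := hι (by rw [hactD, hd])
      rw [this]; exact h s d
  obtain ⟨e, he⟩ := exists_exp (Nat.card_pos (α := S)).ne' hcop.symm S (fun x => pow_card_eq_one')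
  let aL : S → (L ≃* L) := fun s =>
    { toFun := fun x => ⟨s • (x : G), hLS s x x.2⟩
      invFun := fun x => ⟨s⁻¹ • (x : G), hLS s⁻¹ x x.2⟩
      left_inv := fun x => Subtype.ext (inv_smul_smul s (x : G))
      right_inv := fun x => Subtype.ext (smul_inv_smul s (x : G))
      map_mul' := fun x y => Subtype.ext (smul_mul' s (x : G) (y : G)) }
  have haL : ∀ (s : S) (x : L), ((aL s x : L) : G) = s • (x : G) := fun s x => rfl
  have hiaL : ∀ (s : S) (x : L), i (aL s x) = s • i x := fun s x => hι (by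
    rw [hi, hactD, hi, haL])
  -- constituents of invariant characters of `D` are invariant
  have hcon : ∀ (ψ : IrrCharacter D) (φ : IrrCharacter L), Inv S ψ.1 →
      classInner (fun l : L => (ψ : D → ℂ) (i l)) (φ : L → ℂ) ≠ 0 →
      ∀ (s : S) (x y : L), (y : G) = s • (x : G) → (φ : L → ℂ) y = (φ : L → ℂ) x := by
    intro ψ φ hψ hne s
    apply inv_of_conj he hLS (φ : L → ℂ) s
    let φs : IrrCharacter L := twist (aL s) φ
    have h1 : classInner (fun l : L => (ψ : D → ℂ) (i l)) (φs : L → ℂ) ≠ 0 := by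
      have e1 : (fun l : L => (ψ : D → ℂ) (i l)) = (fun l : L => (ψ : D → ℂ) (i l)) ∘ aL s := by
        funext l
        show ψ.1 (i l) = ψ.1 (i (aL s l))
        rw [hiaL, hψ s]
      rw [e1]
      show classInner _ (φ.1 ∘ aL s) ≠ 0
      rw [classInner_comp_equiv]
      exact hne
    obtain ⟨d, hd⟩ := exists_conj_D ι hι L i hi ψ φ φs hne h1
    obtain ⟨l, hl, hfixl⟩ := exists_fixed_coset (S := S) L hLS hcpL hsolvL (ι d)
      ((hfix (ι d)).2 ⟨d, rfl⟩)
    refine ⟨l * ι d, hfixl, fun x y hxy => ?_⟩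
    have h2 := hd x
    have h3 : φs.1 x = φ.1 y := congrArg φ.1 (Subtype.ext (by rw [haL, hxy]))
    rw [h3] at h2
    refine h2.trans ?_
    have h4 := isIrr_isClassFunction φ.2 (MulAut.conjNormal (ι d) x) ⟨l, hl⟩
    refine h4.symm.trans ?_
    refine congrArg φ.1 (Subtype.ext ?_)
    show l * ((MulAut.conjNormal (ι d) x : L) : G) * l⁻¹ = l * ι d * x * (l * ι d)⁻¹
    rw [MulAut.conjNormal_apply]
    group
  have hexcon : ∀ ψ : IrrCharacter D, ∃ φ : IrrCharacter L,
      classInner (fun l : L => (ψ : D → ℂ) (i l)) (φ : L → ℂ) ≠ 0 := by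
    intro ψ
    exact exists_irr (isCharacter_isClassFunction (isCharacter_comp i (isIrr_isCharacter ψ.2)))
      (fun h0 => by
        have := congrFun h0 1
        rw [map_one] at this
        exact isIrr_apply_one_ne_zero ψ.2 this)
  have hne_of_cor : ∀ (χ : IrrCharacter G) (ψ : IrrCharacter D), Cor ι 2 χ ψ →
      classInner ((χ : G → ℂ) ∘ ι) (ψ : D → ℂ) ≠ 0 := by
    rintro χ ψ ⟨m, hm, hm'⟩ h0
    rw [h0] at hm
    apply hm'
    have : m = 0 := by exact_mod_cast hm.symm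
    rw [this]
    exact dvd_zero 2
  have hoverG : ∀ (χ : IrrCharacter G) (ψ : IrrCharacter D) (φ : IrrCharacter L), Cor ι 2 χ ψ →
      classInner (fun l : L => (ψ : D → ℂ) (i l)) (φ : L → ℂ) ≠ 0 →
      classInner (fun l : L => (χ : G → ℂ) l) (φ : L → ℂ) ≠ 0 := by
    intro χ ψ φ hc h
    have h1 := over_trans i (X := (χ : G → ℂ) ∘ ι) (isCharacter_comp ι (isIrr_isCharacter χ.2)) ψ.2
      φ.2 (hne_of_cor χ ψ hc) h
    have e1 : (fun n : L => ((χ : G → ℂ) ∘ ι) (i n)) = fun l : L => (χ : G → ℂ) l := by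
      funext l
      rw [Function.comp_apply, hi]
    rw [e1] at h1
    exact h1
  refine ⟨?_, ?_, ?_⟩
  · intro χ hχ
    obtain ⟨φ, hφ, hφS⟩ := exists_below L hLS hcop hsolv χ hχ
    obtain ⟨A, B, -, -⟩ := over_main ι hι L K hodd hcop hsolv hLK hLS hKS hab hfix hgen i hi φ hφS
    obtain ⟨ψ, hψ, hc⟩ := A χ hχ hφ
    refine ⟨ψ, ⟨?_, hc⟩, ?_⟩
    · show ∀ (s : S) (d d' : D), ι d' = s • ι d → ψ.1 d' = ψ.1 d
      rw [hInvD]
      intro s d
      let ψs : IrrCharacter D := twist (aut S D s) ψ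
      have h1 : classInner (fun l : L => (ψs : D → ℂ) (i l)) (φ : L → ℂ) ≠ 0 := by
        have e1 : (fun l : L => (ψs : D → ℂ) (i l)) = (fun l : L => (ψ : D → ℂ) (i l)) ∘ aL s := by
          funext l
          show ψ.1 (s • i l) = ψ.1 (i (aL s l))
          rw [hiaL]
        have e2 : φ.1 = φ.1 ∘ aL s := funext fun x => (hφS s x (aL s x) rfl).symm
        rw [e1, e2, classInner_comp_equiv]
        exact hψ
      have h2 : Cor ι 2 χ ψs := by
        obtain ⟨m, hm, hm'⟩ := hc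
        refine ⟨m, ?_, hm'⟩
        rw [← hm]
        have e1 : (χ : G → ℂ) ∘ ι = ((χ : G → ℂ) ∘ ι) ∘ (aut S D s) := by
          funext d
          show (χ : G → ℂ) (ι d) = (χ : G → ℂ) (ι (s • d))
          rw [hactD, hχ s]
        conv_lhs => rw [e1]
        exact classInner_comp_equiv (aut S D s) _ _
      have h3 := B χ ψ ψs hχ hφ hψ h1 hc h2
      have h4 := congrFun (congrArg Subtype.val h3) d
      exact h4.symm
    · rintro ψ' ⟨hψ', hc'⟩
      have hψ'' : Inv S ψ'.1 := (hInvD ψ'.1).1 hψ'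
      obtain ⟨φ', hφ'⟩ := hexcon ψ'
      have hφ'S := hcon ψ' φ' hψ'' hφ'
      have hφ'G := hoverG χ ψ' φ' hc' hφ'
      obtain ⟨g, hg⟩ := Cfsg.Agent.Characters.Clifford.exists_conj_of_constituents L χ.2 φ.2 φ'.2
        hφ hφ'G
      -- `g` may be taken in the range of `ι`
      have hgT : ∀ s : S, s • g * g⁻¹ ∈ inertia L φ.1 := by
        intro s
        rw [mem_inertia']
        intro l
        have h1 : ∀ x : L, φ.1 ⟨s • g * x * (s • g)⁻¹, hL.conj_mem x x.2 _⟩ =
            φ.1 ⟨g * x * g⁻¹, hL.conj_mem x x.2 g⟩ := by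
          intro x
          have e1 := hφS s ⟨g * (s⁻¹ • (x : G)) * g⁻¹, hL.conj_mem _ (hLS s⁻¹ x x.2) g⟩
            ⟨s • g * x * (s • g)⁻¹, hL.conj_mem x x.2 _⟩ (by
              rw [smul_mul', smul_mul', smul_inv_smul, smul_inv'])
          have e2 := hφ'S s ⟨s⁻¹ • (x : G), hLS s⁻¹ x x.2⟩ x (by rw [smul_inv_smul])
          have e3 := congrFun hg ⟨s⁻¹ • (x : G), hLS s⁻¹ x x.2⟩
          have e4 := congrFun hg x
          rw [e1]
          have e5 : φ.1 ⟨g * (s⁻¹ • (x : G)) * g⁻¹, hL.conj_mem _ (hLS s⁻¹ x x.2) g⟩ =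
              (φ.1 ∘ (MulAut.conjNormal g : MulAut L)) ⟨s⁻¹ • (x : G), hLS s⁻¹ x x.2⟩ := by
            refine congrArg φ.1 (Subtype.ext ?_)
            rw [MulAut.conjNormal_apply]
          have e6 : φ.1 ⟨g * x * g⁻¹, hL.conj_mem x x.2 g⟩ =
              (φ.1 ∘ (MulAut.conjNormal g : MulAut L)) x :=
            congrArg φ.1 (Subtype.ext (MulAut.conjNormal_apply g _).symm)
          rw [e5, e6]
          exact (e3.symm.trans e2.symm).trans e4
        have h2 := h1 ⟨g⁻¹ * l * g⁻¹⁻¹, hL.conj_mem l l.2 g⁻¹⟩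
        refine Eq.trans (congrArg φ.1 (Subtype.ext ?_)) (h2.trans (congrArg φ.1 (Subtype.ext ?_)))
        · show s • g * g⁻¹ * l * (s • g * g⁻¹)⁻¹ = s • g * (g⁻¹ * l * g⁻¹⁻¹) * (s • g)⁻¹
          group
        · show g * (g⁻¹ * l * g⁻¹⁻¹) * g⁻¹ = l
          group
      obtain ⟨t, ht, hfixt⟩ := exists_fixed_coset (S := S) (inertia L φ.1)
        (fun s t ht => inertia_smul hLS hφS s ht)
        (Nat.Coprime.coprime_dvd_left (Subgroup.card_subgroup_dvd_card _) hcop)
        (by have := hsolv; infer_instance) g hgT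
      obtain ⟨d, hd⟩ := (hfix (t * g)).1 (fun s => by
        rw [hfixt s, mul_inv_cancel]; exact L.one_mem)
      have h1 : φ'.1 = φ.1 ∘ (MulAut.conjNormal (ι d) : MulAut L) := by
        funext x
        rw [mem_inertia'] at ht
        have h2 := ht (MulAut.conjNormal g x)
        have h3 : φ'.1 x = φ.1 (MulAut.conjNormal g x) := congrFun hg x
        rw [h3, ← h2]
        refine congrArg φ.1 (Subtype.ext ?_)
        show t * ((MulAut.conjNormal g x : L) : G) * t⁻¹ = _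
        rw [MulAut.conjNormal_apply, MulAut.conjNormal_apply, hd]
        group
      have h2 : classInner (fun l : L => (ψ' : D → ℂ) (i l)) (φ : L → ℂ) ≠ 0 := by
        rw [h1] at hφ'
        have e1 : (fun l : L => (ψ' : D → ℂ) (i l)) =
            (fun l : L => (ψ' : D → ℂ) (i l)) ∘ (MulAut.conjNormal (ι d) : MulAut L) := by
          funext l
          have e2 : i (MulAut.conjNormal (ι d) l) = d * i l * d⁻¹ := hι (by
            rw [hi, MulAut.conjNormal_apply, map_mul, map_mul, map_inv, hi])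
          show ψ'.1 (i l) = ψ'.1 (i (MulAut.conjNormal (ι d) l))
          rw [e2]
          exact (isIrr_isClassFunction ψ'.2 (i l) d).symm
        rw [e1, classInner_comp_equiv] at hφ'
        exact hφ'
      exact (B χ ψ ψ' hχ hφ hψ h2 hc hc').symm
  · intro χ χ' ψ hχ hχ' hψ hc hc'
    obtain ⟨φ, hφ⟩ := hexcon ψ
    have hφS := hcon ψ φ ((hInvD ψ.1).1 hψ) hφ
    obtain ⟨-, -, C', -⟩ := over_main ι hι L K hodd hcop hsolv hLK hLS hKS hab hfix hgen i hi φ hφS
    exact C' χ χ' ψ hχ hχ' (hoverG χ ψ φ hc hφ) (hoverG χ' ψ φ hc' hφ) hφ hc hc'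
  · intro ψ hψ
    obtain ⟨φ, hφ⟩ := hexcon ψ
    have hφS := hcon ψ φ ((hInvD ψ.1).1 hψ) hφ
    obtain ⟨-, -, -, D'⟩ := over_main ι hι L K hodd hcop hsolv hLK hLS hKS hab hfix hgen i hi φ hφS
    obtain ⟨χ, hχ, -, hc⟩ := D' ψ hφ
    exact ⟨χ, hχ, hc⟩

end Cfsg.Agent.H596.OddMain
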