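import Cfsg.Agent.H596.OneCtx
import Cfsg.Agent.H304.CIHered
import Cfsg.Agent.S0261

/-!
# The four-group in `PSL(2,F)`, `F` of odd order (helper596, for S4764)

* `klein_cond` : an element `t` of `SL(2,F)`, `t ^ 2 = -1`, normalizes no or exactly two Sylow
  `p`-subgroups, and in the last case some element commuting with `t` modulo `-1` exchanges them;
* `Ctx.caseD_PSL_odd` : `G ⧸ N = PSL(2,F)`, `N` a `p`-group: impossible for `F` of odd order.
-/

set_option autoImplicit false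

open Cfsg

namespace Cfsg.Agent.H596.OneKlein

open Matrix Cfsg.Agent.LieClassical.SLTwoUnipotent
open Cfsg.Agent.H596.OneSing Cfsg.Agent.H596.OnePart Cfsg.Agent.H596.OneL2 Cfsg.Agent.H670.PSing
  Cfsg.Agent.H596.OneCtx

universe u

section SL

variable {F : Type*} [Field F] [Fintype F] {p : ℕ} [Fact p.Prime] [CharP F p]

/-- The diagonal matrix with entries `α`, `-α`. -/
def dg (α : F) (h : α * α = -1) : SpecialLinearGroup (Fin 2) F :=
  ⟨!![α, 0; 0, -α], by rw [det_fin_two_of]; linear_combination -h⟩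

/-- The Weyl element. -/
def wg : SpecialLinearGroup (Fin 2) F := ⟨!![0, 1; -1, 0], by rw [det_fin_two_of]; ring⟩

omit [Fintype F] in
theorem coe_dg (α : F) (h : α * α = -1) :
    ((dg α h : SpecialLinearGroup (Fin 2) F) : Matrix (Fin 2) (Fin 2) F) = !![α, 0; 0, -α] := rfl

omit [Fintype F] in
theorem coe_wg : ((wg : SpecialLinearGroup (Fin 2) F) : Matrix (Fin 2) (Fin 2) F) =
    !![0, 1; -1, 0] := rfl

omit [Fintype F] in
theorem wg_mul_dg (α : F) (h : α * α = -1) : wg * dg α h = -(dg α h * wg) := by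
  apply ext_coe
  rw [coe_mul, SpecialLinearGroup.coe_neg, coe_mul, coe_wg, coe_dg]
  ext i j
  fin_cases i <;> fin_cases j <;> simp [Matrix.mul_apply, Fin.sum_univ_two]

omit [Fintype F] in
theorem wg_mul_wg : (wg : SpecialLinearGroup (Fin 2) F) * wg = -1 := by
  apply ext_coe
  show (!![0, 1; -1, 0] * !![0, 1; -1, 0] : Matrix (Fin 2) (Fin 2) F) = -(1 : Matrix (Fin 2) (Fin 2) F)
  ext i j
  fin_cases i <;> fin_cases j <;> simp [Matrix.mul_apply, Fin.sum_univ_two]

omit [Fintype F] in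
theorem neg_eq (x : SpecialLinearGroup (Fin 2) F) : -x = -1 * x := by
  apply ext_coe
  show -(x : Matrix (Fin 2) (Fin 2) F) = -(1 : Matrix (Fin 2) (Fin 2) F) * x
  rw [neg_mul, one_mul]

omit [Fintype F] in
theorem mul_neg_mul (a x b : SpecialLinearGroup (Fin 2) F) : a * (-x) * b = -(a * x * b) := by
  apply ext_coe
  show (a : Matrix (Fin 2) (Fin 2) F) * (-(x : Matrix (Fin 2) (Fin 2) F)) * b =
    -((a : Matrix (Fin 2) (Fin 2) F) * x * b)
  rw [mul_neg, neg_mul]

omit [Fintype F] in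
theorem neg_one_conj (x : SpecialLinearGroup (Fin 2) F) : -1 * x * (-1)⁻¹ = x := by
  have h : (-1 : SpecialLinearGroup (Fin 2) F) * x = x * -1 := by
    apply ext_coe
    show -(1 : Matrix (Fin 2) (Fin 2) F) * x = (x : Matrix (Fin 2) (Fin 2) F) * -(1 : Matrix (Fin 2) (Fin 2) F)
    rw [neg_mul, one_mul, mul_neg, mul_one]
  rw [h, mul_inv_cancel_right]

theorem neg_one_smul (Q : Sylow p (SpecialLinearGroup (Fin 2) F)) :
    (-1 : SpecialLinearGroup (Fin 2) F) • Q = Q := by
  apply Sylow.ext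
  rw [Sylow.coe_subgroup_smul]
  ext x
  constructor
  · rintro ⟨y, hy, rfl⟩
    have h : (-1 : SpecialLinearGroup (Fin 2) F) * y * (-1)⁻¹ = y := by
      rw [neg_one_conj]
    show (-1 : SpecialLinearGroup (Fin 2) F) * y * (-1)⁻¹ ∈ _
    rw [h]; exact hy
  · intro hx
    refine ⟨x, hx, ?_⟩
    exact neg_one_conj x

omit [Fintype F] in
theorem coe_inv (c : SpecialLinearGroup (Fin 2) F) :
    ((c⁻¹ : SpecialLinearGroup (Fin 2) F) : Matrix (Fin 2) (Fin 2) F) =
      !![c 1 1, -c 0 1; -c 1 0, c 0 0] := by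
  rw [SpecialLinearGroup.SL2_inv_expl]
  rfl

theorem dg_smul (h2 : (2 : F) ≠ 0) (α : F) (h : α * α = -1)
    (Q : Sylow p (SpecialLinearGroup (Fin 2) F)) (hQ : dg α h • Q = Q) :
    Q = upperUnipSylowSL F p ∨
      Q = (wg : SpecialLinearGroup (Fin 2) F) • upperUnipSylowSL F p := by
  have hα : α ≠ 0 := by
    rintro rfl
    rw [mul_zero] at h
    exact (neg_ne_zero.2 one_ne_zero) h.symm
  obtain ⟨c, rfl⟩ := exists_smul_upperUnipSylowSL_eq p Q
  have h1 : (c⁻¹ * dg α h * c) • upperUnipSylowSL F p = upperUnipSylowSL F p := by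
    rw [mul_smul, mul_smul, hQ, inv_smul_smul]
  rw [smul_upperUnipSylowSL_eq_self_iff] at h1
  have h3 : c 0 0 * c 1 0 = 0 := by
    have h4 : (c⁻¹ * dg α h * c) 1 0 = -(2 * α) * (c 0 0 * c 1 0) := by
      show ((c⁻¹ * dg α h * c : SpecialLinearGroup (Fin 2) F) : Matrix (Fin 2) (Fin 2) F) 1 0 = _
      rw [coe_mul, coe_mul, coe_inv, coe_dg]
      simp [Matrix.mul_apply, Fin.sum_univ_two]
      ring
    rw [h4] at h1
    exact (mul_eq_zero.1 h1).resolve_left (neg_ne_zero.2 (mul_ne_zero h2 hα))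
  rcases mul_eq_zero.1 h3 with h4 | h4
  · right
    have h5 : (wg⁻¹ * c) • upperUnipSylowSL F p = upperUnipSylowSL F p := by
      rw [smul_upperUnipSylowSL_eq_self_iff]
      show ((wg⁻¹ * c : SpecialLinearGroup (Fin 2) F) : Matrix (Fin 2) (Fin 2) F) 1 0 = _
      have h6 : ((wg⁻¹ : SpecialLinearGroup (Fin 2) F) : Matrix (Fin 2) (Fin 2) F) =
          !![0, -1; 1, 0] := by
        rw [coe_inv]
        ext i j
        fin_cases i <;> fin_cases j <;> simp [wg]
      rw [coe_mul, h6]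
      simp [Matrix.mul_apply, Fin.sum_univ_two, h4]
    calc c • upperUnipSylowSL F p = wg • ((wg⁻¹ * c) • upperUnipSylowSL F p) := by
          rw [smul_smul, mul_inv_cancel_left]
      _ = _ := by rw [h5]
  · left
    exact (smul_upperUnipSylowSL_eq_self_iff p).2 h4

/-- The elements of square `-1` and the Sylow subgroups. -/
theorem klein_SL (h2 : (2 : F) ≠ 0) (t : SpecialLinearGroup (Fin 2) F) (ht : t * t = -1) :
    (∀ Q : Sylow p (SpecialLinearGroup (Fin 2) F), t • Q ≠ Q) ∨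
      ∃ (Q₁ Q₂ : Sylow p (SpecialLinearGroup (Fin 2) F)) (w : SpecialLinearGroup (Fin 2) F),
        Q₁ ≠ Q₂ ∧ (∀ Q, t • Q = Q → Q = Q₁ ∨ Q = Q₂) ∧ w * t = -(t * w) ∧ w • Q₁ = Q₂ ∧
          w • Q₂ = Q₁ := by
  by_cases h0 : ∀ Q : Sylow p (SpecialLinearGroup (Fin 2) F), t • Q ≠ Q
  · exact Or.inl h0
  right
  push Not at h0
  obtain ⟨Q, hQ⟩ := h0
  obtain ⟨c, rfl⟩ := exists_smul_upperUnipSylowSL_eq p Q
  obtain ⟨s, hs⟩ : ∃ s, s = c⁻¹ * t * c := ⟨_, rfl⟩
  have h1 : s • upperUnipSylowSL F p = upperUnipSylowSL F p := by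
    rw [hs, mul_smul, mul_smul, hQ, inv_smul_smul]
  rw [smul_upperUnipSylowSL_eq_self_iff] at h1
  have hss : s * s = -1 := by
    have h3 : s * s = c⁻¹ * (t * t) * c := by rw [hs]; group
    rw [h3, ht, mul_neg_mul, mul_one, inv_mul_cancel]
  have hmat : (s : Matrix (Fin 2) (Fin 2) F) * s = -1 := by
    rw [← coe_mul, hss]
    rfl
  have h00 := congrFun (congrFun hmat 0) 0
  have hdet : s 0 0 * s 1 1 - s 0 1 * s 1 0 = 1 := by
    have := s.2
    rw [det_fin_two] at this
    exact this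
  simp only [Matrix.mul_apply, Fin.sum_univ_two, Matrix.neg_apply, Matrix.one_apply_eq] at h00
  have h1' : (s : Matrix (Fin 2) (Fin 2) F) 1 0 = 0 := h1
  rw [h1'] at h00 hdet
  rw [mul_zero, add_zero] at h00
  rw [mul_zero, sub_zero] at hdet
  set α : F := s 0 0 with hαd
  have hα : α ≠ 0 := by
    intro h3
    rw [h3, zero_mul] at hdet
    exact zero_ne_one hdet
  have h11 : (s : Matrix (Fin 2) (Fin 2) F) 1 1 = -α := by
    have h3 : α * ((s : Matrix (Fin 2) (Fin 2) F) 1 1 + α) = 0 := by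
      rw [mul_add, hdet, h00]; ring
    exact eq_neg_of_add_eq_zero_left ((mul_eq_zero.1 h3).resolve_left hα)
  -- diagonalize
  set x : F := -(s 0 1) / (2 * α) with hx
  have hconj : s * u x = u x * dg α h00 := by
    apply ext_coe
    rw [coe_mul, coe_mul, coe_u, coe_dg]
    have hs' : (s : Matrix (Fin 2) (Fin 2) F) = !![α, s 0 1; 0, -α] := by
      ext i j
      fin_cases i <;> fin_cases j
      · rfl
      · rfl
      · exact h1'
      · exact h11
    rw [hs']
    ext i j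
    fin_cases i <;> fin_cases j <;> simp [Matrix.mul_apply, Fin.sum_univ_two]
    rw [hx]
    field_simp
    ring
  set c' := c * u x with hc'
  have htc : t = c' * dg α h00 * c'⁻¹ := by
    have h3 : t * c' = c' * dg α h00 := by
      calc t * c' = c * (s * u x) := by rw [hc', hs]; group
        _ = c' * dg α h00 := by rw [hconj, hc', mul_assoc]
    rw [← h3]; group
  have hne : upperUnipSylowSL F p ≠
      (wg : SpecialLinearGroup (Fin 2) F) • upperUnipSylowSL F p := by
    intro h3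
    have h4 : (wg : SpecialLinearGroup (Fin 2) F) 1 0 = 0 :=
      (smul_upperUnipSylowSL_eq_self_iff p).1 h3.symm
    have h5 : (-1 : F) = 0 := h4
    exact (neg_ne_zero.2 one_ne_zero) h5
  refine ⟨c' • upperUnipSylowSL F p,
    c' • ((wg : SpecialLinearGroup (Fin 2) F) • upperUnipSylowSL F p), c' * wg * c'⁻¹, ?_, ?_, ?_,
    ?_, ?_⟩
  · intro h3
    exact hne (smul_left_cancel _ h3)
  · intro Q hQ
    rw [htc] at hQ
    have h3 : dg α h00 • (c'⁻¹ • Q) = c'⁻¹ • Q := by
      have h4 := congrArg (fun R => c'⁻¹ • R) hQ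
      simpa only [smul_smul, mul_assoc, inv_mul_cancel_left] using h4
    rcases dg_smul h2 α h00 _ h3 with h4 | h4
    · left; rw [← h4, smul_inv_smul]
    · right; rw [← h4, smul_inv_smul]
  · rw [htc]
    have h3 : c' * wg * c'⁻¹ * (c' * dg α h00 * c'⁻¹) = c' * (wg * dg α h00) * c'⁻¹ := by group
    have h4 : c' * dg α h00 * c'⁻¹ * (c' * wg * c'⁻¹) = c' * (dg α h00 * wg) * c'⁻¹ := by group
    rw [h3, h4, wg_mul_dg, mul_neg_mul]
  · rw [smul_smul, smul_smul]
    congr 1
    group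
  · rw [smul_smul, smul_smul]
    have h3 : c' * wg * c'⁻¹ * c' * wg = c' * (wg * wg) := by group
    rw [h3, wg_mul_wg, mul_smul, neg_one_smul]

/-- The same in a quotient. -/
theorem klein_quot {X : Type*} [Group X] [Finite X] (f : SpecialLinearGroup (Fin 2) F →* X)
    (hf : Function.Surjective f) (hX : Nat.card (Sylow p X) = Fintype.card F + 1)
    (hneg : f (-1) = 1) (h2 : (2 : F) ≠ 0) (t : SpecialLinearGroup (Fin 2) F) (ht : t * t = -1) :
    (∀ Q : Sylow p X, f t • Q ≠ Q) ∨ ∃ (Q₁ Q₂ : Sylow p X) (w : X),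
        Q₁ ≠ Q₂ ∧ (∀ Q, f t • Q = Q → Q = Q₁ ∨ Q = Q₂) ∧ w * f t = f t * w ∧ w • Q₁ = Q₂ ∧
          w • Q₂ = Q₁ := by
  classical
  have hinj : Function.Injective (fun Q : Sylow p (SpecialLinearGroup (Fin 2) F) =>
      Q.mapSurjective hf) := by
    have : Fintype (Sylow p (SpecialLinearGroup (Fin 2) F)) := Fintype.ofFinite _
    exact ((Nat.bijective_iff_surjective_and_card _).2 ⟨Sylow.mapSurjective_surjective hf p, by
      rw [hX, ll_SL.card]⟩).1
  have hsm : ∀ (c : SpecialLinearGroup (Fin 2) F) (Q : Sylow p (SpecialLinearGroup (Fin 2) F)),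
      f c • (Q.mapSurjective hf : Sylow p X) = (c • Q).mapSurjective hf := fun c Q =>
    (H304.CIHered.map_smul_eq hf Q c).symm
  rcases klein_SL (p := p) h2 t ht with h | ⟨Q₁, Q₂, w, hne, hfix, hcomm, hw1, hw2⟩
  · left
    intro Q hQ
    obtain ⟨Q, rfl⟩ := Sylow.mapSurjective_surjective hf p Q
    rw [hsm] at hQ
    exact h Q (hinj hQ)
  · right
    refine ⟨Q₁.mapSurjective hf, Q₂.mapSurjective hf, f w, fun h => hne (hinj h), ?_, ?_, ?_, ?_⟩
    · intro Q hQ
      obtain ⟨Q, rfl⟩ := Sylow.mapSurjective_surjective hf p Q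
      rw [hsm] at hQ
      rcases hfix Q (hinj hQ) with h | h
      · left; rw [h]
      · right; rw [h]
    · rw [← map_mul, ← map_mul, hcomm]
      rw [neg_eq, map_mul, hneg, one_mul]
    · rw [hsm, hw1]
    · rw [hsm, hw2]

omit [Fintype F] in
theorem neg_one_eq : ((-1 : SpecialLinearGroup (Fin 2) F) : Matrix (Fin 2) (Fin 2) F) = -1 := rfl

/-- The second generator of the four-group. -/
def vg (a b : F) (h : a ^ 2 + b ^ 2 = -1) : SpecialLinearGroup (Fin 2) F :=
  ⟨!![a, b; b, -a], by rw [det_fin_two_of]; linear_combination -h⟩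

omit [Fintype F] in
theorem vg_mul_vg (a b : F) (h : a ^ 2 + b ^ 2 = -1) : vg a b h * vg a b h = -1 := by
  apply ext_coe
  show (!![a, b; b, -a] * !![a, b; b, -a] : Matrix (Fin 2) (Fin 2) F) = -(1 : Matrix (Fin 2) (Fin 2) F)
  ext i j
  fin_cases i <;> fin_cases j <;> simp [Matrix.mul_apply, Fin.sum_univ_two]
  · linear_combination h
  · ring
  · ring
  · linear_combination h

omit [Fintype F] in
theorem wv_mul_wv (a b : F) (h : a ^ 2 + b ^ 2 = -1) :
    wg * vg a b h * (wg * vg a b h) = -1 := by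
  apply ext_coe
  show (!![0, 1; -1, 0] * !![a, b; b, -a] * (!![0, 1; -1, 0] * !![a, b; b, -a]) :
    Matrix (Fin 2) (Fin 2) F) = -(1 : Matrix (Fin 2) (Fin 2) F)
  ext i j
  fin_cases i <;> fin_cases j <;> simp [Matrix.mul_apply, Fin.sum_univ_two]
  · linear_combination h
  · ring
  · ring
  · linear_combination h

end SL

/-- A quotient of `SL(2,F)`, `F` of odd order, by a subgroup containing `-1`, with `|F| + 1` Sylow
`p`-subgroups, does not act on a nontrivial abelian group in such a way that every nontrivial element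
is fixed by exactly one Sylow `p`-subgroup. -/
theorem trivial_of_odd {F : Type*} [Field F] [Fintype F] {p : ℕ} [Fact p.Prime] [CharP F p]
    {X A : Type*} [Group X] [Finite X] [CommGroup A] (ρ : X →* MulAut A)
    (f : SpecialLinearGroup (Fin 2) F →* X) (hf : Function.Surjective f)
    (hX : Nat.card (Sylow p X) = Fintype.card F + 1) (hneg : f (-1) = 1) (hodd : Odd (Fintype.card F))
    (h : ∀ a : A, a ≠ 1 → ∃! Q : Sylow p X, (Q : Subgroup X) ≤ St ρ a) (a : A) : a = 1 := by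
  have h2 : (2 : F) ≠ 0 := by
    intro h0
    have h1 : ringChar F = 2 := by
      have := ringChar.dvd (R := F) (x := 2) (by exact_mod_cast h0)
      rcases (Nat.dvd_prime Nat.prime_two).1 this with h3 | h3
      · exact absurd h3 (CharP.ringChar_ne_one)
      · exact h3
    have := FiniteField.even_card_iff_char_two.1 h1
    rw [Nat.odd_iff] at hodd
    omega
  obtain ⟨x, y, hxy⟩ := S0261.exists_sq_add_sq hodd
  have key : ∀ t : SpecialLinearGroup (Fin 2) F, t * t = -1 → ∀ b : A, ρ (f t) b = b → b = 1 :=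
    fun t ht b hb => fix_trivial ρ h (f t) (klein_quot f hf hX hneg h2 t ht) hb
  have sq : ∀ t : SpecialLinearGroup (Fin 2) F, t * t = -1 → ∀ b : A, ρ (f t) (ρ (f t) b) = b := by
    intro t ht b
    rw [← MulAut.mul_apply, ← map_mul, ← map_mul, ht, hneg, map_one]
    rfl
  refine eq_one_of_klein ρ (f wg) (f (vg x y hxy)) (sq _ wg_mul_wg) (sq _ (vg_mul_vg x y hxy))
    (key _ wg_mul_wg) (key _ (vg_mul_vg x y hxy)) ?_ a
  intro b hb
  rw [← map_mul] at hb
  exact key _ (wv_mul_wv x y hxy) b hb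

section caseD

variable {p : ℕ} {G : Type u} [Group G] [Finite G] {N : Subgroup G}

/-- Case D: the partition. -/
theorem partD [hp : Fact p.Prime] (h : Ctx p p N) [N.Normal] (hIM : AllIM.{u} p)
    (b : N →* ℂˣ) (hb : b ≠ 1) :
    ∃! Q : Sylow p (G ⧸ N), (Q : Subgroup (G ⧸ N)) ≤ St (act N h.comm) b := by
  obtain ⟨F, hF⟩ := ext_of_pgroup N h.pgr h.prm hb
  exact (unique_of_ext N h.comm h.prm (fun T => hIM T) hb F hF).1

theorem caseD_card [hp : Fact p.Prime] (h : Ctx p p N) [N.Normal] (hIM : AllIM.{u} p) {a : ℕ}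
    (ha : 0 < a) (hL : LL p (p ^ a) (G ⧸ N)) : Nat.card N = (p ^ a) ^ 2 := by
  have := finite_hom h.comm
  obtain ⟨m, hm, hcard⟩ := h.card
  have hA : Nat.card (N →* ℂˣ) = p ^ m := by rw [card_hom h.comm, hcard]
  rcases hL.arith ha (act N h.comm) hp.out hm hA
    (fun b hb => exists_sylow_le N h.comm h.prm hb) with ⟨b, hb, hfix⟩ | h1
  · exfalso
    obtain ⟨Q, -, hQ⟩ := partD h hIM b hb
    have h1 : Nat.card (Sylow p (G ⧸ N)) = 1 := by
      rw [Nat.card_eq_one_iff_unique]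
      refine ⟨⟨fun P R => ?_⟩, inferInstance⟩
      rw [hQ P (by show (P : Subgroup (G ⧸ N)) ≤ _; rw [hfix]; exact le_top),
        hQ R (by show (R : Subgroup (G ⧸ N)) ≤ _; rw [hfix]; exact le_top)]
    rw [hL.card] at h1
    have := pow_pos hp.out.pos a
    omega
  · rw [hcard, h1.2]

/-- Case D, `G ⧸ N = PSL(2,F)`, `F` of odd order: impossible. -/
theorem caseD_PSL_odd [hp : Fact p.Prime] (h : Ctx p p N) [N.Normal] (hIM : AllIM.{u} p)
    {F : Type} [Field F] [Fintype F] [CharP F p] (hodd : Odd (Fintype.card F))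
    (e : G ⧸ N ≃* Matrix.ProjectiveSpecialLinearGroup (Fin 2) F) : False := by
  let f : SpecialLinearGroup (Fin 2) F →* G ⧸ N := e.symm.toMonoidHom.comp (QuotientGroup.mk' _)
  have hf : Function.Surjective f := e.symm.surjective.comp (QuotientGroup.mk'_surjective _)
  have hL : LL p (Fintype.card F) (G ⧸ N) := (ll_PSL (F := F) (p := p)).of_equiv e.symm
  have hneg : f (-1) = 1 := by
    show e.symm (QuotientGroup.mk' _ (-1)) = 1
    rw [map_eq_one_iff _ e.symm.injective]
    apply (QuotientGroup.eq_one_iff _).2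
    rw [Subgroup.mem_center_iff]
    intro g
    have h1 := neg_one_conj g
    rw [mul_inv_eq_iff_eq_mul] at h1
    exact h1.symm
  have h1 := trivial_of_odd (A := N →* ℂˣ) (act N h.comm) f hf hL.card hneg hodd (partD h hIM)
  obtain ⟨m, hm, hcard⟩ := h.card
  have h2 : Nat.card (N →* ℂˣ) = 1 := Nat.card_eq_one_iff_unique.2 ⟨⟨fun a b => by rw [h1 a, h1 b]⟩, ⟨1⟩⟩
  rw [card_hom h.comm] at h2
  exact h.ne (Subgroup.card_eq_one.1 h2)

end caseD

end Cfsg.Agent.H596.OneKlein
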