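import Cfsg.Agent.H596.OneNonab
import Cfsg.Agent.H596.OneKlein
import Cfsg.Agent.S0157
import Cfsg.Agent.S0856

/-!
# Almost simple groups with one character of degree divisible by `p`, `PSL(2,F)` (helper596, for S4764)

* `two_trans_SL` : `SL(2,F)` is 2-transitive on its Sylow `p`-subgroups;
* `gallagher_ne` : `β * χ ≠ χ`;
* `defL2_top` : `N = PSL(2,F)` normal in `G`, at most one irreducible character of degree divisible by `p`:
  `N = G`.
-/

set_option autoImplicit false

open Cfsg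

namespace Cfsg.Agent.H596.OneAS

open Cfsg.Agent.Characters.Core Cfsg.Agent.OddOrderCharacters.IndRes Cfsg.Agent.Blocks.Knorr
open Cfsg.Agent.H596.OneSing Cfsg.Agent.H670.PSing Cfsg.Agent.H596.OneL2 Cfsg.Agent.H596.OneNonab
open Cfsg.Agent.LieClassical.SLTwoUnipotent Cfsg.Agent.H596.OneKlein

universe u

section SL

variable {F : Type*} [Field F] [Fintype F] {p : ℕ} [Fact p.Prime] [CharP F p]

open Matrix

/-- A pair of distinct Sylow subgroups of `SL(2,F)` is conjugate to the standard one. -/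
theorem exists_pair (P Q : Sylow p (SpecialLinearGroup (Fin 2) F)) (hPQ : P ≠ Q) :
    ∃ c : SpecialLinearGroup (Fin 2) F, c • upperUnipSylowSL F p = P ∧
      c • ((wg : SpecialLinearGroup (Fin 2) F) • upperUnipSylowSL F p) = Q := by
  obtain ⟨a, rfl⟩ := exists_smul_upperUnipSylowSL_eq p P
  obtain ⟨b, rfl⟩ := exists_smul_upperUnipSylowSL_eq p Q
  obtain ⟨d, hd⟩ : ∃ d, d = a⁻¹ * b := ⟨_, rfl⟩
  have hb : b = a * d := by rw [hd]; group
  have hd10 : (d : Matrix (Fin 2) (Fin 2) F) 1 0 ≠ 0 := by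
    intro h
    apply hPQ
    rw [hb, mul_smul, (smul_upperUnipSylowSL_eq_self_iff p).2 h]
  obtain ⟨x, hx⟩ : ∃ x, x = (d : Matrix (Fin 2) (Fin 2) F) 0 0 / (d : Matrix (Fin 2) (Fin 2) F) 1 0 :=
    ⟨_, rfl⟩
  have hux : u x • upperUnipSylowSL F p = upperUnipSylowSL F p := by
    rw [smul_upperUnipSylowSL_eq_self_iff]
    show ((u x : SpecialLinearGroup (Fin 2) F) : Matrix (Fin 2) (Fin 2) F) 1 0 = 0
    rw [coe_u]
    simp
  refine ⟨a * u x, ?_, ?_⟩
  · rw [mul_smul, hux]
  · have h1 : (wg⁻¹ * (u x)⁻¹ * d) • upperUnipSylowSL F p = upperUnipSylowSL F p := by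
      rw [smul_upperUnipSylowSL_eq_self_iff]
      have h6 : ((wg⁻¹ : SpecialLinearGroup (Fin 2) F) : Matrix (Fin 2) (Fin 2) F) =
          !![0, -1; 1, 0] := by
        rw [OneKlein.coe_inv]
        ext i j
        fin_cases i <;> fin_cases j <;> simp [wg]
      show ((wg⁻¹ * (u x)⁻¹ * d : SpecialLinearGroup (Fin 2) F) : Matrix (Fin 2) (Fin 2) F) 1 0 = 0
      rw [← u_neg, coe_mul, coe_mul, h6, coe_u]
      simp [Matrix.mul_apply, Fin.sum_univ_two]
      rw [hx]
      field_simp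
      ring
    calc (a * u x) • (wg • upperUnipSylowSL F p)
        = (a * u x) • (wg • ((wg⁻¹ * (u x)⁻¹ * d) • upperUnipSylowSL F p)) := by rw [h1]
      _ = b • upperUnipSylowSL F p := by
        rw [smul_smul, smul_smul]
        congr 1
        rw [hb]; group

/-- `SL(2,F)` is 2-transitive on its Sylow `p`-subgroups. -/
theorem two_trans_SL (P Q P' Q' : Sylow p (SpecialLinearGroup (Fin 2) F)) (hPQ : P ≠ Q)
    (hPQ' : P' ≠ Q') : ∃ c : SpecialLinearGroup (Fin 2) F, c • P = P' ∧ c • Q = Q' := by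
  obtain ⟨c, hc1, hc2⟩ := exists_pair P Q hPQ
  obtain ⟨d, hd1, hd2⟩ := exists_pair P' Q' hPQ'
  refine ⟨d * c⁻¹, ?_, ?_⟩
  · rw [← hc1, mul_smul, inv_smul_smul, hd1]
  · rw [← hc2, mul_smul, inv_smul_smul, hd2]

end SL

section

variable {p : ℕ} {X Y : Type*} [Group X] [Group Y]

/-- 2-transitivity on the Sylow subgroups passes to quotients. -/
theorem two_trans_of_surjective [Finite X] [Fact p.Prime] (f : X →* Y) (hf : Function.Surjective f)
    (h : ∀ P Q P' Q' : Sylow p X, P ≠ Q → P' ≠ Q' → ∃ c : X, c • P = P' ∧ c • Q = Q') :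
    ∀ P Q P' Q' : Sylow p Y, P ≠ Q → P' ≠ Q' → ∃ c : Y, c • P = P' ∧ c • Q = Q' := by
  intro P Q P' Q' hPQ hPQ'
  obtain ⟨P, rfl⟩ := Sylow.mapSurjective_surjective hf p P
  obtain ⟨Q, rfl⟩ := Sylow.mapSurjective_surjective hf p Q
  obtain ⟨P', rfl⟩ := Sylow.mapSurjective_surjective hf p P'
  obtain ⟨Q', rfl⟩ := Sylow.mapSurjective_surjective hf p Q'
  obtain ⟨c, hc1, hc2⟩ := h P Q P' Q' (fun h => hPQ (by rw [h])) (fun h => hPQ' (by rw [h]))
  have key : ∀ (c : X) (P : Sylow p X), f c • P.mapSurjective hf = (c • P).mapSurjective hf := by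
    intro c P
    apply Sylow.ext
    rw [Sylow.coe_subgroup_smul, Sylow.coe_mapSurjective, Sylow.coe_mapSurjective,
      Sylow.coe_subgroup_smul]
    ext y
    constructor
    · rintro ⟨_, ⟨x, hx, rfl⟩, rfl⟩
      refine ⟨c * x * c⁻¹, ⟨x, hx, rfl⟩, ?_⟩
      rw [map_mul, map_mul, map_inv]
      rfl
    · rintro ⟨_, ⟨x, hx, rfl⟩, rfl⟩
      refine ⟨f x, ⟨x, hx, rfl⟩, ?_⟩
      show f c * f x * (f c)⁻¹ = f (c * x * c⁻¹)
      rw [map_mul, map_mul, map_inv]
  exact ⟨f c, by rw [key, hc1], by rw [key, hc2]⟩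

end

variable {G : Type u} [Group G] [Finite G]

/-- **Gallagher**: multiplication by a character of the quotient. -/
theorem gallagher_ne (N : Subgroup G) [hN : N.Normal] {χ β : G → ℂ} (hχ : IsIrrCharacter G χ)
    (hχN : IsIrrCharacter N (fun n : N => χ n)) (hβ : IsIrrCharacter G β)
    (hβN : ∀ k ∈ N, β k = β 1) (hβ1 : β ≠ 1) : β * χ ≠ χ := by
  have : Fintype G := Fintype.ofFinite G
  have : Fintype N := Fintype.ofFinite N
  have hinv : ∀ (g : G) (n : N), χ (g * n * g⁻¹) = χ n := fun g n => isIrr_isClassFunction hχ n g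
  have hBij := S0856.result N (1 : N → ℂ) (fun n : N => χ n) isIrr_one hχN (fun _ _ => rfl)
    (fun g n => hinv g n) (by rw [one_mul]; exact hχN) χ hχ (fun _ => rfl)
  intro h
  apply hβ1
  have hmem : ∀ γ : G → ℂ, IsIrrCharacter G γ → (∀ k ∈ N, γ k = γ 1) →
      γ ∈ {β : G → ℂ | IsIrrCharacter G β ∧ classInner (indFun N (1 : N → ℂ)) β ≠ 0} := by
    intro γ hγ hγN
    refine ⟨hγ, ?_⟩
    rw [classInner_res_symm N (isIrr_isCharacter isIrr_one) (isIrr_isCharacter hγ)]
    have h1 : res N γ = γ 1 • (1 : N → ℂ) := by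
      funext n
      rw [Pi.smul_apply, Pi.one_apply, smul_eq_mul, mul_one]
      exact hγN n n.2
    rw [h1, classInner_smul_left, classInner_irr_self (isIrr_one (G := N)), mul_one]
    exact isIrr_apply_one_ne_zero hγ
  exact hBij.injOn (hmem β hβ hβN) (hmem 1 isIrr_one (fun _ _ => rfl)) (by
    show β * χ = 1 * χ
    rw [one_mul]; exact h)

/-- A subgroup acting 2-transitively. -/
theorem ext_of_two_trans (N : Subgroup G) (Y : Type*) [MulAction G Y] [Finite Y] (h2 : 2 ≤ Nat.card Y)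
    (h : ∀ a b c d : Y, a ≠ b → c ≠ d → ∃ n ∈ N, n • a = c ∧ n • b = d) :
    IsIrrCharacter G (fun g => (Nat.card (MulAction.fixedBy Y g) : ℂ) - 1) ∧
      IsIrrCharacter N (fun n : N => (Nat.card (MulAction.fixedBy Y (n : G)) : ℂ) - 1) := by
  have hmN : MulAction.IsMultiplyPretransitive N Y 2 := by
    rw [MulAction.is_two_pretransitive_iff]
    intro a b c d h1 h1'
    obtain ⟨n, hn, e1, e2⟩ := h a b c d h1 h1'
    exact ⟨⟨n, hn⟩, e1, e2⟩
  have hmG : MulAction.IsMultiplyPretransitive G Y 2 := by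
    rw [MulAction.is_two_pretransitive_iff]
    intro a b c d h1 h1'
    obtain ⟨n, hn, e1, e2⟩ := h a b c d h1 h1'
    exact ⟨n, e1, e2⟩
  have htN : MulAction.IsPretransitive N Y := MulAction.isPretransitive_of_is_two_pretransitive
  have htG : MulAction.IsPretransitive G Y := MulAction.isPretransitive_of_is_two_pretransitive
  exact ⟨(S0157.result (G := G) Y h2).2 hmG, (S0157.result (G := N) Y h2).2 hmN⟩

/-- A 2-transitive action of `G`, 2-transitive on `N`, of degree `q + 1`, `p ∣ q`. -/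
theorem top_of_two_trans {p : ℕ} (hn : nSing p G ≤ 1) (N : Subgroup G) [hN : N.Normal] (Y : Type*)
    [MulAction G Y] [Finite Y] {q : ℕ} (hq : 0 < q) (hpq : p ∣ q) (hcard : Nat.card Y = q + 1)
    (h : ∀ a b c d : Y, a ≠ b → c ≠ d → ∃ n ∈ N, n • a = c ∧ n • b = d) : N = ⊤ := by
  obtain ⟨hiG, hiN⟩ := ext_of_two_trans N Y (by omega) h
  obtain ⟨χ, hχ⟩ : ∃ χ : G → ℂ, χ = fun g => (Nat.card (MulAction.fixedBy Y g) : ℂ) - 1 := ⟨_, rfl⟩
  rw [← hχ] at hiG
  have hχN : IsIrrCharacter N (fun n : N => χ n) := by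
    rw [hχ]; exact hiN
  have hdeg : charDegree χ = q := by
    apply charDegree_eq_of
    rw [hχ]
    show (Nat.card (MulAction.fixedBy Y (1 : G)) : ℂ) - 1 = _
    rw [MulAction.fixedBy_one_eq_univ, Nat.card_coe_set_eq, Set.ncard_univ, hcard]
    push_cast
    ring
  by_contra hNt
  have hnt : Nontrivial (G ⧸ N) := (QuotientGroup.nontrivial_iff).2 hNt
  obtain ⟨β, hβ, hβ1⟩ := exists_irr_ne_one (G ⧸ N)
  have hβ' : IsIrrCharacter G (β ∘ QuotientGroup.mk' N) := isIrr_comp _ (QuotientGroup.mk'_surjective N) hβ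
  have hβN : ∀ k ∈ N, (β ∘ QuotientGroup.mk' N) k = (β ∘ QuotientGroup.mk' N) 1 := by
    intro k hk
    show β (QuotientGroup.mk' N k) = β (QuotientGroup.mk' N 1)
    rw [map_one, show QuotientGroup.mk' N k = 1 from (QuotientGroup.eq_one_iff k).2 hk]
  have hβ1' : β ∘ QuotientGroup.mk' N ≠ 1 := by
    intro h
    apply hβ1
    funext x
    obtain ⟨g, rfl⟩ := QuotientGroup.mk'_surjective N x
    exact congrFun h g
  have hprod := H597.FrobC.isIrr_mul_of_restrict N hiG hχN hβ' hβN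
  have hne := gallagher_ne N hiG hχN hβ' hβN hβ1'
  have hd2 : charDegree (β ∘ QuotientGroup.mk' N * χ) =
      charDegree (β ∘ QuotientGroup.mk' N) * charDegree χ := by
    apply charDegree_eq_of
    rw [Pi.mul_apply, charDegree_eq hβ', charDegree_eq hiG, Nat.cast_mul]
  have h3 := two_le_nSing (p := p) hiG hprod (by rw [hdeg]; exact hpq)
    (by rw [hd2, hdeg]; exact Dvd.dvd.mul_left hpq _) hne.symm
  omega

/-- The action of `G` on the Sylow subgroups of a normal subgroup. -/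
@[reducible] noncomputable def sylAct {G : Type*} [Group G] (p : ℕ) (N : Subgroup G) [N.Normal] :
    MulAction G (Sylow p N) :=
  MulAction.compHom (Sylow p N) (MulAut.conjNormal : G →* MulAut N)

theorem conjNormal_coe {G : Type*} [Group G] (N : Subgroup G) [N.Normal] (n : N) :
    (MulAut.conjNormal (n : G) : MulAut N) = MulAut.conj n := by
  ext m
  rw [MulAut.conjNormal_apply]
  rfl

theorem sylAct_coe {G : Type*} [Group G] (p : ℕ) (N : Subgroup G) [N.Normal] (n : N) (P : Sylow p N) :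
    (sylAct p N).toSMul.smul (n : G) P = n • P := by
  show (MulAut.conjNormal (n : G) : MulAut N) • P = MulAut.conj n • P
  rw [conjNormal_coe]

/-- `PSL(2,F)` normal in `G`. -/
theorem defL2_top {p : ℕ} [hp : Fact p.Prime] (hn : nSing p G ≤ 1) (N : Subgroup G) [hN : N.Normal]
    {F : Type} [Field F] [Fintype F] [CharP F p]
    (e : N ≃* Matrix.ProjectiveSpecialLinearGroup (Fin 2) F) : N = ⊤ := by
  have hll : LL p (Fintype.card F) N := ll_PSL.of_equiv e.symm
  have hcard := hll.card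
  have hpF : p ∣ Fintype.card F := by
    obtain ⟨n, -, hn⟩ := FiniteField.card F p
    rw [hn]
    exact dvd_pow_self _ n.ne_zero
  have htr : ∀ P Q P' Q' : Sylow p N, P ≠ Q → P' ≠ Q' → ∃ c : N, c • P = P' ∧ c • Q = Q' := by
    let f : Matrix.SpecialLinearGroup (Fin 2) F →* N := e.symm.toMonoidHom.comp (QuotientGroup.mk' _)
    have hf : Function.Surjective f := e.symm.surjective.comp (QuotientGroup.mk'_surjective _)
    exact two_trans_of_surjective f hf (fun P Q P' Q' h h' => two_trans_SL P Q P' Q' h h')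
  refine @top_of_two_trans G _ _ p hn N hN (Sylow p N) (sylAct p N) _ _ Fintype.card_pos hpF hcard ?_
  intro a b c d h h'
  obtain ⟨n, h1, h2⟩ := htr a b c d h h'
  exact ⟨n, n.2, (sylAct_coe p N n a).trans h1, (sylAct_coe p N n b).trans h2⟩

end Cfsg.Agent.H596.OneAS
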