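import Cfsg.Agent.H596.OneAS
import Cfsg.Agent.H497.AltId
import Cfsg.Agent.SectRankFour.AutM11
import Cfsg.Agent.S2300
import Cfsg.Agent.S0165
import Cfsg.Agent.H406.CritFour
import Cfsg.Agent.H710.LtwoSL2

/-!
# Almost simple groups with one character of degree divisible by `p`, the other cases (helper596, for S4764)

* `top_of_inner`, `m11` : `N` of type `M11`;
* `two_le_A5`, `a5` : `N = A5`;
* `l28_false` : `N = PSL(2,8)`;
* `almost_simple` : all the cases.
-/

set_option autoImplicit false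

open Cfsg

namespace Cfsg.Agent.H596.OneAS

open Cfsg.Agent.Characters.Core Cfsg.Agent.OddOrderCharacters.IndRes Cfsg.Agent.Blocks.Knorr
open Cfsg.Agent.OddOrderCharacters.NormalInduced Cfsg.Agent.OddOrderCharacters.PF9.CliffGen
open Cfsg.Agent.H596.OneSing Cfsg.Agent.H670.PSing Cfsg.Agent.H596.OneL2 Cfsg.Agent.H596.OneNonab
open Cfsg.Agent.H596.OneFacts Cfsg.Agent.H596.OneCtx

universe u

/-- `SL_2 = PSL_2` in characteristic two. -/
theorem psl_equiv_sl {F : Type*} [Field F] [CharP F 2] :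
    Nonempty (Matrix.ProjectiveSpecialLinearGroup (Fin 2) F ≃* Matrix.SpecialLinearGroup (Fin 2) F) := by
  have h : Subgroup.center (Matrix.SpecialLinearGroup (Fin 2) F) = ⊥ := by
    rw [eq_bot_iff]
    intro A hA
    obtain ⟨r, hr, hA⟩ := Matrix.SpecialLinearGroup.mem_center_iff.1 hA
    rw [Fintype.card_fin] at hr
    have h1 : (r - 1) ^ 2 = 0 := by
      have h2 : (2 : F) = 0 := CharTwo.two_eq_zero
      linear_combination hr + (1 - r) * h2
    have h2 : r = 1 := sub_eq_zero.1 (pow_eq_zero_iff (two_ne_zero) |>.1 h1)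
    rw [Subgroup.mem_bot]
    apply Subtype.ext
    rw [← hA, h2, map_one]
    rfl
  exact ⟨(QuotientGroup.quotientMulEquivOfEq h).trans QuotientGroup.quotientBot⟩

variable {G : Type u} [Group G]

/-- `N` self-centralizing with all automorphisms inner. -/
theorem top_of_inner (N : Subgroup G) [hN : N.Normal] (hC : Subgroup.centralizer (N : Set G) = ⊥)
    (h : ∀ φ : N ≃* N, ∃ n : N, φ = MulAut.conj n) : N = ⊤ := by
  rw [eq_top_iff]
  intro g _
  obtain ⟨n, hn⟩ := h (MulAut.conjNormal g)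
  have h1 : (n : G)⁻¹ * g ∈ Subgroup.centralizer (N : Set G) := by
    rw [Subgroup.mem_centralizer_iff]
    intro m hm
    have h2 := congrArg (fun φ : N ≃* N => ((φ ⟨m, hm⟩ : N) : G)) hn
    simp only [MulAut.conjNormal_apply] at h2
    have h3 : g * m * g⁻¹ = n * m * (n : G)⁻¹ := h2
    calc m * ((n : G)⁻¹ * g) = (n : G)⁻¹ * (n * m * (n : G)⁻¹) * g := by group
      _ = (n : G)⁻¹ * (g * m * g⁻¹) * g := by rw [h3]
      _ = (n : G)⁻¹ * g * m := by group
  rw [hC, Subgroup.mem_bot] at h1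
  have h2 : g = n := by
    rw [inv_mul_eq_one] at h1
    exact h1.symm
  rw [h2]; exact n.2

/-- `N` of type `M11`. -/
theorem m11 [Finite G] (N : Subgroup G) [hN : N.Normal] (hC : Subgroup.centralizer (N : Set G) = ⊥)
    (h : IsM11 N) : IsM11 G := by
  have h1 := top_of_inner N hC (fun φ => SectRankFour.AutM11.exists_conj h φ)
  subst h1
  obtain ⟨hs, hc⟩ := h
  refine ⟨?_, ?_⟩
  · exact (Subgroup.topEquiv (G := G)).isSimpleGroup_congr.1 hs
  · rw [← hc]
    exact (Nat.card_congr (Subgroup.topEquiv (G := G)).toEquiv).symm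

/-- Two characters of the same degree. -/
theorem two_le_of_equiv [Finite G] {p : ℕ} {X : Type*} [Group X] [Finite X] (e : G ≃* X) {d : ℕ}
    (hd : p ∣ d) (h : 1 < Nat.card {χ : IrrCharacter X // (χ : X → ℂ) 1 = (d : ℂ)}) :
    2 ≤ nSing p G := by
  have h1 : Finite (IrrCharacter X) := finite_irr
  rw [Finite.one_lt_card_iff_nontrivial] at h
  obtain ⟨⟨χ, hχ⟩, ⟨ψ, hψ⟩, hne⟩ := h
  have hdeg : ∀ χ : IrrCharacter X, (χ : X → ℂ) 1 = (d : ℂ) →
      p ∣ charDegree ((χ : X → ℂ) ∘ e.toMonoidHom) := by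
    intro χ hχ
    rw [charDegree_eq_of (n := d) (by
      show (χ : X → ℂ) (e 1) = _
      rw [map_one, hχ])]
    exact hd
  refine two_le_nSing (isIrr_comp e.toMonoidHom e.surjective χ.2)
    (isIrr_comp e.toMonoidHom e.surjective ψ.2) (hdeg χ hχ) (hdeg ψ hψ) ?_
  intro h2
  apply hne
  apply Subtype.ext
  apply Subtype.ext
  funext x
  obtain ⟨g, rfl⟩ := e.surjective x
  exact congrFun h2 g

/-- `A5` has two irreducible characters of degree 3. -/
theorem two_le_A5 [Finite G] (e : G ≃* alternatingGroup (Fin 5)) : 2 ≤ nSing 3 G := by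
  have hF2 : Fact (Nat.Prime 2) := ⟨Nat.prime_two⟩
  have : Fintype (GaloisField 2 2) := Fintype.ofFinite _
  have hcard : Fintype.card (GaloisField 2 2) = 4 := by
    rw [← Nat.card_eq_fintype_card, GaloisField.card 2 2 two_ne_zero]
    norm_num
  obtain ⟨f⟩ := H406.CritFour.exists_equiv hcard
  refine two_le_of_equiv (d := 3) (e.trans f.symm) (dvd_refl 3) ?_
  have h := ((S2300.result (F := GaloisField 2 2)).2 (by rw [hcard])).2.2.2
  rw [hcard] at h
  have h4 : ((4 : ℕ) : ℂ) - 1 = ((3 : ℕ) : ℂ) := by norm_num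
  rw [h4] at h
  rw [h]
  norm_num

/-- `N = A5`. -/
theorem a5 [Finite G] (hn : nSing 3 G ≤ 1) (N : Subgroup G) [hN : N.Normal]
    (hC : Subgroup.centralizer (N : Set G) = ⊥) (e : N ≃* alternatingGroup (Fin 5)) :
    Nonempty (G ≃* Equiv.Perm (Fin 5)) := by
  rcases H497.AltId.ident_five e hC with ⟨⟨f⟩⟩ | h
  · have := two_le_A5 f
    omega
  · exact h

/-- An element commuting with an element acting regularly on the Sylow subgroups of `N`. -/
theorem mem_of_comm [Finite G] {p m : ℕ} [hp : Fact p.Prime] (N : Subgroup G) [hN : N.Normal]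
    [hs : IsSimpleGroup N] (hC : Subgroup.centralizer (N : Set G) = ⊥)
    (hcard : Nat.card (Sylow p N) = m) (hm : 1 < m) {x : N} (hx : orderOf x = m)
    (hco : ∀ d, d ∣ m → m * d ∣ Nat.card N → d = 1) {h : G} (hcomm : h * x = x * h) : h ∈ N := by
  let act := sylAct p N
  have hact : ∀ (n : N) (P : Sylow p N), (n : G) • P = (Sylow.mulAction.toSMul.smul n P) :=
    fun n P => sylAct_coe p N n P
  obtain ⟨P⟩ : Nonempty (Sylow p N) := inferInstance
  -- regular
  have hreg : ∀ z ∈ Subgroup.zpowers x, (z : G) • P = P → z = 1 := by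
    intro z hz hzP
    have h1 : z ∈ Subgroup.normalizer ((P : Subgroup N) : Set N) := by
      rw [hact] at hzP
      exact Sylow.smul_eq_iff_mem_normalizer.1 hzP
    have h2 : orderOf z ∣ Nat.card (Subgroup.normalizer ((P : Subgroup N) : Set N)) :=
      Subgroup.orderOf_dvd_natCard _ h1
    have h3 : Nat.card (Subgroup.normalizer ((P : Subgroup N) : Set N)) * m = Nat.card N := by
      rw [← hcard, Sylow.card_eq_index_normalizer P]
      exact Subgroup.card_mul_index _
    have h4 : orderOf z ∣ m := by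
      rw [← hx, ← Nat.card_zpowers x]
      exact Subgroup.orderOf_dvd_natCard _ hz
    rw [← orderOf_eq_one_iff]
    apply hco _ h4
    rw [← h3, mul_comm m]
    exact Nat.mul_dvd_mul_right h2 m
  have hbij : Function.Bijective (fun z : Subgroup.zpowers x => ((z : N) : G) • P) := by
    rw [Nat.bijective_iff_injective_and_card]
    refine ⟨?_, by rw [Nat.card_zpowers, hx, hcard]⟩
    intro z w hzw
    have h1 : (((z : N)⁻¹ * w : N) : G) • P = P := by
      rw [Subgroup.coe_mul, mul_smul]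
      have h2 : ((w : N) : G) • P = ((z : N) : G) • P := hzw.symm
      rw [h2, Subgroup.coe_inv, inv_smul_smul]
    have h2 := hreg _ (mul_mem (inv_mem z.2) w.2) h1
    rw [inv_mul_eq_one] at h2
    exact Subtype.ext h2
  obtain ⟨z, hz⟩ := hbij.2 (h • P)
  have hz' : ((z : N) : G) • P = h • P := hz
  have hcomm' : ∀ w : Subgroup.zpowers x, h * (w : N) = (w : N) * h := by
    intro w
    obtain ⟨k, hk⟩ := Subgroup.mem_zpowers_iff.1 w.2
    rw [← hk]
    have : Commute h ((x : N) : G) := hcomm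
    have h1 := this.zpow_right k
    rw [Subgroup.coe_zpow]
    exact h1
  obtain ⟨y, hy⟩ : ∃ y : G, y = ((z : N) : G)⁻¹ * h := ⟨_, rfl⟩
  have hyP : y • P = P := by rw [hy, mul_smul, ← hz', inv_smul_smul]
  have hyw : ∀ w : Subgroup.zpowers x, y * (w : N) = (w : N) * y := by
    intro w
    have h1 : ((z : N) : G) * (w : N) = (w : N) * (z : N) := by
      obtain ⟨k, hk⟩ := Subgroup.mem_zpowers_iff.1 w.2
      obtain ⟨l, hl⟩ := Subgroup.mem_zpowers_iff.1 z.2
      rw [← hk, ← hl, ← Subgroup.coe_mul, ← Subgroup.coe_mul, ← zpow_add, ← zpow_add, add_comm]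
    calc y * (w : N) = ((z : N) : G)⁻¹ * (h * (w : N)) := by rw [hy]; group
      _ = ((z : N) : G)⁻¹ * ((w : N) * h) := by rw [hcomm']
      _ = ((z : N) : G)⁻¹ * ((w : N) * (z : N)) * ((z : N) : G)⁻¹ * h := by group
      _ = ((z : N) : G)⁻¹ * ((z : N) * (w : N)) * ((z : N) : G)⁻¹ * h := by rw [h1]
      _ = (w : N) * y := by rw [hy]; group
  have hyall : ∀ Q : Sylow p N, y • Q = Q := by
    intro Q
    obtain ⟨w, hw⟩ := hbij.2 Q
    have hw' : ((w : N) : G) • P = Q := hw
    rw [← hw', smul_smul, hyw, mul_smul, hyP]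
  -- the kernel
  obtain ⟨K, hK⟩ : ∃ K : Subgroup G, K = (MulAction.toPermHom G (Sylow p N)).ker := ⟨_, rfl⟩
  have hKn : K.Normal := by rw [hK]; infer_instance
  have hKmem : ∀ k : G, k ∈ K ↔ ∀ Q : Sylow p N, k • Q = Q := by
    intro k
    rw [hK, MonoidHom.mem_ker, Equiv.ext_iff]
    rfl
  have hKN : K.subgroupOf N = ⊥ := by
    have hn1 : (K.subgroupOf N).Normal := inferInstance
    rcases hs.eq_bot_or_eq_top_of_normal _ hn1 with h1 | h1
    · exact h1
    · exfalso
      have h2 : ∀ Q : Sylow p N, Q = P := by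
        intro Q
        obtain ⟨n, hn⟩ := (Sylow.isPretransitive_of_finite (p := p) (G := N)).exists_smul_eq P Q
        have h3 : n ∈ K.subgroupOf N := by rw [h1]; trivial
        have h4 := (hKmem n).1 (Subgroup.mem_subgroupOf.1 h3) P
        rw [hact] at h4
        exact hn.symm.trans h4
      have : Subsingleton (Sylow p N) := ⟨fun a b => (h2 a).trans (h2 b).symm⟩
      have h3 : Nat.card (Sylow p N) ≤ 1 := Finite.card_le_one_iff_subsingleton.2 this
      omega
  have hy1 : y = 1 := by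
    have h1 : y ∈ Subgroup.centralizer (N : Set G) := by
      rw [Subgroup.mem_centralizer_iff]
      intro n hn
      have hyK : y ∈ K := (hKmem y).2 hyall
      have h2 : n * y * n⁻¹ * y⁻¹ ∈ N ⊓ K := by
        rw [Subgroup.mem_inf]
        refine ⟨?_, mul_mem (hKn.conj_mem y hyK n) (inv_mem hyK)⟩
        have h3 : n * y * n⁻¹ * y⁻¹ = n * (y * n⁻¹ * y⁻¹) := by group
        rw [h3]
        exact mul_mem hn (hN.conj_mem _ (inv_mem hn) y)
      have h3 : (⟨n * y * n⁻¹ * y⁻¹, h2.1⟩ : N) ∈ K.subgroupOf N := Subgroup.mem_subgroupOf.2 h2.2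
      rw [hKN, Subgroup.mem_bot] at h3
      have h4 : n * y * n⁻¹ * y⁻¹ = 1 := congrArg Subtype.val h3
      rw [mul_inv_eq_one, mul_inv_eq_iff_eq_mul] at h4
      exact h4
    rw [hC, Subgroup.mem_bot] at h1
    exact h1
  rw [hy, inv_mul_eq_one] at hy1
  rw [← hy1]
  exact (z : N).2

/-- The irreducible characters of `N` of degree divisible by `p`. -/
abbrev Om (p : ℕ) (N : Subgroup G) : Type u := {θ : N → ℂ // IsIrrCharacter N θ ∧ p ∣ charDegree θ}

theorem charDegree_conjFn (N : Subgroup G) [hN : N.Normal] (θ : N → ℂ) (g : G) :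
    charDegree (conjFn N θ g) = charDegree θ := by
  simp only [charDegree, conjFn_apply_one]

/-- The action of `G`. -/
@[reducible] noncomputable def omAct (p : ℕ) (N : Subgroup G) [hN : N.Normal] : MulAction G (Om p N) where
  smul g θ := ⟨conjFn N θ.1 g⁻¹, isIrr_conjFn N θ.2.1 g⁻¹, by rw [charDegree_conjFn]; exact θ.2.2⟩
  one_smul θ := Subtype.ext (by
    show conjFn N θ.1 1⁻¹ = θ.1
    rw [inv_one, conjFn_one])
  mul_smul g h θ := Subtype.ext (by
    show conjFn N θ.1 (g * h)⁻¹ = conjFn N (conjFn N θ.1 h⁻¹) g⁻¹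
    rw [mul_inv_rev, conjFn_mul])

/-- The number of characters of degree divisible by `p` bounds the index of the inertia group. -/
theorem index_inertia [Finite G] {p : ℕ} (hn : nSing p G ≤ 1) (N : Subgroup G) [hN : N.Normal]
    {ω : N → ℂ} (hω : IsIrrCharacter N ω) (hωp : p ∣ charDegree ω) :
    (inertia N ω).index = Nat.card (Om p N) := by
  let act := omAct p N
  have htr : MulAction.IsPretransitive G (Om p N) := by
    constructor
    intro θ φ
    by_contra hcon
    push Not at hcon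
    have h2 := two_le N φ.2.1 θ.2.1 φ.2.2 θ.2.2 (fun g hg => hcon g⁻¹ (Subtype.ext (by
      show conjFn N θ.1 g⁻¹⁻¹ = φ.1
      rw [inv_inv]; exact hg)))
    omega
  have h1 := MulAction.index_stabilizer_of_transitive G (⟨ω, hω, hωp⟩ : Om p N)
  rw [← h1]
  congr 1
  ext g
  rw [MulAction.mem_stabilizer_iff]
  constructor
  · intro hg
    have h2 : g⁻¹ ∈ inertia N ω := inv_mem hg
    exact Subtype.ext h2
  · intro hg
    have h2 : conjFn N ω g⁻¹ = ω := congrArg Subtype.val hg
    have h3 : g⁻¹ ∈ inertia N ω := h2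
    exact inv_mem_iff.1 h3

/-- The inertia groups of the other characters have index prime to `p`. -/
theorem index_inertia_other [Finite G] {p : ℕ} (hn : nSing p G ≤ 1) (N : Subgroup G) [hN : N.Normal]
    {ω : N → ℂ} (hω : IsIrrCharacter N ω) (hωp : p ∣ charDegree ω) {θ : N → ℂ}
    (hθ : IsIrrCharacter N θ) (hθp : ¬ p ∣ charDegree θ) : ¬ p ∣ (inertia N θ).index := by
  classical
  have : Fintype G := Fintype.ofFinite G
  have : Fintype N := Fintype.ofFinite _
  have : Fintype (inertia N θ) := Fintype.ofFinite _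
  obtain ⟨χ, hχ⟩ := Blocks.Over.exists_over N ⟨θ, hθ⟩
  obtain ⟨χ', hχ'⟩ := Blocks.Over.exists_over N ⟨ω, hω⟩
  obtain ⟨ψ, hψ, hψθ, hψχ⟩ := exists_ind hθ (fun g => Iff.rfl)
    (le_inertia (isIrr_isClassFunction hθ)) χ.2 hχ
  have h1 : charDegree (χ : G → ℂ) = (inertia N θ).index * charDegree ψ := by
    apply charDegree_eq_of
    rw [hψχ, indFun_apply_one, charDegree_eq hψ, Nat.cast_mul]
  intro hdiv
  have h2 := two_le_nSing (p := p) χ.2 χ'.2 (by rw [h1]; exact Dvd.dvd.mul_right hdiv _)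
    (hωp.trans (degree_dvd_of_over N hω χ'.2 hχ')) (by
      intro h
      have hχ'' : classInner (res N (χ : G → ℂ)) ω ≠ 0 := by rw [h]; exact hχ'
      obtain ⟨g, hg⟩ := conj_of_over N hθ hω χ.2 hχ hχ''
      apply hθp
      rw [← hg, charDegree_conjFn]
      exact hωp)
  omega

/-- An element of a Sylow `p`-subgroup modulo `N` moving the characters of degree divisible by `p` and
fixing the others. -/
theorem exists_moving [Finite G] {p : ℕ} [hp : Fact p.Prime] (hIM : AllIM.{u} p) (hn : nSing p G ≤ 1)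
    (N : Subgroup G) [hN : N.Normal] (hq : nSing p (G ⧸ N) = 0)
    {ω : N → ℂ} (hω : IsIrrCharacter N ω) (hωp : p ∣ charDegree ω) (hdvd : p ∣ Nat.card (Om p N)) :
    ∃ g : G, g ∉ inertia N ω ∧ ∀ θ : N → ℂ, IsIrrCharacter N θ → ¬ p ∣ charDegree θ → g ∈ inertia N θ := by
  have h1 := card_sylow_of_IM hIM hq
  obtain ⟨P⟩ : Nonempty (Sylow p (G ⧸ N)) := inferInstance
  have hsub : ∀ Q : Sylow p (G ⧸ N), Q = P := by
    intro Q
    have : Subsingleton (Sylow p (G ⧸ N)) := (Finite.card_le_one_iff_subsingleton).1 h1.le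
    exact Subsingleton.elim _ _
  have hidx : ∀ θ : N → ℂ, IsIrrCharacter N θ →
      ((inertia N θ).map (QuotientGroup.mk' N)).index = (inertia N θ).index := by
    intro θ hθ
    have h2 : N ≤ inertia N θ := le_inertia (isIrr_isClassFunction hθ)
    rw [Subgroup.index_map, QuotientGroup.ker_mk', sup_eq_left.2 h2,
      MonoidHom.range_eq_top.2 (QuotientGroup.mk'_surjective N), Subgroup.index_top, mul_one]
  have hnot : ¬ (P : Subgroup (G ⧸ N)) ≤ (inertia N ω).map (QuotientGroup.mk' N) := by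
    intro hle
    have h2 : ((inertia N ω).map (QuotientGroup.mk' N)).index ∣ (P : Subgroup (G ⧸ N)).index :=
      Subgroup.index_dvd_of_le hle
    rw [hidx ω hω, index_inertia hn N hω hωp] at h2
    exact P.not_dvd_index (hdvd.trans h2)
  obtain ⟨y, hyP, hy⟩ := Set.not_subset.1 hnot
  obtain ⟨g, rfl⟩ := QuotientGroup.mk'_surjective N y
  refine ⟨g, fun hg => hy ⟨g, hg, rfl⟩, ?_⟩
  intro θ hθ hθp
  have h2 := index_inertia_other hn N hω hωp hθ hθp
  rw [← hidx θ hθ] at h2
  obtain ⟨Q, hQ⟩ := exists_sylow_le_of_index ((inertia N θ).map (QuotientGroup.mk' N)) h2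
  rw [hsub Q] at hQ
  obtain ⟨t, ht, htg⟩ := hQ hyP
  have h3 : t⁻¹ * g ∈ N := QuotientGroup.eq.1 htg
  have h4 : t⁻¹ * g ∈ inertia N θ := le_inertia (isIrr_isClassFunction hθ) h3
  have h5 : g = t * (t⁻¹ * g) := by group
  rw [h5]
  exact mul_mem ht h4

/-- The degrees of the irreducible characters of `SL(2,8)`. -/
theorem sl28 {N : Type*} [Group N] [Finite N] {F : Type*} [Field F] [Fintype F] [CharP F 2]
    (hF : Fintype.card F = 8) (e : N ≃* Matrix.SpecialLinearGroup (Fin 2) F) {θ : N → ℂ}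
    (hθ : IsIrrCharacter N θ) : charDegree θ = 1 ∨ charDegree θ = 7 ∨ charDegree θ = 8 ∨
      charDegree θ = 9 := by
  have h := (S2300.result (F := F)).1 (θ ∘ e.symm.toMonoidHom) (isIrr_comp _ e.symm.surjective hθ)
  have h1 : (θ ∘ e.symm.toMonoidHom) 1 = (charDegree θ : ℂ) := by
    rw [← charDegree_eq hθ]
    show θ (e.symm 1) = θ 1
    rw [map_one]
  rw [h1, hF] at h
  rcases h with h | h | h | h
  · left; exact_mod_cast h
  · right; left
    have h2 : ((8 : ℕ) : ℂ) - 1 = ((7 : ℕ) : ℂ) := by norm_num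
    rw [h2] at h; exact_mod_cast h
  · right; right; left
    exact_mod_cast h
  · right; right; right
    have h2 : ((8 : ℕ) : ℂ) + 1 = ((9 : ℕ) : ℂ) := by norm_num
    rw [h2] at h; exact_mod_cast h

/-- `SL(2,8)` has three irreducible characters of degree divisible by 3. -/
theorem card_Om_sl28 (N : Subgroup G) [Finite N] {F : Type*} [Field F] [Fintype F] [CharP F 2]
    (hF : Fintype.card F = 8) (e : N ≃* Matrix.SpecialLinearGroup (Fin 2) F) :
    Nat.card (Om 3 N) = 3 := by
  have h := ((S2300.result (F := F)).2 (by rw [hF]; norm_num)).2.2.1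
  rw [hF] at h
  have h8 : ((8 : ℕ) : ℂ) + 1 = ((9 : ℕ) : ℂ) := by norm_num
  rw [h8, show (8 - 2) / 2 = 3 by norm_num] at h
  refine Eq.trans ?_ h
  have hdeg : ∀ θ : N → ℂ, IsIrrCharacter N θ → (3 ∣ charDegree θ ↔ charDegree θ = 9) := by
    intro θ hθ
    rcases sl28 hF e hθ with h | h | h | h <;> rw [h] <;> norm_num
  have hval : ∀ θ : N → ℂ, IsIrrCharacter N θ → (charDegree θ = 9 ↔ θ 1 = ((9 : ℕ) : ℂ)) := by
    intro θ hθ
    rw [charDegree_eq hθ, Nat.cast_inj]
  refine Nat.card_congr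
    { toFun := fun θ => ⟨⟨θ.1 ∘ e.symm.toMonoidHom, isIrr_comp _ e.symm.surjective θ.2.1⟩, by
        show θ.1 (e.symm 1) = _
        rw [map_one]
        exact (hval _ θ.2.1).1 ((hdeg _ θ.2.1).1 θ.2.2)⟩
      invFun := fun χ => ⟨(χ.1 : Matrix.SpecialLinearGroup (Fin 2) F → ℂ) ∘ e.toMonoidHom,
        isIrr_comp _ e.surjective χ.1.2, by
        have h1 := isIrr_comp e.toMonoidHom e.surjective χ.1.2
        rw [hdeg _ h1, hval _ h1]
        show (χ.1 : Matrix.SpecialLinearGroup (Fin 2) F → ℂ) (e 1) = _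
        rw [map_one]
        exact χ.2⟩
      left_inv := fun θ => Subtype.ext (by
        funext x
        show θ.1 (e.symm (e x)) = θ.1 x
        rw [e.symm_apply_apply])
      right_inv := fun χ => Subtype.ext (Subtype.ext (by
        funext x
        show (χ.1 : Matrix.SpecialLinearGroup (Fin 2) F → ℂ) (e (e.symm x)) =
          (χ.1 : Matrix.SpecialLinearGroup (Fin 2) F → ℂ) x
        rw [e.apply_symm_apply])) }

/-- `N = PSL(2,8)`. -/
theorem l28_false [Finite G] (hIM : AllIM.{u} 3) (hn : nSing 3 G ≤ 1) (N : Subgroup G) [hN : N.Normal]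
    [hs : IsSimpleGroup N] (hC : Subgroup.centralizer (N : Set G) = ⊥) (hq : nSing 3 (G ⧸ N) = 0)
    (h : L28 N) : False := by
  obtain ⟨F, _, _, hF, ⟨e⟩⟩ := h
  have hF2 : Fact (Nat.Prime 2) := ⟨Nat.prime_two⟩
  have hF3 : Fact (Nat.Prime 3) := ⟨Nat.prime_three⟩
  have hcp : CharP F 2 := charP_of_card_eq_prime_pow (p := 2) (f := 3) (by
    rw [hF]; norm_num)
  obtain ⟨i⟩ := psl_equiv_sl (F := F)
  have e' : N ≃* Matrix.SpecialLinearGroup (Fin 2) F := e.trans i
  have hOm := card_Om_sl28 N hF e'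
  have hcardN : Nat.card N = 504 := by
    rw [Nat.card_congr e'.toEquiv, ClassicalGeometry.PSL2Basic.card_SL2, hF]
    norm_num
  have hll : LL 2 8 N := by
    have h1 : LL 2 (Fintype.card F) N := ll_PSL.of_equiv e.symm
    rwa [hF] at h1
  -- an element of order 9
  obtain ⟨a, ha⟩ := H710.SLTwo.exists_order_add_one F
  obtain ⟨x, hx⟩ : ∃ x : N, orderOf x = 9 := by
    refine ⟨e'.symm a, ?_⟩
    rw [MulEquiv.orderOf_eq, ha, hF]
  -- a moving element
  have hpos : Nonempty (Om 3 N) := by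
    by_contra h
    rw [not_nonempty_iff] at h
    rw [Nat.card_of_isEmpty] at hOm
    omega
  obtain ⟨ω, hω, hωp⟩ := hpos
  obtain ⟨g, hg, hgθ⟩ := exists_moving hIM hn N hq hω hωp (by rw [hOm])
  -- conjugation by `g` fixes the class of `x`
  have hfix : IsConj (MulAut.conjNormal g x : N) x := by
    rw [Characters.GaloisIrr.isConj_iff_forall_irr]
    intro θ hθ
    by_cases hd : 3 ∣ charDegree θ
    · have h9 : charDegree θ = 9 := by
        rcases sl28 hF e' hθ with h | h | h | h <;> rw [h] at hd ⊢ <;> revert hd <;> norm_num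
      obtain ⟨m, ρ, hρ, rfl⟩ := hθ
      have hfr : 3 ^ 2 ∣ Module.finrank ℂ (Fin m → ℂ) := by
        have h1 : (Module.finrank ℂ (Fin m → ℂ) : ℂ) = ((9 : ℕ) : ℂ) := by
          rw [← h9, ← charDegree_eq ⟨m, ρ, hρ, rfl⟩, Representation.char_one]
        have h2 : Module.finrank ℂ (Fin m → ℂ) = 9 := by exact_mod_cast h1
        rw [h2]; norm_num
      have hvan : ∀ y : N, orderOf y = 9 → ρ.character y = 0 := fun y hy =>
        S0165.result ρ 3 2 Nat.prime_three (by rw [hcardN]; norm_num) (by rw [hcardN]; norm_num) hfr y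
          (by rw [hy]; norm_num)
      rw [hvan x hx, hvan _ (by rw [MulEquiv.orderOf_eq, hx])]
    · have h1 : conjFn N θ g = θ := hgθ θ hθ hd
      have h2 := congrFun h1 x
      rw [conjFn_apply] at h2
      rw [← h2]
      congr 1
  obtain ⟨n, hn'⟩ := isConj_iff.1 hfix
  have hcomm : (n * g : G) * x = x * (n * g) := by
    have h1 : (n : G) * (g * x * g⁻¹) * (n : G)⁻¹ = x := by
      have h2 := congrArg Subtype.val hn'
      simp only [Subgroup.coe_mul, MulAut.conjNormal_apply, Subgroup.coe_inv] at h2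
      exact h2
    calc (n * g : G) * x = (n : G) * (g * x * g⁻¹) * (n : G)⁻¹ * (n * g) := by group
      _ = x * (n * g) := by rw [h1]
  have hmem := mem_of_comm (p := 2) (m := 9) N hC hll.card (by norm_num) hx (by
    intro d hd hd'
    rw [hcardN] at hd'
    have h1 : d ∣ 56 := by
      have h2 : 9 * d ∣ 9 * 56 := hd'
      exact Nat.dvd_of_mul_dvd_mul_left (by norm_num) h2
    have h2 : d ∣ Nat.gcd 9 56 := Nat.dvd_gcd hd h1
    have h3 : Nat.gcd 9 56 = 1 := by norm_num
    rw [h3] at h2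
    exact Nat.dvd_one.1 h2) hcomm
  apply hg
  have h1 : g ∈ N := by
    have h2 : g = (n : G)⁻¹ * (n * g) := by group
    rw [h2]
    exact mul_mem (inv_mem n.2) hmem
  exact le_inertia (isIrr_isClassFunction hω) h1

/-- The conclusion of S4764. -/
def Concl (p : ℕ) (G : Type u) [Group G] : Prop :=
  (∃ (F : Type) (_ : Field F) (_ : Fintype F), CharP F p ∧ 4 ≤ Fintype.card F ∧
    (Nonempty (G ≃* Matrix.ProjectiveSpecialLinearGroup (Fin 2) F) ∨
      Nonempty (G ≃* Matrix.SpecialLinearGroup (Fin 2) F) ∨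
      ∃ (V : Subgroup G) (_ : V.Normal), Cfsg.IsElementaryAbelian p V ∧
        Nat.card V = Fintype.card F ^ 2 ∧
        Nonempty (G ⧸ V ≃* Matrix.SpecialLinearGroup (Fin 2) F))) ∨
    (p = 3 ∧ Nonempty (G ≃* Equiv.Perm (Fin 5))) ∨ (p = 3 ∧ Cfsg.IsM11 G)

/-- **Almost simple groups.** -/
theorem almost_simple [Finite G] {p : ℕ} [hp : Fact p.Prime] (hIM : AllIM.{u} p) (hn : nSing p G ≤ 1)
    (N : Subgroup G) [hN : N.Normal] [hs : IsSimpleGroup N]
    (hC : Subgroup.centralizer (N : Set G) = ⊥) (hq : nSing p (G ⧸ N) = 0) (h : TwoOr p N) :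
    Concl p G := by
  rcases h with ⟨α, β, hα, hβ, hne⟩ | ⟨F, _, _, hF, h4, ⟨e⟩⟩ | ⟨rfl, h | ⟨⟨e⟩⟩ | h⟩
  · exfalso
    have h2 := two_le N β.2 α.2 hβ hα (fun g hg => by
      obtain ⟨s, hs⟩ := hne (MulAut.conjNormal g)
      apply hs
      have h1 := congrFun hg s
      rw [← h1, conjFn_apply]
      congr 1)
    omega
  · have htop := defL2_top hn N e
    subst htop
    exact Or.inl ⟨F, _, _, hF, h4, Or.inl ⟨Subgroup.topEquiv.symm.trans e⟩⟩
  · exact Or.inr (Or.inr ⟨rfl, m11 N hC h⟩)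
  · exact Or.inr (Or.inl ⟨rfl, a5 hn N hC e⟩)
  · exact (l28_false hIM hn N hC hq h).elim

end Cfsg.Agent.H596.OneAS
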