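import Cfsg.Agent.H596.OnePart
import Cfsg.Agent.LieClassical.SLTwoUnipotent
import Cfsg.Agent.H947.SqLin2
import Cfsg.Agent.S4342
import Cfsg.Agent.H686.SLCover
import Cfsg.Agent.H60.CrossA
import Cfsg.Agent.TwoFusion.SLTwoFacts

/-!
# `SL(2,F)` and `PSL(2,F)` acting on an abelian group (helper596, for S4764)

* `LL p q X` : any two distinct Sylow `p`-subgroups generate `X`, and there are `q + 1` of them;
* `LL.arith` : `X` acting on an elementary abelian `r`-group such that every element is fixed by a Sylow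
  `p`-subgroup: there is a nontrivial fixed point, or `r = p` and the order is `q ^ 2`;
* `central_of_fixed`, `exists_ext_of_central`.
-/

set_option autoImplicit false

open Cfsg

namespace Cfsg.Agent.H596.OneL2

open Cfsg.Agent.H596.OneSing Cfsg.Agent.H596.OnePart Cfsg.Agent.H670.PSing
open Cfsg.Agent.OddOrderCharacters.PF9.CliffGen Cfsg.Agent.OddOrderCharacters.IndRes

universe u

/-- Any two distinct Sylow `p`-subgroups generate, and there are `q + 1` of them. -/
structure LL (p q : ℕ) (X : Type*) [Group X] : Prop where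
  gen : ∀ P Q : Sylow p X, P ≠ Q → (P : Subgroup X) ⊔ (Q : Subgroup X) = ⊤
  card : Nat.card (Sylow p X) = q + 1

section

variable {p q : ℕ} {X Y : Type*} [Group X] [Group Y]

theorem gen_of_surjective [Finite X] [Fact p.Prime] (f : X →* Y) (hf : Function.Surjective f)
    (h : ∀ P Q : Sylow p X, P ≠ Q → (P : Subgroup X) ⊔ (Q : Subgroup X) = ⊤) :
    ∀ P Q : Sylow p Y, P ≠ Q → (P : Subgroup Y) ⊔ (Q : Subgroup Y) = ⊤ := by
  intro P Q hPQ
  obtain ⟨P', rfl⟩ := Sylow.mapSurjective_surjective hf p P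
  obtain ⟨Q', rfl⟩ := Sylow.mapSurjective_surjective hf p Q
  have h1 := h P' Q' (fun h => hPQ (by rw [h]))
  rw [Sylow.coe_mapSurjective, Sylow.coe_mapSurjective, ← Subgroup.map_sup, h1]
  exact Subgroup.map_top_of_surjective f hf

theorem LL.of_equiv [Finite X] [Fact p.Prime] (e : X ≃* Y) (h : LL p q X) : LL p q Y := by
  refine ⟨gen_of_surjective e.toMonoidHom e.surjective h.gen, ?_⟩
  rw [← h.card]
  have : Finite Y := Finite.of_equiv X e.toEquiv
  apply Nat.dvd_antisymm
  · exact H482.SylowNumbers.card_sylow_dvd_of_surjective p e.toMonoidHom e.surjective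
  · exact H482.SylowNumbers.card_sylow_dvd_of_surjective p e.symm.toMonoidHom e.symm.surjective

/-- A subgroup containing a Sylow `p`-subgroup is everything or contains only one. -/
theorem LL.dich [Finite X] (h : LL p q X) (T : Subgroup X) (hT : ∃ Q : Sylow p X, (Q : Subgroup X) ≤ T) :
    T = ⊤ ∨ ∃! Q : Sylow p X, (Q : Subgroup X) ≤ T := by
  obtain ⟨Q, hQ⟩ := hT
  by_cases h1 : ∀ R : Sylow p X, (R : Subgroup X) ≤ T → R = Q
  · exact Or.inr ⟨Q, hQ, h1⟩
  · push Not at h1
    obtain ⟨R, hR, hRQ⟩ := h1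
    left
    rw [eq_top_iff, ← h.gen R Q hRQ]
    exact sup_le hR hQ

theorem LL.arith [Finite X] [hp : Fact p.Prime] {a : ℕ} (ha : 0 < a) (h : LL p (p ^ a) X) {A : Type*}
    [CommGroup A] [Finite A] (ρ : X →* MulAut A) {r m : ℕ} (hr : r.Prime) (hm : 0 < m)
    (hA : Nat.card A = r ^ m)
    (hfix : ∀ b : A, b ≠ 1 → ∃ Q : Sylow p X, (Q : Subgroup X) ≤ St ρ b) :
    (∃ b : A, b ≠ 1 ∧ St ρ b = ⊤) ∨ (r = p ∧ r ^ m = (p ^ a) ^ 2) := by
  by_cases h0 : ∃ b : A, b ≠ 1 ∧ St ρ b = ⊤
  · exact Or.inl h0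
  · right
    push Not at h0
    have h1 : ∀ b : A, b ≠ 1 → ∃! Q : Sylow p X, (Q : Subgroup X) ≤ St ρ b := fun b hb =>
      (h.dich _ (hfix b hb)).resolve_left (h0 b hb)
    obtain ⟨Q⟩ : Nonempty (Sylow p X) := inferInstance
    have h2 := card_partition ρ h1 Q
    rw [hA, h.card] at h2
    have h3 : Nat.card (Fx ρ (Q : Subgroup X)) ∣ r ^ m := by
      rw [← hA]; exact Subgroup.card_subgroup_dvd_card _
    obtain ⟨c, -, hc⟩ := (Nat.dvd_prime_pow hr).1 h3
    rw [hc] at h2
    exact OnePart.arith hp.out hr ha hm h2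

end

section SL

variable {F : Type*} [Field F] [Fintype F] {p : ℕ} [Fact p.Prime] [CharP F p]

theorem ll_SL : LL p (Fintype.card F) (Matrix.SpecialLinearGroup (Fin 2) F) :=
  ⟨LieClassical.SLTwoUnipotent.sylow_sup_eq_top p, H947.Sq.card_sylow_SL2 p⟩

theorem ll_PSL : LL p (Fintype.card F) (Matrix.ProjectiveSpecialLinearGroup (Fin 2) F) := by
  have h := ll_SL (F := F) (p := p)
  refine ⟨gen_of_surjective (QuotientGroup.mk' _) (QuotientGroup.mk'_surjective _) h.gen, ?_⟩
  rw [← h.card]
  exact S4342.card_sylow_quotient_central p _ le_rfl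

end SL

section central

variable {G : Type u} [Group G]

/-- A minimal normal subgroup with a nontrivial invariant linear character is central, and the
character is injective. -/
theorem central_of_fixed (N : Subgroup G) [hN : N.Normal]
    (hmin : ∀ M : Subgroup G, M.Normal → M ≤ N → M = ⊥ ∨ M = N)
    (hc : ∀ a ∈ N, ∀ b ∈ N, a * b = b * a) {lam : N →* ℂˣ} (hlam : lam ≠ 1)
    (hfix : St (act N hc) lam = ⊤) : N ≤ Subgroup.center G ∧ Function.Injective lam := by
  have hinv : ∀ (g : G) (n : N), lam ⟨g * n * g⁻¹, hN.conj_mem (n : G) n.2 g⟩ = lam n := by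
    intro g n
    have h1 : g ∈ inertia N (fn lam) := by
      rw [mem_inertia_iff N hc, hfix]; trivial
    exact Units.ext (mem_inertia'.1 h1 n)
  have hker : (lam.ker.map N.subtype).Normal := by
    constructor
    rintro _ ⟨n, hn, rfl⟩ g
    refine ⟨⟨g * n * g⁻¹, hN.conj_mem (n : G) n.2 g⟩, ?_, rfl⟩
    show lam _ = 1
    rw [hinv]
    exact hn
  have hinj : Function.Injective lam := by
    rcases hmin _ hker (Subgroup.map_subtype_le _) with h | h
    · rw [← MonoidHom.ker_eq_bot_iff]
      exact (Subgroup.map_eq_bot_iff_of_injective _ N.subtype_injective).1 h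
    · exfalso
      apply hlam
      ext n
      have h2 : (n : G) ∈ lam.ker.map N.subtype := by rw [h]; exact n.2
      obtain ⟨m, hm, hmn⟩ := h2
      have h3 : m = n := Subtype.ext hmn
      subst h3
      rw [show lam m = 1 from hm]
      rfl
  refine ⟨fun n hn => ?_, hinj⟩
  rw [Subgroup.mem_center_iff]
  intro g
  have h1 := hinj (hinv g ⟨n, hn⟩)
  have h2 : g * n * g⁻¹ = n := congrArg Subtype.val h1
  calc g * n = g * n * g⁻¹ * g := by group
    _ = n * g := by rw [h2]

theorem perfect_sup (N : Subgroup G) [N.Normal] (h : commutator (G ⧸ N) = ⊤) :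
    N ⊔ commutator G = ⊤ := by
  have h1 : (commutator G).map (QuotientGroup.mk' N) = ⊤ := by
    rw [← h, commutator_def, commutator_def, Subgroup.map_commutator,
      Subgroup.map_top_of_surjective _ (QuotientGroup.mk'_surjective N)]
  have h2 := congrArg (Subgroup.comap (QuotientGroup.mk' N)) h1
  rw [Subgroup.comap_map_eq, QuotientGroup.ker_mk', Subgroup.comap_top] at h2
  rw [sup_comm]; exact h2

/-- Extension of a linear character of a subgroup with perfect quotient meeting `G'` trivially. -/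
theorem exists_ext_of_central (N : Subgroup G) [hN : N.Normal] (hq : commutator (G ⧸ N) = ⊤)
    (h0 : N ⊓ commutator G = ⊥) {lam : N →* ℂˣ}
    (hinv : ∀ g, g ∈ inertia N (fn lam)) :
    ∃ F : inertia N (fn lam) →* ℂˣ, ∀ n : N, F ⟨n, le_inertia' N lam n.2⟩ = lam n := by
  obtain ⟨F, hF, -⟩ := exists_extension (T := inertia N (fn lam)) h0 (perfect_sup N hq)
    (le_inertia' N lam) (lam := lam) (fun g _ => hinv g) 1
  exact ⟨F, hF⟩

end central

end Cfsg.Agent.H596.OneL2
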