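import Mathlib.GroupTheory.Transfer
import Mathlib.GroupTheory.GroupAction.Quotient
import Mathlib.Algebra.Group.Units.Defs
import Mathlib.Data.Complex.Basic

/-!
# Products over an orbit of linear characters extend (transfer) (helper596)

`T` acts transitively on `Ω`, `M` is a normal subgroup of `T` contained in all stabilisers, and
`lam : Ω → (M →* B)` is equivariant. If `lam ω` extends to the stabiliser of `ω`, then the product of all
`lam ω` extends to `T`.
-/

set_option autoImplicit false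

namespace Cfsg.Agent.H596.OneTransfer

open Subgroup MulAction

variable {T : Type*} [Group T] {B : Type*} [CommGroup B]

/-- The transfer on a normal subgroup contained in the subgroup. -/
theorem transfer_apply_normal (H M : Subgroup T) [hM : M.Normal] [H.FiniteIndex] (hMH : M ≤ H)
    (μ : H →* B) (m : T) (hm : m ∈ M) (t : T ⧸ H → T) (ht : ∀ q, (t q : T ⧸ H) = q) :
    MonoidHom.transfer μ m = ∏ᶠ q : T ⧸ H, μ ⟨(t q)⁻¹ * m * t q, hMH (by
      have := hM.conj_mem m hm (t q)⁻¹
      rwa [inv_inv] at this)⟩ := by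
  classical
  let S : H.LeftTransversal := ⟨Set.range t, isComplement_range_left ht⟩
  have _ := H.fintypeQuotientOfFiniteIndex
  rw [MonoidHom.transfer_def μ S m, finprod_eq_prod_of_fintype]
  unfold Subgroup.leftTransversals.diff
  have hS : ∀ q, (S.2.leftQuotientEquiv q : T) = t q := fun q =>
    IsComplement.leftQuotientEquiv_apply ht q
  have hq : ∀ q : T ⧸ H, m⁻¹ • q = q := by
    intro q
    obtain ⟨g, rfl⟩ := QuotientGroup.mk_surjective q
    show ((m⁻¹ * g : T) : T ⧸ H) = g
    apply QuotientGroup.eq.2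
    have h1 : (m⁻¹ * g)⁻¹ * g = g⁻¹ * m * (g⁻¹)⁻¹ := by group
    rw [h1]
    exact hMH (hM.conj_mem m hm g⁻¹)
  refine Finset.prod_congr (by congr; exact Subsingleton.elim _ _) fun q _ => ?_
  congr 1
  apply Subtype.ext
  show (S.2.leftQuotientEquiv q : T)⁻¹ * ((m • S).2.leftQuotientEquiv q : T) = (t q)⁻¹ * m * t q
  rw [smul_apply_eq_smul_apply_inv_smul, hq, hS, smul_eq_mul, mul_assoc]

/-- **Products over an orbit extend.** -/
theorem exists_prod_ext {Ω : Type*} [Fintype Ω] [MulAction T Ω] [Finite T]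
    (htr : ∀ a b : Ω, ∃ g : T, g • a = b) (M : Subgroup T) [hM : M.Normal] (lam : Ω → M →* B)
    (heq : ∀ (g : T) (ω : Ω) (m : M), lam (g • ω) m =
      lam ω ⟨g⁻¹ * m * g, by
        have := hM.conj_mem m m.2 g⁻¹
        rwa [inv_inv] at this⟩) (ω₀ : Ω)
    (hMs : M ≤ stabilizer T ω₀) (μ : stabilizer T ω₀ →* B)
    (hμ : ∀ m : M, μ ⟨m, hMs m.2⟩ = lam ω₀ m) :
    ∃ F : T →* B, ∀ m : M, F m = ∏ ω, lam ω m := by
  classical
  refine ⟨MonoidHom.transfer μ, fun m => ?_⟩
  have _ : Fintype (T ⧸ stabilizer T ω₀) := Fintype.ofFinite _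
  rw [transfer_apply_normal (stabilizer T ω₀) M hMs μ m m.2 Quotient.out Quotient.out_eq',
    finprod_eq_prod_of_fintype]
  let e : T ⧸ stabilizer T ω₀ → Ω := ofQuotientStabilizer T ω₀
  have he : Function.Bijective e := by
    refine ⟨injective_ofQuotientStabilizer T ω₀, fun b => ?_⟩
    obtain ⟨g, hg⟩ := htr ω₀ b
    exact ⟨(g : T ⧸ stabilizer T ω₀), hg⟩
  rw [← he.prod_comp (fun ω => lam ω m)]
  refine Finset.prod_congr rfl fun q _ => ?_
  have h1 : e q = (Quotient.out q : T) • ω₀ := by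
    conv_lhs => rw [← Quotient.out_eq' q]
    rfl
  show _ = lam (e q) m
  rw [h1, heq, ← hμ]

end Cfsg.Agent.H596.OneTransfer
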