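import Cfsg.Agent.H596.OneV
import Cfsg.Agent.H596.OneTransfer

/-!
# The symmetric group of degree five (helper596, for S4764)

Facts on `S5` (checked by computation in the kernel), and: `S5` does not act on a nontrivial abelian group
such that every nontrivial element is fixed by exactly one Sylow 3-subgroup.
-/

set_option autoImplicit false
set_option maxRecDepth 100000

open Cfsg

namespace Cfsg.Agent.H596.OneSfive

open Cfsg.Agent.H596.OneSing Cfsg.Agent.H596.OnePart Cfsg.Agent.H596.OneL2 Cfsg.Agent.H670.PSing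
  Cfsg.Agent.H596.OneCtx Cfsg.Agent.H596.OneKlein Cfsg.Agent.H596.OneV
open Equiv

universe u

/-- The symmetric group of degree five. -/
abbrev S5 := Perm (Fin 5)

/-- `(0 1 2)` -/
def c : S5 := swap 0 1 * swap 1 2

/-- `(0 1)` -/
def tau : S5 := swap 0 1

section facts

def Q1 (x y : S5) : Prop :=
  ∃ i : Fin 5, x i = i ∧ (y i = i ∨ ((y * x * y * y) i = i ∧ y * x ≠ x * y ∧ y * x ≠ x * x * y))

instance (x y : S5) : Decidable (Q1 x y) := by unfold Q1; infer_instance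

theorem D1 : ∀ x : S5, x * x * x = 1 → x ≠ 1 → ∀ y : S5, y * y * y = 1 → y ≠ 1 → y ≠ x → y ≠ x * x →
    Q1 x y := by decide +kernel

theorem D2 : ∀ (x : S5) (i : Fin 5), x * x * x = 1 → x ≠ 1 → x i = i →
    ∃ g : S5, g i = 4 ∧ g * x * g⁻¹ = c := by
  decide +kernel

theorem D3 : ∀ y : S5, y * y * y = 1 → y ≠ 1 → y 4 = 4 → y ≠ c → y ≠ c * c →
    ∀ z : S5, z * z * z = 1 → z 4 = 4 →
      z = 1 ∨ z = c ∨ z = c * c ∨ z = y ∨ z = y * y ∨ z = c * y * (c * c) ∨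
        z = c * (y * y) * (c * c) ∨ z = c * c * y * c ∨ z = c * c * (y * y) * c := by
  decide +kernel

theorem D4 : ∀ g : S5, g 4 = 4 → ∃ z : S5, z 4 = 4 ∧ z * z * z = 1 ∧ ∃ w : S5, w 4 = 4 ∧
    w * w * w = 1 ∧ (g = z * w ∨ g = z * w * tau) := by
  decide +kernel

theorem D6 : ∀ g : S5, ∃ z : S5, z * z * z = 1 ∧ ∃ w : S5, w * w * w = 1 ∧
    (g = z * w ∨ g = z * w * tau) := by
  decide +kernel

end facts

section syl

theorem card_S5 : Nat.card S5 = 120 := by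
  rw [Nat.card_eq_fintype_card, Fintype.card_perm, Fintype.card_fin]; rfl

theorem card_sylow (Q : Sylow 3 S5) : Nat.card Q = 3 := by
  have h1 := Q.card_eq_multiplicity
  rw [card_S5] at h1
  have h2 : Nat.factorization 120 3 = 1 := by
    have h3 : (120 : ℕ) = 3 ^ 1 * 40 := by norm_num
    rw [h3, Nat.factorization_mul (by norm_num) (by norm_num), Finsupp.add_apply,
      Nat.Prime.factorization_pow Nat.prime_three, Finsupp.single_eq_same,
      Nat.factorization_eq_zero_of_not_dvd (by norm_num : ¬ 3 ∣ 40)]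
  rw [h2, pow_one] at h1
  exact h1

theorem exists_gen (Q : Sylow 3 S5) : ∃ x ∈ Q, x * x * x = 1 ∧ x ≠ 1 ∧
    ∀ z ∈ Q, z = 1 ∨ z = x ∨ z = x * x := by
  have hc : Nat.card (Q : Subgroup S5) = 3 := card_sylow Q
  have hnt : Nontrivial (Q : Subgroup S5) := Finite.one_lt_card_iff_nontrivial.1 (by rw [hc]; norm_num)
  obtain ⟨x, hx⟩ := exists_ne (1 : (Q : Subgroup S5))
  have ho : orderOf x = 3 := by
    have h1 := orderOf_dvd_natCard x
    rw [hc] at h1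
    rcases (Nat.dvd_prime Nat.prime_three).1 h1 with h2 | h2
    · exact absurd (orderOf_eq_one_iff.1 h2) hx
    · exact h2
  have hx3 : x * x * x = 1 := by
    have := pow_orderOf_eq_one x
    rw [ho] at this
    rwa [pow_succ, pow_succ, pow_one] at this
  have htop : Subgroup.zpowers x = ⊤ := by
    apply Subgroup.eq_top_of_card_eq
    rw [Nat.card_zpowers, ho, hc]
  refine ⟨x, x.2, congrArg Subtype.val hx3, fun h => hx (Subtype.ext h), fun z hz => ?_⟩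
  have h2 : (⟨z, hz⟩ : (Q : Subgroup S5)) ∈ Subgroup.zpowers x := by rw [htop]; trivial
  rw [mem_zpowers_iff_mem_range_orderOf] at h2
  obtain ⟨k, hk, hkz⟩ := Finset.mem_image.1 h2
  rw [Finset.mem_range, ho] at hk
  have h3 : z = ((x ^ k : (Q : Subgroup S5)) : S5) := by rw [hkz]
  interval_cases k
  · left; rw [h3, pow_zero]; rfl
  · right; left; rw [h3, pow_one]
  · right; right; rw [h3, pow_two]; rfl

theorem eq_of_mem {Q R : Sylow 3 S5} {x : S5} (hx : x ≠ 1) (hQ : x ∈ Q) (hR : x ∈ R) : Q = R := by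
  have h1 : ∀ P : Sylow 3 S5, x ∈ P → (P : Subgroup S5) = Subgroup.zpowers x := by
    intro P hP
    symm
    apply Subgroup.eq_of_le_of_card_ge (Subgroup.zpowers_le.2 hP)
    have hd : Nat.card (Subgroup.zpowers x) ∣ Nat.card (P : Subgroup S5) :=
      Subgroup.card_dvd_of_le (Subgroup.zpowers_le.2 hP)
    have h2 : Nat.card (P : Subgroup S5) = 3 := card_sylow P
    rw [h2] at hd ⊢
    rcases (Nat.dvd_prime Nat.prime_three).1 hd with h3 | h3
    · rw [Nat.card_zpowers, orderOf_eq_one_iff] at h3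
      exact absurd h3 hx
    · rw [h3]
  exact Sylow.ext ((h1 Q hQ).trans (h1 R hR).symm)

theorem exists_sylow_mem {x : S5} (hx : x * x * x = 1) : ∃ Q : Sylow 3 S5, x ∈ Q := by
  have h1 : IsPGroup 3 (Subgroup.zpowers x) := by
    rintro ⟨y, hy⟩
    obtain ⟨k, rfl⟩ := Subgroup.mem_zpowers_iff.1 hy
    refine ⟨1, Subtype.ext ?_⟩
    show (x ^ k) ^ (3 ^ 1) = 1
    rw [pow_one, ← zpow_natCast, ← zpow_mul, mul_comm, zpow_mul, zpow_natCast]
    have : x ^ 3 = 1 := by rw [pow_succ, pow_succ, pow_one]; exact hx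
    rw [this, one_zpow]
  obtain ⟨Q, hQ⟩ := h1.exists_le_sylow
  exact ⟨Q, hQ (Subgroup.mem_zpowers x)⟩

end syl

section klein

/-- The condition for `fix_trivial`. -/
theorem fix_cond (t w c₁ c₂ : S5) (h1 : c₁ * c₁ * c₁ = 1) (h1' : c₁ ≠ 1) (h2 : c₂ * c₂ * c₂ = 1)
    (h2' : c₂ ≠ 1) (hne : c₂ ≠ c₁ ∧ c₂ ≠ c₁ * c₁)
    (ht : ∀ x : S5, x * x * x = 1 → x ≠ 1 → (t * x = x * t ∨ t * x = x * x * t) →
      x = c₁ ∨ x = c₁ * c₁ ∨ x = c₂ ∨ x = c₂ * c₂)
    (hw : w * t = t * w) (hw1 : w * c₁ * w⁻¹ = c₂ ∨ w * c₁ * w⁻¹ = c₂ * c₂)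
    (hw2 : w * c₂ * w⁻¹ = c₁ ∨ w * c₂ * w⁻¹ = c₁ * c₁) :
    (∀ Q : Sylow 3 S5, t • Q ≠ Q) ∨ ∃ (Q₁ Q₂ : Sylow 3 S5) (w : S5), Q₁ ≠ Q₂ ∧
      (∀ Q : Sylow 3 S5, t • Q = Q → Q = Q₁ ∨ Q = Q₂) ∧ w * t = t * w ∧ w • Q₁ = Q₂ ∧
        w • Q₂ = Q₁ := by
  right
  obtain ⟨Q₁, hQ₁⟩ := exists_sylow_mem h1
  obtain ⟨Q₂, hQ₂⟩ := exists_sylow_mem h2
  have hsm : ∀ (g x : S5) (Q : Sylow 3 S5), x ∈ Q → g * x * g⁻¹ ∈ g • Q := by
    intro g x Q hx
    show g * x * g⁻¹ ∈ ((g • Q : Sylow 3 S5) : Subgroup S5)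
    rw [Sylow.coe_subgroup_smul]
    exact ⟨x, hx, rfl⟩
  have hconj : ∀ (g x : S5), x ≠ 1 → g * x * g⁻¹ ≠ 1 := by
    intro g x hx h
    exact hx (conj_eq_one_iff.1 h)
  have hcc : ∀ (x : S5) (Q : Sylow 3 S5), x ∈ Q → x * x ∈ Q := fun x Q hx => mul_mem hx hx
  refine ⟨Q₁, Q₂, w, ?_, ?_, hw, ?_, ?_⟩
  · rintro rfl
    obtain ⟨x, hx, hx3, hx1, hall⟩ := exists_gen Q₁
    have e1 := hall _ hQ₁
    have e2 := hall _ hQ₂
    rcases e1 with e1 | e1 | e1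
    · exact h1' e1
    · rcases e2 with e2 | e2 | e2
      · exact h2' e2
      · exact hne.1 (by rw [e1, e2])
      · exact hne.2 (by rw [e1, e2])
    · rcases e2 with e2 | e2 | e2
      · exact h2' e2
      · apply hne.2
        rw [e1, e2]
        calc x = (x * x * x) * x := by rw [hx3, one_mul]
          _ = x * x * (x * x) := by group
      · exact hne.1 (by rw [e1, e2])
  · intro Q hQ
    obtain ⟨x, hx, hx3, hx1, hall⟩ := exists_gen Q
    have h3 : t * x * t⁻¹ ∈ Q := by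
      have := hsm t x Q hx
      rwa [hQ] at this
    have h4 : t * x = x * t ∨ t * x = x * x * t := by
      rcases hall _ h3 with h5 | h5 | h5
      · exact absurd h5 (hconj t x hx1)
      · left; rw [← mul_inv_eq_iff_eq_mul]; exact h5
      · right; rw [← mul_inv_eq_iff_eq_mul]; exact h5
    rcases ht x hx3 hx1 h4 with h5 | h5 | h5 | h5
    · left; exact eq_of_mem h1' (h5 ▸ hx) hQ₁
    · left; exact eq_of_mem hx1 hx (h5 ▸ hcc _ _ hQ₁)
    · right; exact eq_of_mem h2' (h5 ▸ hx) hQ₂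
    · right; exact eq_of_mem hx1 hx (h5 ▸ hcc _ _ hQ₂)
  · rcases hw1 with h5 | h5
    · exact eq_of_mem (hconj w _ h1') (hsm w _ _ hQ₁) (h5 ▸ hQ₂)
    · exact eq_of_mem (hconj w _ h1') (hsm w _ _ hQ₁) (h5 ▸ hcc _ _ hQ₂)
  · rcases hw2 with h5 | h5
    · exact eq_of_mem (hconj w _ h2') (hsm w _ _ hQ₂) (h5 ▸ hQ₁)
    · exact eq_of_mem (hconj w _ h2') (hsm w _ _ hQ₂) (h5 ▸ hcc _ _ hQ₁)

def t₁ : S5 := swap 0 1 * swap 2 3
def t₂ : S5 := swap 0 2 * swap 1 3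
def t₃ : S5 := swap 0 3 * swap 1 2

theorem cond₁ : (∀ Q : Sylow 3 S5, t₁ • Q ≠ Q) ∨ ∃ (Q₁ Q₂ : Sylow 3 S5) (w : S5), Q₁ ≠ Q₂ ∧
      (∀ Q : Sylow 3 S5, t₁ • Q = Q → Q = Q₁ ∨ Q = Q₂) ∧ w * t₁ = t₁ * w ∧ w • Q₁ = Q₂ ∧
        w • Q₂ = Q₁ :=
  fix_cond t₁ t₂ (swap 0 1 * swap 1 4) (swap 2 3 * swap 3 4) (by decide +kernel) (by decide +kernel)
    (by decide +kernel) (by decide +kernel) (by decide +kernel) (by decide +kernel) (by decide +kernel)
    (by decide +kernel) (by decide +kernel)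

theorem cond₂ : (∀ Q : Sylow 3 S5, t₂ • Q ≠ Q) ∨ ∃ (Q₁ Q₂ : Sylow 3 S5) (w : S5), Q₁ ≠ Q₂ ∧
      (∀ Q : Sylow 3 S5, t₂ • Q = Q → Q = Q₁ ∨ Q = Q₂) ∧ w * t₂ = t₂ * w ∧ w • Q₁ = Q₂ ∧
        w • Q₂ = Q₁ :=
  fix_cond t₂ t₁ (swap 0 2 * swap 2 4) (swap 1 3 * swap 3 4) (by decide +kernel) (by decide +kernel)
    (by decide +kernel) (by decide +kernel) (by decide +kernel) (by decide +kernel) (by decide +kernel)
    (by decide +kernel) (by decide +kernel)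

theorem cond₃ : (∀ Q : Sylow 3 S5, t₃ • Q ≠ Q) ∨ ∃ (Q₁ Q₂ : Sylow 3 S5) (w : S5), Q₁ ≠ Q₂ ∧
      (∀ Q : Sylow 3 S5, t₃ • Q = Q → Q = Q₁ ∨ Q = Q₂) ∧ w * t₃ = t₃ * w ∧ w • Q₁ = Q₂ ∧
        w • Q₂ = Q₁ :=
  fix_cond t₃ t₁ (swap 0 3 * swap 3 4) (swap 1 2 * swap 2 4) (by decide +kernel) (by decide +kernel)
    (by decide +kernel) (by decide +kernel) (by decide +kernel) (by decide +kernel) (by decide +kernel)
    (by decide +kernel) (by decide +kernel)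

/-- `S5` does not act with the partition property. -/
theorem trivial_of_part {A : Type*} [CommGroup A] (ρ : S5 →* MulAut A)
    (h : ∀ a : A, a ≠ 1 → ∃! Q : Sylow 3 S5, (Q : Subgroup S5) ≤ St ρ a) (a : A) : a = 1 := by
  have sq : ∀ t : S5, t * t = 1 → ∀ b : A, ρ t (ρ t b) = b := by
    intro t ht b
    rw [← MulAut.mul_apply, ← map_mul, ht, map_one]
    rfl
  refine eq_one_of_klein ρ t₁ t₂ (sq _ (by decide +kernel)) (sq _ (by decide +kernel))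
    (fun b hb => fix_trivial ρ h t₁ cond₁ hb) (fun b hb => fix_trivial ρ h t₂ cond₂ hb) ?_ a
  intro b hb
  rw [show t₁ * t₂ = t₃ by decide +kernel] at hb
  exact fix_trivial ρ h t₃ cond₃ hb

end klein

end Cfsg.Agent.H596.OneSfive
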