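import Cfsg.Agent.H596.OneSfive

/-!
# The symmetric group of degree five acting on a 2-group (helper596, for S4764)

`exists_fixed` : `S5` acts on an elementary abelian 2-group, every nontrivial element is fixed by a Sylow
3-subgroup: some nontrivial element is fixed by the stabiliser of a point.
-/

set_option autoImplicit false
set_option maxRecDepth 100000

open Cfsg

namespace Cfsg.Agent.H596.OneSfive

open Cfsg.Agent.H596.OneSing Cfsg.Agent.H596.OnePart Cfsg.Agent.H596.OneL2 Cfsg.Agent.H670.PSing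
  Cfsg.Agent.H596.OneCtx Cfsg.Agent.H596.OneKlein Cfsg.Agent.H596.OneV
open Equiv

universe u

section transport

variable {p : ℕ} [Fact p.Prime] {X Y A : Type*} [Group X] [Group Y] [Finite X] [CommGroup A]

/-- Transport of an action. -/
def tr (e : X ≃* Y) (ρ : X →* MulAut A) : Y →* MulAut A := ρ.comp e.symm.toMonoidHom

omit [Finite X] in
theorem tr_apply (e : X ≃* Y) (ρ : X →* MulAut A) (x : X) : tr e ρ (e x) = ρ x := by
  show ρ (e.symm (e x)) = ρ x
  rw [e.symm_apply_apply]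

/-- The image of a Sylow subgroup. -/
noncomputable def ms (e : X ≃* Y) (Q : Sylow p X) : Sylow p Y :=
  Q.mapSurjective (f := e.toMonoidHom) e.surjective

theorem map_le_iff (e : X ≃* Y) (ρ : X →* MulAut A) (Q : Sylow p X) (a : A) :
    (ms e Q : Subgroup Y) ≤ St (tr e ρ) a ↔
      (Q : Subgroup X) ≤ St ρ a := by
  constructor
  · intro h x hx
    have h1 : e x ∈ St (tr e ρ) a := h ⟨x, hx, rfl⟩
    rw [mem_St, tr_apply] at h1
    exact h1
  · rintro h _ ⟨x, hx, rfl⟩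
    rw [mem_St]
    show tr e ρ (e x) a = a
    rw [tr_apply]
    exact h hx

theorem exists_tr (e : X ≃* Y) (ρ : X →* MulAut A) (a : A)
    (h : ∃ Q : Sylow p X, (Q : Subgroup X) ≤ St ρ a) :
    ∃ Q : Sylow p Y, (Q : Subgroup Y) ≤ St (tr e ρ) a := by
  obtain ⟨Q, hQ⟩ := h
  exact ⟨ms e Q, (map_le_iff e ρ Q a).2 hQ⟩

theorem unique_tr (e : X ≃* Y) (ρ : X →* MulAut A) (a : A)
    (h : ∃! Q : Sylow p X, (Q : Subgroup X) ≤ St ρ a) :
    ∃! Q : Sylow p Y, (Q : Subgroup Y) ≤ St (tr e ρ) a := by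
  obtain ⟨Q, hQ, hu⟩ := h
  refine ⟨ms e Q, (map_le_iff e ρ Q a).2 hQ, fun R hR => ?_⟩
  obtain ⟨R, rfl⟩ : ∃ R', ms e R' = R :=
    Sylow.mapSurjective_surjective (f := e.toMonoidHom) e.surjective p R
  rw [hu R ((map_le_iff e ρ R a).1 hR)]

end transport

section

variable {A : Type*} [CommGroup A] (ρ : S5 →* MulAut A)

theorem inv_three {y : S5} (hy : y * y * y = 1) : y⁻¹ = y * y := by
  rw [inv_eq_iff_mul_eq_one, ← mul_assoc]; exact hy

/-- The group fixing `b` contains all 3-elements fixing a point. -/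
theorem exists_conj {b : A} (Q R : Sylow 3 S5) (hQR : Q ≠ R) (hQ : (Q : Subgroup S5) ≤ St ρ b)
    (hR : (R : Subgroup S5) ≤ St ρ b) :
    ∃ g : S5, ∀ z : S5, z * z * z = 1 → z 4 = 4 → ρ z (ρ g b) = ρ g b := by
  obtain ⟨x, hx, hx3, hx1, hxall⟩ := exists_gen Q
  obtain ⟨y, hy, hy3, hy1, hyall⟩ := exists_gen R
  have hxS : x ∈ St ρ b := hQ hx
  have hyS : y ∈ St ρ b := hR hy
  have hyx : y ≠ x := fun h => hQR (eq_of_mem hx1 hx (h ▸ hy))
  have hyx2 : y ≠ x * x := fun h => hQR (eq_of_mem hy1 (h ▸ mul_mem hx hx) hy)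
  obtain ⟨i, hxi, hi⟩ := D1 x hx3 hx1 y hy3 hy1 hyx hyx2
  -- the second element fixing `i`
  obtain ⟨y', hy'S, hy'3, hy'1, hy'i, hy'x, hy'x2⟩ : ∃ y' ∈ St ρ b, y' * y' * y' = 1 ∧ y' ≠ 1 ∧
      y' i = i ∧ y' ≠ x ∧ y' ≠ x * x := by
    rcases hi with hi | ⟨hi, hne1, hne2⟩
    · exact ⟨y, hyS, hy3, hy1, hi, hyx, hyx2⟩
    · refine ⟨y * x * y⁻¹, mul_mem (mul_mem hyS hxS) (inv_mem hyS), ?_, ?_, ?_, ?_, ?_⟩
      · have h1 : y * x * y⁻¹ * (y * x * y⁻¹) * (y * x * y⁻¹) = y * (x * x * x) * y⁻¹ := by group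
        rw [h1, hx3, mul_one, mul_inv_cancel]
      · intro h
        exact hx1 (conj_eq_one_iff.1 h)
      · rw [inv_three hy3, ← mul_assoc]
        exact hi
      · intro h
        exact hne1 (mul_inv_eq_iff_eq_mul.1 h)
      · intro h
        exact hne2 (mul_inv_eq_iff_eq_mul.1 h)
  obtain ⟨g, hgi, hgx⟩ := D2 x i hx3 hx1 hxi
  have hSt : ∀ z ∈ St ρ b, g * z * g⁻¹ ∈ St ρ (ρ g b) := by
    intro z hz
    rw [mem_St, ← MulAut.mul_apply, ← map_mul, inv_mul_cancel_right, map_mul, MulAut.mul_apply]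
    rw [show ρ z b = b from hz]
  have hc : c ∈ St ρ (ρ g b) := hgx ▸ hSt x hxS
  set y'' := g * y' * g⁻¹ with hy''
  have hyS'' : y'' ∈ St ρ (ρ g b) := hSt y' hy'S
  have h3'' : y'' * y'' * y'' = 1 := by
    have h1 : g * y' * g⁻¹ * (g * y' * g⁻¹) * (g * y' * g⁻¹) = g * (y' * y' * y') * g⁻¹ := by group
    rw [hy'', h1, hy'3, mul_one, mul_inv_cancel]
  have h1'' : y'' ≠ 1 := fun h => hy'1 (conj_eq_one_iff.1 h)
  have h4'' : y'' 4 = 4 := by
    rw [hy'', Perm.mul_apply, Perm.mul_apply]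
    have h1 : g⁻¹ 4 = i := by rw [Perm.inv_eq_iff_eq]; exact hgi.symm
    rw [h1, hy'i, hgi]
  have hc'' : y'' ≠ c := by
    intro h
    rw [hy'', ← hgx] at h
    exact hy'x (mul_left_cancel (mul_right_cancel h))
  have hcc'' : y'' ≠ c * c := by
    intro h
    apply hy'x2
    have h1 : c * c = g * (x * x) * g⁻¹ := by rw [← hgx]; group
    rw [hy'', h1] at h
    exact mul_left_cancel (mul_right_cancel h)
  refine ⟨g, fun z hz3 hz4 => ?_⟩
  show z ∈ St ρ (ρ g b)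
  rcases D3 y'' h3'' h1'' h4'' hc'' hcc'' z hz3 hz4 with h | h | h | h | h | h | h | h | h <;> rw [h]
  · exact one_mem _
  · exact hc
  · exact mul_mem hc hc
  · exact hyS''
  · exact mul_mem hyS'' hyS''
  · exact mul_mem (mul_mem hc hyS'') (mul_mem hc hc)
  · exact mul_mem (mul_mem hc (mul_mem hyS'' hyS'')) (mul_mem hc hc)
  · exact mul_mem (mul_mem (mul_mem hc hc) hyS'') hc
  · exact mul_mem (mul_mem (mul_mem hc hc) (mul_mem hyS'' hyS'')) hc

theorem tau_tau : tau * tau = 1 := by decide +kernel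

theorem tau_four : tau 4 = 4 := by decide +kernel

/-- **`S5` on a 2-group.** -/
theorem exists_fixed (h2 : ∀ a : A, a * a = 1)
    (hfix : ∀ a : A, a ≠ 1 → ∃ Q : Sylow 3 S5, (Q : Subgroup S5) ≤ St ρ a) (hnt : ∃ a : A, a ≠ 1) :
    ∃ a : A, a ≠ 1 ∧ ∀ g : S5, g 4 = 4 → ρ g a = a := by
  obtain ⟨a₀, ha₀⟩ := hnt
  -- some element is fixed by two Sylow subgroups
  obtain ⟨b, hb, Q, R, hQR, hQ, hR⟩ : ∃ b : A, b ≠ 1 ∧ ∃ Q R : Sylow 3 S5, Q ≠ R ∧
      (Q : Subgroup S5) ≤ St ρ b ∧ (R : Subgroup S5) ≤ St ρ b := by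
    by_contra hcon
    apply ha₀
    apply trivial_of_part ρ
    intro a ha
    obtain ⟨Q, hQ⟩ := hfix a ha
    refine ⟨Q, hQ, fun R hR => ?_⟩
    by_contra hne
    exact hcon ⟨a, ha, R, Q, hne, hR, hQ⟩
  obtain ⟨g, hg⟩ := exists_conj ρ Q R hQR hQ hR
  set b' := ρ g b with hb'
  have hb'1 : b' ≠ 1 := by
    intro h
    exact hb ((map_eq_one_iff _ (ρ g).injective).1 h)
  have htt : ∀ a : A, ρ tau (ρ tau a) = a := by
    intro a
    rw [← MulAut.mul_apply, ← map_mul, tau_tau, map_one]; rfl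
  -- `ρ tau b'` is fixed by the same elements
  have hτ : ∀ z : S5, z * z * z = 1 → z 4 = 4 → ρ z (ρ tau b') = ρ tau b' := by
    intro z hz3 hz4
    have h1 := hg (tau * z * tau) (by
      have h3 : tau * z * tau * (tau * z * tau) * (tau * z * tau) =
          tau * z * (tau * tau) * z * (tau * tau) * z * tau := by group
      rw [h3, tau_tau, mul_one, mul_one]
      have h4 : tau * z * z * z * tau = tau * (z * z * z) * tau := by group
      rw [h4, hz3, mul_one, tau_tau]) (by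
      rw [Perm.mul_apply, Perm.mul_apply, tau_four, hz4, tau_four])
    rw [map_mul, map_mul, MulAut.mul_apply, MulAut.mul_apply] at h1
    have h5 := congrArg (ρ tau) h1
    rw [htt] at h5
    exact h5
  -- a fixed element
  obtain ⟨a, ha, ha3, haτ⟩ : ∃ a : A, a ≠ 1 ∧ (∀ z : S5, z * z * z = 1 → z 4 = 4 → ρ z a = a) ∧
      ρ tau a = a := by
    by_cases h : b' * ρ tau b' = 1
    · refine ⟨b', hb'1, hg, ?_⟩
      have h1 : ρ tau b' = b'⁻¹ := (inv_eq_of_mul_eq_one_right h).symm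
      rw [h1]
      exact inv_eq_of_mul_eq_one_right (h2 b')
    · refine ⟨b' * ρ tau b', h, fun z hz3 hz4 => ?_, ?_⟩
      · rw [map_mul, hg z hz3 hz4, hτ z hz3 hz4]
      · rw [map_mul, htt, mul_comm]
  refine ⟨a, ha, fun g' hg' => ?_⟩
  obtain ⟨z, hz4, hz3, w, hw4, hw3, h | h⟩ := D4 g' hg'
  · rw [h, map_mul, MulAut.mul_apply, ha3 w hw3 hw4, ha3 z hz3 hz4]
  · rw [h, map_mul, map_mul, MulAut.mul_apply, MulAut.mul_apply, haτ, ha3 w hw3 hw4, ha3 z hz3 hz4]

/-- The translates of an element fixed by the stabiliser of the last point. -/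
def om (a : A) (j : Fin 5) : A := ρ (swap j 4) a

theorem om_four (a : A) : om ρ a 4 = a := by
  unfold om
  rw [swap_self]
  have : (Equiv.refl (Fin 5) : S5) = 1 := rfl
  rw [this, map_one]; rfl

theorem rho_om {a : A} (ha : ∀ g : S5, g 4 = 4 → ρ g a = a) (g : S5) (j : Fin 5) :
    ρ g (om ρ a j) = om ρ a (g j) := by
  unfold om
  have h1 := ha ((swap (g j) 4)⁻¹ * g * swap j 4) (by
    rw [Perm.mul_apply, Perm.mul_apply, swap_apply_right, swap_inv, swap_apply_left])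
  rw [← MulAut.mul_apply, ← map_mul]
  have h2 : g * swap j 4 = swap (g j) 4 * ((swap (g j) 4)⁻¹ * g * swap j 4) := by group
  rw [h2, map_mul, MulAut.mul_apply, h1]

theorem rho_prod {a : A} (ha : ∀ g : S5, g 4 = 4 → ρ g a = a) (g : S5) :
    ρ g (∏ j, om ρ a j) = ∏ j, om ρ a j := by
  rw [map_prod, Finset.prod_congr rfl (fun j _ => rho_om ρ ha g j)]
  exact Equiv.prod_comp g (fun j => om ρ a j)

/-- An element fixed by the 3-elements gives a fixed point of `S5`. -/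
theorem exists_inv (h2 : ∀ a : A, a * a = 1) {b : A} (hb : b ≠ 1)
    (h3 : ∀ z : S5, z * z * z = 1 → ρ z b = b) : ∃ a : A, a ≠ 1 ∧ ∀ g : S5, ρ g a = a := by
  have htt : ∀ a : A, ρ tau (ρ tau a) = a := by
    intro a
    rw [← MulAut.mul_apply, ← map_mul, tau_tau, map_one]; rfl
  have hτ : ∀ z : S5, z * z * z = 1 → ρ z (ρ tau b) = ρ tau b := by
    intro z hz3
    have h1 := h3 (tau * z * tau) (by
      have h3 : tau * z * tau * (tau * z * tau) * (tau * z * tau) =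
          tau * z * (tau * tau) * z * (tau * tau) * z * tau := by group
      rw [h3, tau_tau, mul_one, mul_one]
      have h4 : tau * z * z * z * tau = tau * (z * z * z) * tau := by group
      rw [h4, hz3, mul_one, tau_tau])
    rw [map_mul, map_mul, MulAut.mul_apply, MulAut.mul_apply] at h1
    have h5 := congrArg (ρ tau) h1
    rw [htt] at h5
    exact h5
  obtain ⟨a, ha, ha3, haτ⟩ : ∃ a : A, a ≠ 1 ∧ (∀ z : S5, z * z * z = 1 → ρ z a = a) ∧
      ρ tau a = a := by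
    by_cases h : b * ρ tau b = 1
    · refine ⟨b, hb, h3, ?_⟩
      have h1 : ρ tau b = b⁻¹ := (inv_eq_of_mul_eq_one_right h).symm
      rw [h1]
      exact inv_eq_of_mul_eq_one_right (h2 b)
    · refine ⟨b * ρ tau b, h, fun z hz3 => ?_, ?_⟩
      · rw [map_mul, h3 z hz3, hτ z hz3]
      · rw [map_mul, htt, mul_comm]
  refine ⟨a, ha, fun g => ?_⟩
  obtain ⟨z, hz3, w, hw3, h | h⟩ := D6 g
  · rw [h, map_mul, MulAut.mul_apply, ha3 w hw3, ha3 z hz3]
  · rw [h, map_mul, map_mul, MulAut.mul_apply, MulAut.mul_apply, haτ, ha3 w hw3, ha3 z hz3]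

end

end Cfsg.Agent.H596.OneSfive
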