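import Cfsg.Agent.H596.OneSfiveB

/-!
# The quotient `S5` (helper596, for S4764)

`N` is an abelian minimal normal subgroup of `G`, `G ⧸ N = S5`, and the irreducible characters of `G` not
trivial on `N` have degree prime to 3.

* `Ctx.s5_ne_two` : `N` is a 2-group;
* `Ctx.s5_two` : some nontrivial linear character of `N` is invariant.
-/

set_option autoImplicit false
set_option maxRecDepth 100000

open Cfsg

namespace Cfsg.Agent.H596.OneSfive

open Cfsg.Agent.H596.OneSing Cfsg.Agent.H596.OnePart Cfsg.Agent.H596.OneL2 Cfsg.Agent.H670.PSing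
  Cfsg.Agent.H596.OneCtx Cfsg.Agent.H596.OneKlein Cfsg.Agent.H596.OneV
open Cfsg.Agent.OddOrderCharacters.PF9.CliffGen
open Equiv

universe u

variable {G : Type u} [Group G] [Finite G] {N : Subgroup G}

/-- The partition property implies a contradiction for `G ⧸ N = S5`. -/
theorem false_of_part [N.Normal] (hN : N ≠ ⊥) (hc : ∀ a ∈ N, ∀ b ∈ N, a * b = b * a)
    (e : G ⧸ N ≃* S5)
    (h : ∀ b : N →* ℂˣ, b ≠ 1 → ∃! Q : Sylow 3 (G ⧸ N), (Q : Subgroup (G ⧸ N)) ≤ St (act N hc) b) :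
    False := by
  have h1 := trivial_of_part (A := N →* ℂˣ) (tr (A := N →* ℂˣ) e (act N hc)) (fun b hb => unique_tr e _ b (h b hb))
  have h2 : Nat.card (N →* ℂˣ) = 1 :=
    Nat.card_eq_one_iff_unique.2 ⟨⟨fun a b => by rw [h1 a, h1 b]⟩, ⟨1⟩⟩
  rw [card_hom hc] at h2
  exact hN (Subgroup.card_eq_one.1 h2)

theorem index_eq [N.Normal] (e : G ⧸ N ≃* S5) : N.index = 120 := by
  have h1 : Nat.card (G ⧸ N) = Nat.card S5 := Nat.card_congr e.toEquiv
  rw [card_S5] at h1
  exact h1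

theorem Ctx.s5_eq_two {r : ℕ} (h : Ctx 3 r N) [N.Normal] (hr : r.Prime) (hIM : AllIM.{u} 3)
    (e : G ⧸ N ≃* S5) : r = 2 := by
  by_contra hr2
  have hrF := Fact.mk hr
  have h3F : Fact (Nat.Prime 3) := ⟨Nat.prime_three⟩
  apply false_of_part h.ne h.comm e
  intro b hb
  by_cases hr3 : r = 3
  · subst hr3
    exact partD h hIM b hb
  · obtain ⟨F, hF⟩ := ext_of_sq' N h.pgr (by
      rw [index_eq e]
      intro hd
      have h5 : r ∣ 120 := (dvd_pow_self r two_ne_zero).trans hd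
      have h6 : (120 : ℕ) = 2 ^ 3 * 3 * 5 := by norm_num
      rw [h6] at h5
      have h7 : r = 5 := by
        rcases (Nat.Prime.dvd_mul hr).1 h5 with h8 | h8
        · rcases (Nat.Prime.dvd_mul hr).1 h8 with h9 | h9
          · exact absurd ((Nat.prime_dvd_prime_iff_eq hr Nat.prime_two).1 (hr.dvd_of_dvd_pow h9)) hr2
          · exact absurd ((Nat.prime_dvd_prime_iff_eq hr Nat.prime_three).1 h9) hr3
        · exact (Nat.prime_dvd_prime_iff_eq hr Nat.prime_five).1 h8
      subst h7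
      norm_num at hd) b
    exact (unique_of_ext N h.comm h.prm (fun T => hIM T) hb F hF).1

/-- The stabiliser of two points. -/
def K₂ : Subgroup S5 where
  carrier := {g | g 4 = 4 ∧ g 0 = 0}
  one_mem' := ⟨rfl, rfl⟩
  mul_mem' := by
    rintro a b ⟨ha, ha'⟩ ⟨hb, hb'⟩
    exact ⟨by rw [Perm.mul_apply, hb, ha], by rw [Perm.mul_apply, hb', ha']⟩
  inv_mem' := by
    rintro a ⟨ha, ha'⟩
    exact ⟨by rw [Perm.inv_eq_iff_eq, ha], by rw [Perm.inv_eq_iff_eq, ha']⟩

theorem card_K₂ : Nat.card K₂ = 6 := by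
  have h1 : Nat.card K₂ = Nat.card {g : S5 // g 4 = 4 ∧ g 0 = 0} := rfl
  rw [h1, Nat.card_eq_fintype_card]
  decide +kernel

/-- The sum over the orbit: `lam` extends to its inertia group. -/
theorem ext_of_fixed [hN : N.Normal] (hc : ∀ a ∈ N, ∀ b ∈ N, a * b = b * a) (h2 : IsPGroup 2 N)
    (e : G ⧸ N ≃* S5) (a : N →* ℂˣ)
    (ha : ∀ g : S5, g 4 = 4 → tr (A := N →* ℂˣ) e (act N hc) g a = a)
    (hno : ∀ b : N →* ℂˣ, (∀ g : S5, tr (A := N →* ℂˣ) e (act N hc) g b = b) → b = 1) (ha1 : a ≠ 1) :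
    ∃ F : inertia N (fn a) →* ℂˣ, ∀ n : N, F ⟨n, le_inertia' N a n.2⟩ = a n := by
  classical
  set ρ := tr (A := N →* ℂˣ) e (act N hc) with hρ
  -- the product
  have hprod : ∏ j, om ρ a j = 1 := hno _ (fun g => rho_prod ρ ha g)
  set T := inertia N (fn a) with hT
  have hNT : N ≤ T := le_inertia' N a
  let φ : T →* S5 := e.toMonoidHom.comp ((QuotientGroup.mk' N).comp T.subtype)
  have hφ : ∀ t : T, φ t = e (QuotientGroup.mk' N (t : G)) := fun t => rfl
  have hρφ : ∀ (t : T) (b : N →* ℂˣ), ρ (φ t) b = act N hc (QuotientGroup.mk' N (t : G)) b := by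
    intro t b
    rw [hφ, hρ, tr_apply]
  have hρφa : ∀ t : T, ρ (φ t) a = a := by
    intro t
    rw [hρφ]
    exact (mem_inertia_iff N hc a t).1 t.2
  have hφ4 : ∀ t : T, φ t 4 = 4 := by
    intro t
    by_contra hne
    apply ha1
    have hk : om ρ a (φ t 4) = a := by
      rw [← rho_om ρ ha (φ t) 4, om_four, hρφa]
    have hall : ∀ j, om ρ a j = a := by
      intro j
      by_cases hj : j = 4
      · rw [hj, om_four]
      · have h1 := rho_om ρ ha (swap (φ t 4) j) (φ t 4)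
        rw [swap_apply_left, hk, ha _ (swap_apply_of_ne_of_ne (Ne.symm hne) (Ne.symm hj))] at h1
        exact h1.symm
    apply hno
    intro g
    have h1 := rho_om ρ ha g 4
    rw [hall, hall] at h1
    exact h1
  have hlift : ∀ g : S5, g 4 = 4 → ∃ t : T, φ t = g := by
    intro g hg
    obtain ⟨x, hx⟩ := QuotientGroup.mk'_surjective N (e.symm g)
    have h1 : x ∈ T := by
      rw [hT, mem_inertia_iff N hc, hx, mem_St]
      exact ha g hg
    refine ⟨⟨x, h1⟩, ?_⟩
    rw [hφ]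
    show e (QuotientGroup.mk' N x) = g
    rw [hx, e.apply_symm_apply]
  have hφN : ∀ t : T, (t : G) ∈ N → φ t = 1 := by
    intro t ht
    rw [hφ]
    have : QuotientGroup.mk' N (t : G) = 1 := (QuotientGroup.eq_one_iff _).2 ht
    rw [this, map_one]
  -- the action
  let Ω := {j : Fin 5 // j ≠ 4}
  let _ : MulAction T Ω :=
    { smul := fun t j => ⟨φ t j, fun h => j.2 ((φ t).injective (h.trans (hφ4 t).symm))⟩
      one_smul := fun j => Subtype.ext (by show φ 1 j = j; rw [map_one]; rfl)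
      mul_smul := fun s t j => Subtype.ext (by show φ (s * t) j = φ s (φ t j); rw [map_mul]; rfl) }
  have hsmul : ∀ (t : T) (j : Ω), ((t • j : Ω) : Fin 5) = φ t j := fun t j => rfl
  have hMn : (N.subgroupOf T).Normal := inferInstance
  let lam : Ω → (N.subgroupOf T →* ℂˣ) := fun j =>
    (om ρ a j).comp (Subgroup.subgroupOfEquivOfLe hNT).toMonoidHom
  have hlam : ∀ (j : Ω) (m : N.subgroupOf T), lam j m = om ρ a j ⟨((m : T) : G), Subgroup.mem_subgroupOf.1 m.2⟩ :=
    fun j m => rfl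
  let ω₀ : Ω := ⟨0, by decide⟩
  have heq : ∀ (t : T) (j : Ω) (m : N.subgroupOf T), lam (t • j) m =
      lam j ⟨t⁻¹ * m * t, by
        have := hMn.conj_mem m m.2 t⁻¹
        rwa [inv_inv] at this⟩ := by
    intro t j m
    rw [hlam, hlam, hsmul, ← rho_om ρ ha (φ t) j, hρφ, act_mk]
    congr 1
    apply Subtype.ext
    rw [MulAut.conjNormal_symm_apply]
    rfl
  have htr : ∀ i j : Ω, ∃ t : T, t • i = j := by
    intro i j
    obtain ⟨t, ht⟩ := hlift (swap (i : Fin 5) j) (swap_apply_of_ne_of_ne (Ne.symm i.2) (Ne.symm j.2))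
    refine ⟨t, Subtype.ext ?_⟩
    rw [hsmul, ht, swap_apply_left]
  have hMs : N.subgroupOf T ≤ MulAction.stabilizer T ω₀ := by
    intro m hm
    rw [MulAction.mem_stabilizer_iff]
    apply Subtype.ext
    rw [hsmul, hφN m (Subgroup.mem_subgroupOf.1 hm)]
    rfl
  -- the extension to the stabiliser
  set H := MulAction.stabilizer T ω₀ with hH
  have hidx : ¬ 2 ^ 2 ∣ ((N.subgroupOf T).subgroupOf H).index := by
    have hker : (φ.comp H.subtype).ker = (N.subgroupOf T).subgroupOf H := by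
      ext x
      rw [MonoidHom.mem_ker, Subgroup.mem_subgroupOf, Subgroup.mem_subgroupOf]
      show e (QuotientGroup.mk' N ((x : T) : G)) = 1 ↔ _
      rw [map_eq_one_iff e e.injective]
      exact QuotientGroup.eq_one_iff _
    rw [← hker, Subgroup.index_ker]
    have h1 : (φ.comp H.subtype).range ≤ K₂ := by
      rintro _ ⟨x, rfl⟩
      refine ⟨hφ4 _, ?_⟩
      have h3 : (x : T) • ω₀ = ω₀ := MulAction.mem_stabilizer_iff.1 x.2
      exact congrArg Subtype.val h3
    have h3 := Subgroup.card_dvd_of_le h1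
    rw [card_K₂] at h3
    intro h4
    have := Nat.le_of_dvd (by norm_num) (h4.trans h3)
    have h5 : (4 : ℕ) ∣ 6 := h4.trans h3
    omega
  obtain ⟨μ, hμ⟩ := ext_of_sq (r := 2) ((N.subgroupOf T).subgroupOf H)
    ((h2.of_equiv (Subgroup.subgroupOfEquivOfLe hNT).symm).of_equiv
      (Subgroup.subgroupOfEquivOfLe hMs).symm) hidx
    ((lam ω₀).comp (Subgroup.subgroupOfEquivOfLe hMs).toMonoidHom) (by
      intro g n
      have h3 := heq (g : T)⁻¹ ω₀ ⟨((n : H) : T), Subgroup.mem_subgroupOf.1 n.2⟩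
      have h4 : (g : T)⁻¹ • ω₀ = ω₀ := by
        have h5 : (g : T) • ω₀ = ω₀ := MulAction.mem_stabilizer_iff.1 g.2
        rw [inv_smul_eq_iff]
        exact h5.symm
      rw [h4] at h3
      refine Eq.trans ?_ h3.symm
      show lam ω₀ _ = lam ω₀ _
      congr 1
      apply Subtype.ext
      show (g : T) * ((n : H) : T) * (g : T)⁻¹ = ((g : T)⁻¹)⁻¹ * ((n : H) : T) * (g : T)⁻¹
      rw [inv_inv])
  obtain ⟨F, hF⟩ := OneTransfer.exists_prod_ext htr (N.subgroupOf T) lam heq ω₀ hMs μ (by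
    intro m
    exact hμ ⟨⟨m, hMs m.2⟩, Subgroup.mem_subgroupOf.2 m.2⟩)
  refine ⟨F⁻¹, fun n => ?_⟩
  have h3 := hF ⟨⟨n, hNT n.2⟩, Subgroup.mem_subgroupOf.2 n.2⟩
  have h4 : ∏ j : Ω, om ρ a j n = (a n)⁻¹ := by
    have h5 : (∏ j, om ρ a j) n = 1 := by rw [hprod]; rfl
    rw [MonoidHom.finsetProd_apply] at h5
    have h6 : (∏ j : Fin 5, om ρ a j n) = (∏ j : Ω, om ρ a j n) * om ρ a 4 n := by
      rw [Fintype.prod_eq_mul_prod_compl (4 : Fin 5), mul_comm]
      congr 1
    rw [h6, om_four] at h5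
    exact eq_inv_of_mul_eq_one_left h5
  show (F ⟨n, _⟩)⁻¹ = a n
  rw [show (F ⟨n, le_inertia' N a n.2⟩) = ∏ j : Ω, om ρ a j n from h3, h4, inv_inv]

/-- **Case `G ⧸ N = S5`, `N` a 2-group**: some nontrivial linear character is invariant. -/
theorem Ctx.s5_two (h : Ctx 3 2 N) [N.Normal] (hIM : AllIM.{u} 3) (e : G ⧸ N ≃* S5) :
    ∃ b : N →* ℂˣ, b ≠ 1 ∧ St (act N h.comm) b = ⊤ := by
  have h3F : Fact (Nat.Prime 3) := ⟨Nat.prime_three⟩
  by_contra hcon
  have hno : ∀ b : N →* ℂˣ, (∀ g : S5, tr (A := N →* ℂˣ) e (act N h.comm) g b = b) → b = 1 := by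
    intro b hb
    by_contra hb1
    apply hcon
    refine ⟨b, hb1, eq_top_iff.2 fun x _ => ?_⟩
    rw [mem_St]
    have := hb (e x)
    rwa [tr_apply] at this
  have hsq : ∀ b : N →* ℂˣ, b * b = 1 := by
    intro b
    ext n
    have h1 : n * n = 1 := Subtype.ext (by
      have := h.pow n n.2
      rwa [pow_two] at this)
    rw [MonoidHom.mul_apply, ← map_mul, h1, map_one]
    rfl
  have hnt : ∃ b : N →* ℂˣ, b ≠ 1 := by
    have : Nontrivial N := (Subgroup.nontrivial_iff_ne_bot N).2 h.ne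
    exact exists_linear_ne_one h.pgr
  obtain ⟨a, ha1, ha⟩ := exists_fixed (A := N →* ℂˣ) (tr (A := N →* ℂˣ) e (act N h.comm)) hsq
    (fun b hb => exists_tr e _ b (exists_sylow_le N h.comm h.prm hb)) hnt
  obtain ⟨F, hF⟩ := ext_of_fixed h.comm h.pgr e a ha hno ha1
  have h1 := unique_tr e _ a (unique_of_ext N h.comm h.prm (fun T => hIM T) ha1 F hF).1
  -- two Sylow subgroups
  obtain ⟨Q, hQ⟩ := exists_sylow_mem (x := c) (by decide +kernel)
  obtain ⟨R, hR⟩ := exists_sylow_mem (x := swap 0 1 * swap 1 3) (by decide +kernel)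
  have hle : ∀ (P : Sylow 3 S5) (x : S5), x ∈ P → x ≠ 1 → x 4 = 4 →
      (P : Subgroup S5) ≤ St (tr (A := N →* ℂˣ) e (act N h.comm)) a := by
    intro P x hx hx1 hx4 z hz
    obtain ⟨y, hy, hy3, hy1, hall⟩ := exists_gen P
    have hy4 : y 4 = 4 := by
      rcases hall x hx with h2 | h2 | h2
      · exact absurd h2 hx1
      · rw [← h2]; exact hx4
      · have h3 : y = x * x := by
          rw [h2]
          calc y = (y * y * y) * y := by rw [hy3, one_mul]
            _ = y * y * (y * y) := by group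
        rw [h3, Perm.mul_apply, hx4, hx4]
    apply ha
    rcases hall z hz with h2 | h2 | h2
    · rw [h2]; rfl
    · rw [h2]; exact hy4
    · rw [h2, Perm.mul_apply, hy4, hy4]
  have hQR : Q = R := h1.unique (hle Q c hQ (by decide +kernel) (by decide +kernel))
    (hle R _ hR (by decide +kernel) (by decide +kernel))
  subst hQR
  obtain ⟨y, hy, hy3, hy1, hall⟩ := exists_gen Q
  have e1 := hall _ hQ
  have e2 := hall _ hR
  have key : ∀ y : S5, y * y * y = 1 → (c = 1 ∨ c = y ∨ c = y * y) →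
      (swap 0 1 * swap 1 3 = (1 : S5) ∨ swap 0 1 * swap 1 3 = y ∨ swap 0 1 * swap 1 3 = y * y) →
      False := by decide +kernel
  exact key y hy3 e1 e2

end Cfsg.Agent.H596.OneSfive
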