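import Cfsg.Agent.H670.PSolv
import Cfsg.Agent.H670.Bound
import Cfsg.Agent.Classification.QDW.FrobLift

/-!
# Groups with few irreducible characters of degree divisible by `p`: linear characters of an abelian
normal subgroup (helper596)

* `Prm p N` : the irreducible characters of `G` which are not trivial on `N` have degree prime to `p`;
* `act N` : the action of `G ⧸ N` on `N →* ℂˣ`, `N` an abelian normal subgroup;
* `St ρ a`, `Fx ρ Q` : stabilisers and fixed points;
* `exists_sylow_le` : under `Prm p N` each `lam ≠ 1` is fixed by a Sylow `p`-subgroup of `G ⧸ N`;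
* `prime_of_ext` : if `lam` extends to its inertia group the stabiliser of `lam` in `G ⧸ N` has no
  irreducible character of degree divisible by `p`.
-/

set_option autoImplicit false

open Cfsg

namespace Cfsg.Agent.H596.OneSing

open Cfsg.Agent.Characters.Core Cfsg.Agent.OddOrderCharacters.IndRes
  Cfsg.Agent.OddOrderCharacters.PF9.CliffGen Cfsg.Agent.Blocks.Knorr Cfsg.Agent.H670.PSing

universe u

section Abstract

variable {X A : Type*} [Group X] [CommGroup A]

/-- The stabiliser of `a`. -/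
def St (ρ : X →* MulAut A) (a : A) : Subgroup X where
  carrier := {x | ρ x a = a}
  one_mem' := by show ρ 1 a = a; rw [map_one]; rfl
  mul_mem' := by
    intro x y hx hy
    show ρ (x * y) a = a
    rw [map_mul]
    show ρ x (ρ y a) = a
    rw [show ρ y a = a from hy]; exact hx
  inv_mem' := by
    intro x hx
    show ρ x⁻¹ a = a
    have h : ρ x a = a := hx
    calc ρ x⁻¹ a = ρ x⁻¹ (ρ x a) := by rw [h]
      _ = ρ (x⁻¹ * x) a := by rw [map_mul]; rfl
      _ = a := by rw [inv_mul_cancel, map_one]; rfl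

theorem mem_St {ρ : X →* MulAut A} {a : A} {x : X} : x ∈ St ρ a ↔ ρ x a = a := Iff.rfl

/-- The fixed points of `Q`. -/
def Fx (ρ : X →* MulAut A) (Q : Subgroup X) : Subgroup A where
  carrier := {a | ∀ x ∈ Q, ρ x a = a}
  one_mem' := fun x _ => map_one _
  mul_mem' := fun {a b} ha hb x hx => by rw [map_mul, ha x hx, hb x hx]
  inv_mem' := fun {a} ha x hx => by rw [map_inv, ha x hx]

theorem mem_Fx {ρ : X →* MulAut A} {Q : Subgroup X} {a : A} : a ∈ Fx ρ Q ↔ ∀ x ∈ Q, ρ x a = a :=
  Iff.rfl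

theorem mem_Fx_iff_le {ρ : X →* MulAut A} {Q : Subgroup X} {a : A} : a ∈ Fx ρ Q ↔ Q ≤ St ρ a :=
  Iff.rfl

/-- A subgroup of index prime to `p` contains a Sylow `p`-subgroup. -/
theorem exists_sylow_le_of_index [Finite X] {p : ℕ} [hp : Fact p.Prime] (T : Subgroup X)
    (h : ¬ p ∣ T.index) : ∃ Q : Sylow p X, (Q : Subgroup X) ≤ T := by
  obtain ⟨P⟩ : Nonempty (Sylow p T) := inferInstance
  have h1 : IsPGroup p ((P : Subgroup T).map T.subtype) := P.isPGroup'.map _
  have h2 : ¬ p ∣ ((P : Subgroup T).map T.subtype).index := by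
    rw [Subgroup.index_map_subtype]
    exact Nat.Prime.not_dvd_mul hp.out P.not_dvd_index h
  exact ⟨h1.toSylow h2, by rw [IsPGroup.toSylow_coe]; exact Subgroup.map_subtype_le _⟩

/-- Two Sylow `p`-subgroups contained in a subgroup with normal Sylow `p`-subgroups are equal. -/
theorem sylow_eq_of_le [Finite X] {p : ℕ} [hp : Fact p.Prime] (T : Subgroup X)
    (h : ∀ P : Sylow p T, (P : Subgroup T).Normal) (Q R : Sylow p X) (hQ : (Q : Subgroup X) ≤ T)
    (hR : (R : Subgroup X) ≤ T) : Q = R := by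
  have h1 : Q.subtype hQ = R.subtype hR := by
    have := Sylow.unique_of_normal (Q.subtype hQ) (h _)
    exact Subsingleton.elim _ _
  have h2 : (Q : Subgroup X).subgroupOf T = (R : Subgroup X).subgroupOf T := by
    have := congrArg (fun P : Sylow p T => (P : Subgroup T)) h1
    simpa only [Sylow.coe_subtype] using this
  apply Sylow.ext
  have h3 := congrArg (Subgroup.map T.subtype) h2
  rwa [Subgroup.subgroupOf_map_subtype, Subgroup.subgroupOf_map_subtype, inf_eq_left.2 hQ,
    inf_eq_left.2 hR] at h3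

end Abstract

variable {G : Type u} [Group G]

/-- The irreducible characters not trivial on `N` have degree prime to `p`. -/
def Prm (p : ℕ) (N : Subgroup G) : Prop :=
  ∀ χ : G → ℂ, IsIrrCharacter G χ → (∃ n ∈ N, χ n ≠ χ 1) → ¬ p ∣ charDegree χ

theorem prm_of_le [Finite G] {p : ℕ} (N : Subgroup G) [N.Normal] (h1 : nSing p G ≤ 1)
    (h2 : nSing p (G ⧸ N) ≠ 0) : Prm p N := by
  intro χ hχ hne hd
  have := nSing_quotient_lt N hχ hd hne
  omega

/-- The conjugation action of `G` on the linear characters of `N`. -/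
def act₀ (N : Subgroup G) [N.Normal] : G →* MulAut (N →* ℂˣ) where
  toFun g := (MulAut.conjNormal g : MulAut N).monoidHomCongrLeft
  map_one' := by
    ext lam n
    rw [map_one]
    rfl
  map_mul' g h := by
    ext lam n
    rw [map_mul]
    rfl

theorem act₀_apply (N : Subgroup G) [N.Normal] (g : G) (lam : N →* ℂˣ) (n : N) :
    act₀ N g lam n = lam ((MulAut.conjNormal g : MulAut N).symm n) := rfl

theorem conjNormal_symm_eq (N : Subgroup G) [N.Normal] (hc : ∀ a ∈ N, ∀ b ∈ N, a * b = b * a)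
    {g : G} (hg : g ∈ N) (n : N) : (MulAut.conjNormal g : MulAut N).symm n = n := by
  apply Subtype.ext
  rw [MulAut.conjNormal_symm_apply, mul_assoc, hc n n.2 g hg]
  group

/-- The action of `G ⧸ N` on the linear characters of the abelian normal subgroup `N`. -/
def act (N : Subgroup G) [N.Normal] (hc : ∀ a ∈ N, ∀ b ∈ N, a * b = b * a) :
    G ⧸ N →* MulAut (N →* ℂˣ) :=
  QuotientGroup.lift N (act₀ N) (by
    intro g hg
    ext lam n
    rw [act₀_apply, conjNormal_symm_eq N hc hg]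
    rfl)

theorem act_mk (N : Subgroup G) [N.Normal] (hc : ∀ a ∈ N, ∀ b ∈ N, a * b = b * a) (g : G)
    (lam : N →* ℂˣ) (n : N) :
    act N hc (QuotientGroup.mk' N g) lam n = lam ((MulAut.conjNormal g : MulAut N).symm n) := rfl

/-- The linear character as a function. -/
def fn {N : Subgroup G} (lam : N →* ℂˣ) : N → ℂ := fun n => (lam n : ℂ)

theorem fn_ne_one {N : Subgroup G} {lam : N →* ℂˣ} (h : lam ≠ 1) : fn lam ≠ 1 := by
  intro h1
  apply h
  ext n
  exact congrFun h1 n

theorem mem_inertia_iff (N : Subgroup G) [hN : N.Normal] (hc : ∀ a ∈ N, ∀ b ∈ N, a * b = b * a)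
    (lam : N →* ℂˣ) (g : G) :
    g ∈ inertia N (fn lam) ↔ QuotientGroup.mk' N g ∈ St (act N hc) lam := by
  rw [mem_inertia', mem_St]
  constructor
  · intro h
    ext n
    rw [act_mk]
    have h1 := h ((MulAut.conjNormal g : MulAut N).symm n)
    have h2 : (⟨g * ((MulAut.conjNormal g : MulAut N).symm n : N) * g⁻¹,
        hN.conj_mem _ ((MulAut.conjNormal g : MulAut N).symm n).2 g⟩ : N) = n := by
      apply Subtype.ext
      show g * _ * g⁻¹ = (n : G)
      rw [MulAut.conjNormal_symm_apply]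
      group
    rw [h2] at h1
    exact h1.symm
  · intro h n
    have h1 := DFunLike.congr_fun h ⟨g * n * g⁻¹, hN.conj_mem _ n.2 g⟩
    rw [act_mk] at h1
    have h2 : (MulAut.conjNormal g : MulAut N).symm ⟨g * n * g⁻¹, hN.conj_mem _ n.2 g⟩ = n := by
      apply Subtype.ext
      rw [MulAut.conjNormal_symm_apply]
      show g⁻¹ * (g * n * g⁻¹) * g = n
      group
    rw [h2] at h1
    show ((lam _ : ℂˣ) : ℂ) = (lam n : ℂ)
    rw [h1]

theorem le_inertia' (N : Subgroup G) [N.Normal] (lam : N →* ℂˣ) : N ≤ inertia N (fn lam) :=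
  le_inertia (isIrr_isClassFunction (Characters.Linear.isIrrCharacter_hom lam))

theorem St_eq_map (N : Subgroup G) [N.Normal] (hc : ∀ a ∈ N, ∀ b ∈ N, a * b = b * a)
    (lam : N →* ℂˣ) : St (act N hc) lam = (inertia N (fn lam)).map (QuotientGroup.mk' N) := by
  ext x
  obtain ⟨g, rfl⟩ := QuotientGroup.mk'_surjective N x
  rw [← mem_inertia_iff]
  constructor
  · intro h
    exact Subgroup.mem_map_of_mem _ h
  · rintro ⟨g', hg', h⟩
    have h1 : g'⁻¹ * g ∈ N := QuotientGroup.eq.1 h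
    have h2 : g = g' * (g'⁻¹ * g) := by group
    rw [h2]
    exact mul_mem hg' (le_inertia' N lam h1)

theorem index_St (N : Subgroup G) [N.Normal] (hc : ∀ a ∈ N, ∀ b ∈ N, a * b = b * a)
    (lam : N →* ℂˣ) : (St (act N hc) lam).index = (inertia N (fn lam)).index := by
  rw [St_eq_map, Subgroup.index_map_eq _ (QuotientGroup.mk'_surjective N)]
  rw [QuotientGroup.ker_mk']
  exact le_inertia' N lam

section fin

variable [Finite G] {p : ℕ}

omit [Finite G] in
theorem charDegree_ind [Fintype G] (T : Subgroup G) {φ : T → ℂ} (hφ : IsIrrCharacter T φ) :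
    charDegree (indFun T φ) = T.index * charDegree φ := by
  apply charDegree_eq_of
  rw [indFun_apply_one, charDegree_eq hφ, Nat.cast_mul]

/-- Index of the inertia group and the characters of the inertia group above. -/
theorem index_and_over (N : Subgroup G) [hN : N.Normal] (hprm : Prm p N) {lam : N →* ℂˣ}
    (hlam : lam ≠ 1) : ¬ p ∣ (inertia N (fn lam)).index ∧
      ∃ ψ : inertia N (fn lam) → ℂ, IsIrrCharacter _ ψ ∧ ¬ p ∣ charDegree ψ ∧
        ∀ n : N, ψ ⟨n, le_inertia' N lam n.2⟩ = ψ 1 * lam n := by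
  classical
  have : Fintype G := Fintype.ofFinite G
  have : Fintype N := Fintype.ofFinite _
  have hθ : IsIrrCharacter N (fn lam) := Characters.Linear.isIrrCharacter_hom lam
  have hTmem : ∀ g, g ∈ inertia N (fn lam) ↔
      OddOrderCharacters.NormalInduced.conjFn N (fn lam) g = fn lam := fun g => Iff.rfl
  have : Fintype (inertia N (fn lam)) := Fintype.ofFinite _
  obtain ⟨χ, hχ⟩ := Blocks.Over.exists_over N ⟨fn lam, hθ⟩
  obtain ⟨ψ, hψ, hψθ, hψχ⟩ := exists_ind hθ hTmem (le_inertia' N lam) χ.2 hχ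
  have hχdeg := hprm _ χ.2 (exists_ne_of_over N hθ (fn_ne_one hlam) hχ)
  rw [hψχ, charDegree_ind _ hψ] at hχdeg
  refine ⟨fun h => hχdeg (Dvd.dvd.mul_right h _), ψ, hψ,
    fun h => hχdeg (Dvd.dvd.mul_left h _), ?_⟩
  exact resTo_linear (fun g hg => (hTmem g).1 hg) (le_inertia' N lam) hψ hψθ

/-- Each linear character is fixed by a Sylow `p`-subgroup of `G ⧸ N`. -/
theorem exists_sylow_le [hp : Fact p.Prime] (N : Subgroup G) [N.Normal]
    (hc : ∀ a ∈ N, ∀ b ∈ N, a * b = b * a) (hprm : Prm p N) {lam : N →* ℂˣ} (hlam : lam ≠ 1) :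
    ∃ Q : Sylow p (G ⧸ N), (Q : Subgroup (G ⧸ N)) ≤ St (act N hc) lam := by
  apply exists_sylow_le_of_index
  rw [index_St]
  exact (index_and_over N hprm hlam).1

theorem prime_of_ext_aux [Fintype G] (N T : Subgroup G) [hN : N.Normal] [Fintype N] [Fintype T]
    (hNT : N ≤ T) (hprm : Prm p N) {lam : N →* ℂˣ} (hlam : lam ≠ 1)
    (hTmem : ∀ g, g ∈ T ↔ OddOrderCharacters.NormalInduced.conjFn N (fn lam) g = fn lam)
    (F : T →* ℂˣ) (hF : ∀ n : N, F ⟨n, hNT n.2⟩ = lam n) {Y : Type u} [Group Y] (f : T →* Y)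
    (hfs : Function.Surjective f) (hfN : ∀ n : N, f ⟨n, hNT n.2⟩ = 1) {β : Y → ℂ}
    (hβ : IsIrrCharacter Y β) : ¬ p ∣ charDegree β := by
  intro hpβ
  have hβirr : IsIrrCharacter T (β ∘ f) := isIrr_comp f hfs hβ
  have hker : ∀ n : N, (β ∘ f) ⟨n, hNT n.2⟩ = (β ∘ f) 1 := by
    intro n
    show β (f _) = β (f 1)
    rw [hfN, map_one]
  have hφ : IsIrrCharacter T (fun t => (F t : ℂ) * (β ∘ f) t) :=
    OddOrderCharacters.InertiaAbelian.isIrr_mul_hom F hβirr
  have hirr := irr_twist hTmem hNT hF hβirr hker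
  refine hprm _ hirr ?_ ?_
  · by_contra hcon
    push Not at hcon
    have h1 : classInner (res T (indFun T (fun t => (F t : ℂ) * (β ∘ f) t)))
        (fun t => (F t : ℂ) * (β ∘ f) t) ≠ 0 := by
      rw [← classInner_indFun_right T _ (isClassFunction_indFun T _), classInner_irr_self hirr]
      exact one_ne_zero
    apply hlam
    ext n
    have h3 := constituent_ker (isCharacter_res T (isIrr_isCharacter hirr)) hφ h1
      (y := ⟨n, hNT n.2⟩) (by
        show indFun T (fun t => (F t : ℂ) * (β ∘ f) t) n =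
          indFun T (fun t => (F t : ℂ) * (β ∘ f) t) 1
        exact hcon n n.2)
    have h4 : (β ∘ f) 1 ≠ 0 := isIrr_apply_one_ne_zero hβirr
    simp only [hF, hker, map_one, Units.val_one, one_mul] at h3
    have h5 : ((lam n : ℂ) - 1) * (β ∘ f) 1 = 0 := by rw [sub_mul, h3, one_mul, sub_self]
    rcases mul_eq_zero.1 h5 with h | h
    · exact sub_eq_zero.1 h
    · exact absurd h h4
  · rw [charDegree_ind _ hφ]
    apply Dvd.dvd.mul_left
    have h6 : charDegree (fun t => (F t : ℂ) * (β ∘ f) t) = charDegree β := by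
      apply charDegree_eq_of
      simp only [map_one, Units.val_one, one_mul]
      show β (f 1) = _
      rw [map_one, charDegree_eq hβ]
    rw [h6]
    exact hpβ

/-- If `lam` extends to its inertia group the stabiliser has no irreducible character of degree
divisible by `p`. -/
theorem prime_of_ext (N : Subgroup G) [hN : N.Normal] (hc : ∀ a ∈ N, ∀ b ∈ N, a * b = b * a)
    (hprm : Prm p N) {lam : N →* ℂˣ} (hlam : lam ≠ 1) (F : inertia N (fn lam) →* ℂˣ)
    (hF : ∀ n : N, F ⟨n, le_inertia' N lam n.2⟩ = lam n) :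
    ∀ β : St (act N hc) lam → ℂ, IsIrrCharacter _ β → ¬ p ∣ charDegree β := by
  classical
  have : Fintype G := Fintype.ofFinite G
  have : Fintype N := Fintype.ofFinite _
  have : Fintype (inertia N (fn lam)) := Fintype.ofFinite _
  intro β hβ
  -- the projection
  let f : inertia N (fn lam) →* St (act N hc) lam :=
    ((QuotientGroup.mk' N).comp (inertia N (fn lam)).subtype).codRestrict (St (act N hc) lam)
      (fun t => (mem_inertia_iff N hc lam t).1 t.2)
  have hfs : Function.Surjective f := by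
    rintro ⟨x, hx⟩
    rw [St_eq_map] at hx
    obtain ⟨g, hg, rfl⟩ := hx
    exact ⟨⟨g, hg⟩, rfl⟩
  have hfN : ∀ n : N, f ⟨n, le_inertia' N lam n.2⟩ = 1 := fun n =>
    Subtype.ext ((QuotientGroup.eq_one_iff (n : G)).2 n.2)
  exact prime_of_ext_aux N _ (le_inertia' N lam) hprm hlam (fun g => Iff.rfl) F hF f hfs hfN hβ

/-- Uniqueness of the Sylow subgroup fixing `lam`, in case `lam` extends. -/
theorem unique_of_ext [hp : Fact p.Prime] (N : Subgroup G) [hN : N.Normal]
    (hc : ∀ a ∈ N, ∀ b ∈ N, a * b = b * a) (hprm : Prm p N)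
    (hIM : ∀ T : Subgroup (G ⧸ N), IM p T) {lam : N →* ℂˣ} (hlam : lam ≠ 1)
    (F : inertia N (fn lam) →* ℂˣ) (hF : ∀ n : N, F ⟨n, le_inertia' N lam n.2⟩ = lam n) :
    (∃! Q : Sylow p (G ⧸ N), (Q : Subgroup (G ⧸ N)) ≤ St (act N hc) lam) ∧
      ∀ P : Sylow p (St (act N hc) lam), (P : Subgroup (St (act N hc) lam)).Normal ∧
        ∀ a ∈ (P : Subgroup (St (act N hc) lam)), ∀ b ∈ (P : Subgroup (St (act N hc) lam)),
          a * b = b * a := by
  have h1 := hIM _ (prime_of_ext N hc hprm hlam F hF)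
  refine ⟨?_, h1⟩
  obtain ⟨Q, hQ⟩ := exists_sylow_le N hc hprm hlam
  exact ⟨Q, hQ, fun R hR => sylow_eq_of_le _ (fun P => (h1 P).1) R Q hR hQ⟩

/-- Extension of `lam` for a normal `p`-subgroup `N`. -/
theorem ext_of_pgroup [hp : Fact p.Prime] (N : Subgroup G) [hN : N.Normal] (hNp : IsPGroup p N)
    (hprm : Prm p N) {lam : N →* ℂˣ} (hlam : lam ≠ 1) :
    ∃ F : inertia N (fn lam) →* ℂˣ, ∀ n : N, F ⟨n, le_inertia' N lam n.2⟩ = lam n := by
  obtain ⟨-, ψ, hψ, hψd, hψr⟩ := index_and_over N hprm hlam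
  have hNT := le_inertia' N lam
  have hN₁p : IsPGroup p (N.subgroupOf (inertia N (fn lam))) :=
    hNp.of_equiv (Subgroup.subgroupOfEquivOfLe hNT).symm
  obtain ⟨F, hF⟩ := exists_ext (N.subgroupOf (inertia N (fn lam))) hN₁p
    (lam.comp (Subgroup.subgroupOfEquivOfLe hNT).toMonoidHom) hψ hψd (by
      intro n
      exact hψr ⟨((n : inertia N (fn lam)) : G), Subgroup.mem_subgroupOf.1 n.2⟩)
  exact ⟨F, fun n => hF ⟨⟨n, hNT n.2⟩, Subgroup.mem_subgroupOf.2 n.2⟩⟩

omit [Finite G] in
/-- Extension of an invariant linear character to a group with cyclic quotient. -/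
theorem ext_of_cyclic {H : Type u} [Group H] [Finite H] (M : Subgroup H) [hM : M.Normal]
    (hcyc : IsCyclic (H ⧸ M)) (lam : M →* ℂˣ)
    (hinv : ∀ (g : H) (n : M), lam ⟨g * n * g⁻¹, hM.conj_mem (n : H) n.2 g⟩ = lam n) :
    ∃ F : H →* ℂˣ, ∀ n : M, F n = lam n := by
  classical
  have : Fintype H := Fintype.ofFinite _
  have : Fintype M := Fintype.ofFinite _
  have hθ : IsIrrCharacter M (fn lam) := Characters.Linear.isIrrCharacter_hom lam
  obtain ⟨ζ, hζ⟩ := Blocks.Over.exists_over M ⟨fn lam, hθ⟩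
  have h1 := Classification.QDW.FrobLift.restrict_eq M hcyc hθ (by
    intro g n
    show ((lam _ : ℂˣ) : ℂ) = (lam n : ℂ)
    rw [hinv]) ζ.2 hζ
  have h2 : (ζ : H → ℂ) 1 = 1 := by
    have h3 : (ζ : H → ℂ) ((1 : M) : H) = ((lam 1 : ℂˣ) : ℂ) := h1 1
    rw [Subgroup.coe_one, map_one, Units.val_one] at h3
    exact h3
  obtain ⟨F, hF⟩ := Characters.Linear.exists_hom_of_isIrrCharacter ζ.2 h2
  refine ⟨F, fun n => Units.ext ?_⟩
  have := h1 n
  rw [hF] at this
  exact this

/-- Extension of an invariant linear character of a normal `r`-subgroup `M` if the index of `M` is not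
divisible by `r ^ 2`. -/
theorem ext_of_sq {H : Type u} [Group H] [Finite H] {r : ℕ} [hr : Fact r.Prime] (M : Subgroup H)
    [hM : M.Normal] (hMr : IsPGroup r M) (h2 : ¬ r ^ 2 ∣ M.index) (lam : M →* ℂˣ)
    (hinv : ∀ (g : H) (n : M), lam ⟨g * n * g⁻¹, hM.conj_mem (n : H) n.2 g⟩ = lam n) :
    ∃ F : H →* ℂˣ, ∀ n : M, F n = lam n := by
  classical
  obtain ⟨P⟩ : Nonempty (Sylow r H) := inferInstance
  have hMP : M ≤ (P : Subgroup H) := hMr.le_sylow_of_normal P
  have hMn : (M.subgroupOf (P : Subgroup H)).Normal := inferInstance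
  have hrel : ∃ k : ℕ, M.relIndex (P : Subgroup H) = r ^ k := by
    obtain ⟨k, hk⟩ := (IsPGroup.iff_card (p := r)).1 P.isPGroup'
    have h1 : M.relIndex (P : Subgroup H) ∣ r ^ k := by
      rw [← hk]; exact Subgroup.index_dvd_card _
    obtain ⟨j, -, hj⟩ := (Nat.dvd_prime_pow hr.out).1 h1
    exact ⟨j, hj⟩
  have hcyc : IsCyclic ((P : Subgroup H) ⧸ M.subgroupOf (P : Subgroup H)) := by
    obtain ⟨k, hk⟩ := hrel
    have hk1 : k ≤ 1 := by
      by_contra hcon
      apply h2
      have h3 : M.relIndex (P : Subgroup H) ∣ M.index := Subgroup.relIndex_dvd_index_of_normal M _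
      exact (pow_dvd_pow r (by omega)).trans (hk ▸ h3)
    have hcard : Nat.card ((P : Subgroup H) ⧸ M.subgroupOf (P : Subgroup H)) = r ^ k := hk
    interval_cases k
    · rw [pow_zero] at hcard
      have := (Nat.card_eq_one_iff_unique.1 hcard).1
      infer_instance
    · rw [pow_one] at hcard
      exact isCyclic_of_prime_card hcard
  obtain ⟨ν, hν⟩ := ext_of_cyclic (M.subgroupOf (P : Subgroup H)) hcyc
    (lam.comp (Subgroup.subgroupOfEquivOfLe hMP).toMonoidHom) (by
      intro g n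
      exact hinv (g : H) ⟨((n : (P : Subgroup H)) : H), Subgroup.mem_subgroupOf.1 n.2⟩)
  obtain ⟨μ, hμ, hμ1, hμN⟩ := Cfsg.Agent.S0864.result M (fn lam)
    ⟨Characters.Linear.isCharacter_hom lam, by simp [fn]⟩ (by
      intro g n
      show ((lam _ : ℂˣ) : ℂ) = (lam n : ℂ)
      rw [hinv]) (by
      intro q hq hqo
      have hqp : q = r := by
        obtain ⟨k, hk⟩ := (IsPGroup.iff_card (p := r) (G := M)).1 hMr
        have h1 : (fn lam) ^ (r ^ k) = 1 := by
          funext n
          show (lam n : ℂ) ^ (r ^ k) = 1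
          rw [← Units.val_pow_eq_pow_val, ← map_pow, ← hk, pow_card_eq_one', map_one, Units.val_one]
        have h2 := orderOf_dvd_of_pow_eq_one h1
        exact (Nat.prime_dvd_prime_iff_eq hq hr.out).1 (hq.dvd_of_dvd_pow (hqo.trans h2))
      subst hqp
      refine ⟨(P : Subgroup H), hMP, fun x => (ν x : ℂ), ?_, hrel,
        Characters.Linear.isCharacter_hom ν, by simp, fun n => ?_⟩
      · exact Nat.Coprime.symm ((Nat.Prime.coprime_iff_not_dvd hq).2 P.not_dvd_index)
      · show ((ν ⟨(n : H), hMP n.2⟩ : ℂˣ) : ℂ) = lam n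
        have := hν ⟨⟨(n : H), hMP n.2⟩, Subgroup.mem_subgroupOf.2 n.2⟩
        rw [this]
        rfl)
  obtain ⟨F, hF⟩ := Characters.Linear.exists_hom_of_isCharacter hμ hμ1
  refine ⟨F, fun n => Units.ext ?_⟩
  have h3 : μ n = ((lam n : ℂˣ) : ℂ) := hμN n
  rw [← h3, hF]

/-- Extension of `lam` for a normal `r`-subgroup `N` whose index is not divisible by `r ^ 2`. -/
theorem ext_of_sq' {r : ℕ} [hr : Fact r.Prime] (N : Subgroup G) [hN : N.Normal]
    (hNr : IsPGroup r N) (h2 : ¬ r ^ 2 ∣ N.index) (lam : N →* ℂˣ) :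
    ∃ F : inertia N (fn lam) →* ℂˣ, ∀ n : N, F ⟨n, le_inertia' N lam n.2⟩ = lam n := by
  have hNT := le_inertia' N lam
  obtain ⟨F, hF⟩ := ext_of_sq (N.subgroupOf (inertia N (fn lam)))
    (hNr.of_equiv (Subgroup.subgroupOfEquivOfLe hNT).symm) (fun h => h2 (h.trans
      (Subgroup.relIndex_dvd_index_of_normal N _)))
    (lam.comp (Subgroup.subgroupOfEquivOfLe hNT).toMonoidHom) (by
      intro g n
      have h1 := (mem_inertia').1 g.2 ⟨((n : inertia N (fn lam)) : G), Subgroup.mem_subgroupOf.1 n.2⟩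
      exact Units.ext h1)
  exact ⟨F, fun n => hF ⟨⟨n, hNT n.2⟩, Subgroup.mem_subgroupOf.2 n.2⟩⟩

end fin

end Cfsg.Agent.H596.OneSing
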